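import Cfsg.Agent.Lib.Sporadic.FiTransfer.Model

/-!
# A transposition of Fi22 commutes with at least 693 others
-/

set_option autoImplicit false
set_option maxRecDepth 100000

open Cfsg.Spor

namespace CfsgLib.Sporadic.FiTransfer.Uniq

open CosetCert CosetCert.FiP
open CosetCert.FiData (table)

attribute [local irreducible] PTab.img

theorem exists_many : ∃ Z : Finset Fi22, 693 ≤ Z.card ∧
    ∀ z ∈ Z, (∃ g : Fi22, z = g * tr * g⁻¹) ∧ z ≠ tr ∧ Commute tr z := by
  classical
  set x := wd (Fi22.b * Fi22.c * Fi22.a * Fi22.b) with hx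
  have hxc : x * tr * x⁻¹ = wd Fi22.c := by
    have := wd_eq (r := Fi22.b * Fi22.c * Fi22.a * Fi22.b * Fi22.a *
      (Fi22.b * Fi22.c * Fi22.a * Fi22.b)⁻¹) (s := Fi22.c) (by decide +kernel)
      (by decide +kernel) (by decide +kernel)
    simpa [wd, tr, hx] using this
  have hcomm : Commute tr (wd Fi22.c) := by
    have := wd_eq (r := Fi22.a * Fi22.c) (s := Fi22.c * Fi22.a) (by decide +kernel)
      (by decide +kernel) (by decide +kernel)
    simpa [wd, tr, Commute, SemiconjBy] using this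
  have hca : wd Fi22.c ≠ tr := wd_ne (by decide +kernel) (by decide +kernel) (by decide +kernel)
  obtain ⟨O, hO, e₁, hc₁⟩ := suborbit (b := 6) (by decide +kernel) FiData.search693_ok
  rw [show FiData.search693.length = 692 by decide +kernel] at hc₁
  have hmem : hom x pt ∈ O := by
    rw [e₁, PTab.mem_maskSet, hx, hom_wd (by decide +kernel)]
    decide +kernel
  have hk : ∀ o : O, ∃ k ∈ grpH, hom k (hom x pt) = o.1 := by
    intro o
    rw [← Finset.mem_coe, hO] at hmem
    have h2 : (o.1 : Fin table.N) ∈ (O : Set (Fin table.N)) := o.2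
    rw [hO, ← MulAction.orbit_eq_iff.2 hmem] at h2
    obtain ⟨⟨π, hπ⟩, he⟩ := h2
    obtain ⟨k, hk, rfl⟩ := Subgroup.mem_map.1 hπ
    exact ⟨k, hk, he⟩
  choose k hk hkv using hk
  have hfix : ∀ o : O, k o * tr * (k o)⁻¹ = tr := fun o => by
    rw [Subgroup.mem_centralizer_singleton_iff.1 (grpH_le (hk o))]; group
  let z : O → Fi22 := fun o => k o * wd Fi22.c * (k o)⁻¹
  have hinj : Function.Injective z := by
    intro o o' h
    have h1 : ((k o' * x)⁻¹ * (k o * x)) * tr * ((k o' * x)⁻¹ * (k o * x))⁻¹ = tr := by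
      have e : k o * (x * tr * x⁻¹) * (k o)⁻¹ = k o' * (x * tr * x⁻¹) * (k o')⁻¹ := by rw [hxc]; exact h
      calc _ = (k o' * x)⁻¹ * (k o * (x * tr * x⁻¹) * (k o)⁻¹) * (k o' * x) := by group
        _ = tr := by rw [e]; group
    have h2 : (k o' * x)⁻¹ * (k o * x) ∈ grpH := by
      rw [← centralizer_tr, Subgroup.mem_centralizer_singleton_iff]
      exact (eq_mul_inv_iff_mul_eq.1 h1.symm).symm
    have h3 := congrArg (hom (k o' * x)) (hom_fix _ h2)
    rw [← Equiv.Perm.mul_apply, ← map_mul, mul_inv_cancel_left, map_mul, map_mul,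
      Equiv.Perm.mul_apply, Equiv.Perm.mul_apply, hkv, hkv] at h3
    exact Subtype.ext h3
  refine ⟨Finset.univ.map ⟨z, hinj⟩, ?_, ?_⟩
  · rw [Finset.card_map, Finset.card_univ, Fintype.card_coe, hc₁]
  · intro y hy
    obtain ⟨o, -, rfl⟩ := Finset.mem_map.1 hy
    refine ⟨⟨k o * x, ?_⟩, fun e => hca ?_, ?_⟩
    · show k o * wd Fi22.c * (k o)⁻¹ = _
      rw [← hxc]; group
    · have e' : k o * wd Fi22.c * (k o)⁻¹ = k o * tr * (k o)⁻¹ := e.trans (hfix o).symm
      exact mul_left_cancel (mul_right_cancel e')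
    · have := (Commute.conj_iff (k o)).2 hcomm
      rwa [hfix o] at this

end CfsgLib.Sporadic.FiTransfer.Uniq
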