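import Cfsg.Agent.Lib.Sporadic.FiTransfer.Uniq.LevelData
import Cfsg.Agent.Lib.Sporadic.FiTransfer.Uniq.CaseTwo00
import Cfsg.Agent.Lib.Sporadic.FiTransfer.Uniq.CaseTwo01
import Cfsg.Agent.Lib.Sporadic.FiTransfer.Uniq.CaseTwo02
import Cfsg.Agent.Lib.Sporadic.FiTransfer.Uniq.CaseTwo10
import Cfsg.Agent.Lib.Sporadic.FiTransfer.Uniq.CaseTwo20
import Cfsg.Agent.Lib.Sporadic.FiTransfer.Uniq.CaseTwo30
import Cfsg.Agent.Lib.Sporadic.FiTransfer.Uniq.CaseFour0
import Cfsg.Agent.Lib.Sporadic.FiTransfer.Uniq.CaseFour1
import Cfsg.Agent.Lib.Sporadic.FiTransfer.Uniq.CaseFour2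
import Cfsg.Agent.Lib.Sporadic.FiTransfer.Uniq.CaseFive0
import Cfsg.Agent.Lib.Sporadic.FiTransfer.Uniq.CaseFive1
import Cfsg.Agent.Lib.Sporadic.FiTransfer.Uniq.CaseFive2

/-!
# The facts read off from the classification
-/

set_option autoImplicit false
set_option maxRecDepth 100000
set_option maxHeartbeats 0

namespace CfsgLib.Sporadic.FiTransfer.Uniq

/-- Commuting on codes. -/
def com (p q : ℕ) : Bool := Nat.beq (rc p q) q

/-- The standard chains of length `k`. -/
def leaves (k : ℕ) : List (List ℕ) := leafTab.getD k []

/-- The pattern of the next member of a chain. -/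
def chainPat (k : ℕ) : List Bool := (List.range k).map fun j => !(Nat.beq (j + 1) k)

theorem levels_ok : ∀ lv ∈ levels, levelCheck lv = true ∧ lv.pre.all (fun p => mem p ptCodes) = true := by
  intro lv h
  have h2 : levels.all (fun lv => lv.pre.all fun p => mem p ptCodes) = true := by decide +kernel
  refine ⟨?_, List.all_eq_true.1 h2 lv h⟩
  simp only [levels, List.mem_cons, List.not_mem_nil, or_false] at h
  rcases h with rfl | rfl | rfl | rfl | rfl | rfl | rfl | rfl | rfl
  exacts [level0_ok, level1_ok, level2_ok, level3_ok, level4_ok, level5_ok, level6_ok, level7_ok, level8_ok]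

theorem levels_next : ((List.range 6).all fun k => (leaves k).all fun L => levels.any fun lv =>
    decide (lv.pre = L) && decide (lv.pat = chainPat k) &&
      lv.roots.all fun r => decide (L ++ [r] ∈ leaves (k + 1))) = true := by decide +kernel

theorem leaves_len : ((List.range 7).all fun k => (leaves k).all fun L =>
    Nat.beq L.length k && L.all fun p => mem p ptCodes) = true := by decide +kernel

theorem leaves_zero : leaves 0 = [[]] := by decide +kernel

/-- A list of codes forms a chain. -/
def isChain (l : List ℕ) : Bool :=
  (List.range l.length).all fun i => (List.range l.length).all fun j => !(Nat.blt i j) ||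
    ((com (l.getD i 0) (l.getD j 0) == !(Nat.beq (i + 1) j)) && !(Nat.beq (l.getD i 0) (l.getD j 0)))

theorem five_ok : (leaves 2).all (fun L =>
    Nat.beq fiveList.length 5 && isChain fiveList &&
      fiveList.all fun z => mem z ptCodes && L.all fun p => com p z && !(Nat.beq p z)) = true := by
  decide +kernel

/-- The cases starting from a chain of five and a point commuting with it. -/
def casesTwo : List Case := [caseTwo00, caseTwo01, caseTwo02, caseTwo10, caseTwo20, caseTwo30]
/-- The cases starting from a chain of six. -/
def casesFour : List Case := [caseFour0, caseFour1, caseFour2]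
/-- The cases starting from six members seen from the end `i`. -/
def casesFive : List Case := [caseFive0, caseFive1, caseFive2]

theorem casesTwo_ok : ∀ c ∈ casesTwo, c.ok = true := by
  intro c h
  simp only [casesTwo, List.mem_cons, List.not_mem_nil, or_false] at h
  rcases h with rfl | rfl | rfl | rfl | rfl | rfl
  exacts [caseTwo00_ok, caseTwo01_ok, caseTwo02_ok, caseTwo10_ok, caseTwo20_ok, caseTwo30_ok]

theorem casesFour_ok : ∀ c ∈ casesFour, c.ok = true := by
  intro c h
  simp only [casesFour, List.mem_cons, List.not_mem_nil, or_false] at h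
  rcases h with rfl | rfl | rfl
  exacts [caseFour0_ok, caseFour1_ok, caseFour2_ok]

theorem casesFive_ok : ∀ c ∈ casesFive, c.ok = true := by
  intro c h
  simp only [casesFive, List.mem_cons, List.not_mem_nil, or_false] at h
  rcases h with rfl | rfl | rfl
  exacts [caseFive0_ok, caseFive1_ok, caseFive2_ok]

theorem two_ext : (leaves 5).all (fun L => ptCodes.all fun q =>
    !(hasPat L [true, true, true, true, true] q) || casesTwo.any fun c =>
      decide (c.key = L ++ [q]) && c.forbid.isEmpty &&
        c.outs.all fun o => Nat.beq o.2.length 6 && isChain o.2) = true := by decide +kernel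

/-- The pattern of `c` with respect to the chain `g f e D h i`. -/
def patC : List Bool := [true, true, true, false, true, true]

/-- The facts about the exact set `N` seen from `a`. -/
def factsA (L : List ℕ) (N : List ℕ) : Bool :=
  (ptCodes.any fun q => hasPat L patC q && !(mem q N)) &&
  ptCodes.all fun q => !(hasPat L patC q && !(mem q N)) ||
    (N.all fun y =>
      (!(com q y && com (L.getD 3 0) y && com (L.getD 2 0) y && com (L.getD 1 0) y && !(com (L.getD 4 0) y)) ||
        Nat.beq y (L.getD 5 0)) &&
      (!(com q y && com (L.getD 3 0) y && com (L.getD 2 0) y && com (L.getD 4 0) y && com (L.getD 5 0) y &&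
          !(com (L.getD 1 0) y)) ||
        Nat.beq y (L.getD 0 0)))

theorem four_ext : (leaves 6).all (fun L => casesFour.any fun c =>
    decide (c.key = L) && c.forbid.isEmpty && c.outs.all fun o => o.1 && factsA L o.2) = true := by
  decide +kernel

/-- The facts about the exact set seen from `i`. -/
def factsI (L : List ℕ) (N : List ℕ) : Bool :=
  N.all fun y =>
    (!(com (L.getD 2 0) y && com (L.getD 3 0) y && com (L.getD 4 0) y && com (L.getD 5 0) y &&
        !(com (L.getD 1 0) y)) || Nat.beq y (L.getD 0 0)) &&
    (!(com (L.getD 0 0) y && com (L.getD 3 0) y && com (L.getD 4 0) y && com (L.getD 5 0) y) ||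
      !(com (L.getD 1 0) y))

theorem five_ext : (leaves 6).all (fun L => ptCodes.all fun q =>
    !(hasPat L [true, true, true, true, true, false] q) || casesFive.any fun c =>
      decide (c.key = [L.getD 0 0, L.getD 1 0, L.getD 2 0, L.getD 4 0, L.getD 5 0, q]) &&
        decide (c.forbid = [L.getD 3 0]) && c.outs.all fun o => o.1 && factsI L o.2) = true := by
  decide +kernel

end CfsgLib.Sporadic.FiTransfer.Uniq
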