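import Cfsg.Agent.Lib.Sporadic.FiTransfer.Uniq.Frame
import Cfsg.Agent.Lib.Sporadic.FiTransfer.Uniq.PointList

/-!
# Two certificate checkers

`checkAll` classifies the conjugation-closed sets of points in which every point commutes with
exactly 45 others; `levelCheck` brings a configuration of points to a standard one.
-/

set_option autoImplicit false

namespace CfsgLib.Sporadic.FiTransfer.Uniq

attribute [local irreducible] rc ptCodes

/-- A set of points closed under conjugation. -/
def Closed (S : Set ℕ) : Prop := ∀ p ∈ S, ∀ q ∈ S, rc p q ∈ S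

/-- Every point of the set commutes with exactly 45 others. -/
def Deg45 (S : Set ℕ) : Prop := ∀ p ∈ S, {q | q ∈ S ∧ q ≠ p ∧ rc p q = q}.ncard = 45

/-- Append the conjugates named by index pairs. -/
def grow : List ℕ → List (ℕ × ℕ) → List ℕ
  | L, [] => L
  | L, (i, j) :: r => grow (L ++ [rc (L.getD i (L.headD 0)) (L.getD j (L.headD 0))]) r

theorem grow_mem {S : Set ℕ} (hc : Closed S) : ∀ (st : List (ℕ × ℕ)) (L : List ℕ), L ≠ [] →
    (∀ p ∈ L, p ∈ S) → ∀ p ∈ grow L st, p ∈ S
  | [], _, _, h => h
  | (i, j) :: r, L, hL, h => by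
    have hg : ∀ k, L.getD k (L.headD 0) ∈ S := fun k => by
      obtain ⟨a, t, rfl⟩ := List.exists_cons_of_ne_nil hL
      by_cases hk : k < (a :: t).length
      · rw [List.getD_eq_getElem _ _ hk]; exact h _ (List.getElem_mem hk)
      · rw [List.getD_eq_default _ _ (not_lt.1 hk)]; exact h _ List.mem_cons_self
    refine grow_mem hc r _ (by simp) ?_
    intro p hp
    rcases List.mem_append.1 hp with hp | hp
    · exact h p hp
    · rw [List.mem_singleton] at hp
      exact hp ▸ hc _ (hg i) _ (hg j)

/-- Membership. -/
def mem (x : ℕ) (L : List ℕ) : Bool := L.any (Nat.beq x)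

theorem mem_of (x : ℕ) (L : List ℕ) (h : mem x L = true) : x ∈ L := by
  obtain ⟨y, hy, e⟩ := List.any_eq_true.1 h
  exact (Nat.eq_of_beq_eq_true e) ▸ hy

/-- No repetition. -/
def distinct : List ℕ → Bool
  | [] => true
  | a :: l => !(mem a l) && distinct l

theorem nodup_of : ∀ L : List ℕ, distinct L = true → L.Nodup
  | [], _ => List.nodup_nil
  | a :: l, h => by
    simp only [distinct, Bool.and_eq_true, Bool.not_eq_true'] at h
    refine List.nodup_cons.2 ⟨fun hm => ?_, nodup_of l h.2⟩
    have : mem a l = true := List.any_eq_true.2 ⟨a, hm, Nat.beq_refl a⟩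
    rw [h.1] at this
    exact Bool.noConfusion this

/-- An outcome: points in the set, exhausting it if the flag is set. -/
abbrev Outcome : Type := Bool × List ℕ

/-- A step: a new point, the relative position of the state reached, the old points used, and a derivation. -/
abbrev Step : Type := ℕ × ℕ × List ℕ × List (ℕ × ℕ)

/-- The first digits to a base. -/
def digits (b : ℕ) : ℕ → ℕ → List ℕ
  | 0, _ => []
  | k + 1, n => n % b :: digits b k (n / b)

/-- An index pair from a number. -/
def unpackPair (n : ℕ) : ℕ × ℕ := (n % 1024, n / 1024)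

/-- A step from a number: the point, the offset, the two lengths, the old points and the index pairs. -/
def unpackStep (n : ℕ) : Step :=
  (n % 4096, n / 4096 % 32, digits 4096 (n / 131072 % 16) (n / 33554432),
    (digits 1024 (n / 2097152 % 16) (n / 33554432 / 4096 ^ (n / 131072 % 16))).map fun m => (m % 32, m / 32))

/-- A set of codes as a number. -/
def maskOf : List ℕ → ℕ
  | [] => 0
  | a :: l => (1 <<< a) ||| maskOf l

/-- Membership in a mask. -/
def inMask (m x : ℕ) : Bool := Nat.beq ((m >>> x) % 2) 1

theorem mem_of_inMask {x : ℕ} : ∀ {l : List ℕ}, inMask (maskOf l) x = true → x ∈ l := by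
  intro l h
  have h' : Nat.testBit (maskOf l) x = true := by
    rw [Nat.testBit_eq_decide_div_mod_eq, ← Nat.shiftRight_eq_div_pow]
    exact decide_eq_true (Nat.eq_of_beq_eq_true h)
  clear h
  induction l with
  | nil => simp [maskOf] at h'
  | cons a l ih =>
    rw [maskOf, Nat.testBit_or, Bool.or_eq_true, Nat.one_shiftLeft, Nat.testBit_two_pow, decide_eq_true_eq] at h'
    rcases h' with rfl | h'
    · exact List.mem_cons_self
    · exact List.mem_cons_of_mem _ (ih h')

/-- How a state is finished. -/
inductive Kind where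
  | found (o : Outcome)
  | forb
  | full (p : ℕ) (l : List ℕ)
  | branch (extra : List ℕ) (packed : List ℕ) (exact : Bool)

/-- A state: generators, their closure, and how it is finished. -/
structure State where
  gens : List ℕ
  steps : List ℕ
  pts : List ℕ
  kind : Kind

/-- The number of others commuting with the point. -/
def degree (p : ℕ) (L : List ℕ) : ℕ :=
  (L.filter fun q => !(Nat.beq q p) && Nat.beq (rc p q) q).length

/-- The check of a single state. -/
def check (F : List ℕ) (outs : List Outcome) (rest : List State) (s : State) : Bool :=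
  !s.gens.isEmpty && decide (grow s.gens (s.steps.map unpackPair) = s.pts) &&
  match s.kind with
  | .found o => decide (o ∈ outs) && o.2.all (fun p => mem p s.pts) && !o.1
  | .forb => F.any fun x => mem x s.pts
  | .full p l => mem p s.pts && decide (45 < l.length) && distinct l &&
      l.all fun q => mem q s.pts && !(Nat.beq q p) && Nat.beq (rc p q) q
  | .branch extra packed exact =>
      let steps := packed.map unpackStep
      let L := s.pts
      (let m := maskOf (L ++ extra ++ steps.map fun t => t.1)
       ptCodes.all (fun x => inMask m x)) &&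
      (let m := maskOf L
       steps.all (fun t => t.2.2.1.all (fun b => inMask m b) &&
        match rest[t.2.1]? with
        | some s' => s'.gens.all fun g => mem g (grow (t.1 :: t.2.2.1) t.2.2.2)
        | none => false)) &&
      (match exact with
        | true => decide ((true, L) ∈ outs) && extra.isEmpty
        | false => L.any fun p => decide (degree p L + extra.length < 45))

/-- The check of all states, later states being those reached from earlier ones. -/
def checkAll (F : List ℕ) (outs : List Outcome) : List State → Bool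
  | [] => true
  | s :: r => check F outs r s && checkAll F outs r

/-- The conclusion of a classification. -/
def Result (outs : List Outcome) (S : Set ℕ) : Prop :=
  ∃ o ∈ outs, (∀ p ∈ o.2, p ∈ S) ∧ (o.1 = true → ∀ p ∈ S, p ∈ o.2)

theorem checkAll_cons {F : List ℕ} {outs : List Outcome} {s : State} {r : List State}
    (h : check F outs r s = true) (h' : checkAll F outs r = true) : checkAll F outs (s :: r) = true := by
  rw [checkAll, h, h']; rfl

theorem classify {F : List ℕ} {outs : List Outcome} {S : Set ℕ} (hpt : ∀ p ∈ S, IsPt p)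
    (hc : Closed S) (hd : Deg45 S) (hF : ∀ x ∈ F, x ∉ S) :
    ∀ sts : List State, checkAll F outs sts = true → ∀ (k : ℕ) (s : State), sts[k]? = some s →
      (∀ g ∈ s.gens, g ∈ S) → Result outs S
  | [], _, k, s, hk, _ => by simp at hk
  | s₀ :: r, h, k + 1, s, hk, hg => by
    simp only [checkAll, Bool.and_eq_true] at h
    exact classify hpt hc hd hF r h.2 k s (by simpa using hk) hg
  | s₀ :: r, h, 0, s, hk, hg => by
    obtain rfl : s₀ = s := by simpa using hk
    simp only [checkAll, check, Bool.and_eq_true, Bool.not_eq_true', List.isEmpty_eq_false_iff] at h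
    obtain ⟨⟨⟨hne, hpts⟩, hkind⟩, hr⟩ := h
    rw [decide_eq_true_eq] at hpts
    have hL : ∀ p ∈ s₀.pts, p ∈ S := hpts ▸ grow_mem hc _ _ hne hg
    have hfin : S.Finite := (Set.finite_lt_nat 4096).subset fun p hp => (hpt p hp).1
    revert hkind
    cases s₀.kind with
    | found o =>
      intro hkind
      simp only [Bool.and_eq_true, Bool.not_eq_true', decide_eq_true_eq, List.all_eq_true] at hkind
      exact ⟨o, hkind.1.1, fun p hp => hL p (mem_of _ _ (hkind.1.2 p hp)), fun e => by simp [hkind.2] at e⟩
    | forb =>
      intro hkind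
      obtain ⟨x, hx, hm⟩ := List.any_eq_true.1 hkind
      exact absurd (hL x (mem_of _ _ hm)) (hF x hx)
    | full p l =>
      intro hkind
      simp only [Bool.and_eq_true, Bool.not_eq_true', decide_eq_true_eq, List.all_eq_true] at hkind
      obtain ⟨⟨⟨hp, hlen⟩, hnd⟩, hl⟩ := hkind
      have h1 : l.toFinset.card = l.length := List.toFinset_card_of_nodup (nodup_of l hnd)
      have h2 : (↑l.toFinset : Set ℕ) ⊆ {q | q ∈ S ∧ q ≠ p ∧ rc p q = q} := by
        intro q hq
        rw [Finset.mem_coe, List.mem_toFinset] at hq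
        obtain ⟨⟨hq1, hq2⟩, hq3⟩ := hl q hq
        exact ⟨hL q (mem_of _ _ hq1), fun e => by subst e; simp at hq2, Nat.eq_of_beq_eq_true hq3⟩
      have h3 := Set.ncard_le_ncard h2 (hfin.subset fun q hq => hq.1)
      rw [Set.ncard_coe_finset, h1, hd p (hL p (mem_of _ _ hp))] at h3
      omega
    | branch extra packed exact =>
      intro hkind
      simp only [Bool.and_eq_true, List.all_eq_true] at hkind
      generalize List.map unpackStep packed = steps at hkind
      obtain ⟨⟨hcov, hsteps⟩, hend⟩ := hkind
      by_cases hst : ∃ x ∈ S, ∃ t ∈ steps, t.1 = x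
      · obtain ⟨x, hx, t, ht, rfl⟩ := hst
        obtain ⟨hb, h4⟩ := hsteps t ht
        revert h4
        cases e : r[t.2.1]? with
        | none => intro h4; simp at h4
        | some s' =>
          intro h4
          refine classify hpt hc hd hF r hr _ s' e fun g hg' => ?_
          have h5 := mem_of _ _ ((List.all_eq_true.1 h4) g hg')
          refine grow_mem hc _ _ (by simp) (fun p hp => ?_) g h5
          rcases List.mem_cons.1 hp with hp | hp
          · exact hp ▸ hx
          · exact hL p (mem_of_inMask (hb p hp))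
      have hsub : ∀ x ∈ S, x ∈ s₀.pts ∨ x ∈ extra := by
        intro x hx
        have h4 := mem_of_inMask (hcov x (mem_ptCodes (hpt x hx)))
        simp only [List.mem_append, List.mem_map] at h4
        rcases h4 with (h4 | h4) | h4
        · exact Or.inl h4
        · exact Or.inr h4
        · obtain ⟨t, ht, e⟩ := h4
          exact absurd ⟨x, hx, t, ht, e⟩ hst
      cases exact with
      | true =>
        simp only [Bool.and_eq_true, decide_eq_true_eq, List.isEmpty_iff] at hend
        refine ⟨(true, s₀.pts), hend.1, hL, fun _ p hp => ?_⟩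
        rcases hsub p hp with h4 | h4
        · exact h4
        · rw [hend.2] at h4; simp at h4
      | false =>
        obtain ⟨p, hp, hlt⟩ := List.any_eq_true.1 hend
        simp only [decide_eq_true_eq] at hlt
        have h2 : {q | q ∈ S ∧ q ≠ p ∧ rc p q = q} ⊆
            (↑((s₀.pts.filter fun q => !(Nat.beq q p) && Nat.beq (rc p q) q) ++ extra).toFinset : Set ℕ) := by
          rintro q ⟨hq, hqp, hqc⟩
          rw [Finset.mem_coe, List.mem_toFinset, List.mem_append, List.mem_filter]
          rcases hsub q hq with h4 | h4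
          · refine Or.inl ⟨h4, ?_⟩
            rw [Bool.and_eq_true, Bool.not_eq_true']
            refine ⟨Bool.eq_false_iff.2 fun e => hqp (Nat.eq_of_beq_eq_true e), ?_⟩
            rw [hqc]; exact Nat.beq_refl q
          · exact Or.inr h4
        have h3 := Set.ncard_le_ncard h2 (Finset.finite_toSet _)
        rw [Set.ncard_coe_finset, hd p (hL p hp)] at h3
        have h6 := List.toFinset_card_le
          (((s₀.pts).filter fun q => !(Nat.beq q p) && Nat.beq (rc p q) q) ++ extra)
        rw [List.length_append] at h6
        unfold degree at hlt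
        omega

/-- A level of normalisation: fixed points, the pattern of commuting with them, the standard
choices, and a tree of moves `(parent, letter)`. -/
structure Level where
  pre : List ℕ
  pat : List Bool
  roots : List ℕ
  tree : List (ℕ × ℕ)

/-- The nodes of a tree. -/
def nodes : List ℕ → List (ℕ × ℕ) → List ℕ
  | L, [] => L
  | L, (i, s) :: r => nodes (L ++ [rc s (L.getD i (L.headD 0))]) r

/-- A point has the pattern. -/
def hasPat (pre : List ℕ) (pat : List Bool) (q : ℕ) : Bool :=
  (pre.zip pat).all fun t => (Nat.beq (rc t.1 q) q == t.2) && !(Nat.beq t.1 q)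

/-- The check of a level. -/
def levelCheck (lv : Level) : Bool :=
  (!lv.roots.isEmpty || lv.tree.isEmpty) && lv.roots.all (fun r => mem r ptCodes) &&
  lv.tree.all (fun t => mem t.2 ptCodes && lv.pre.all fun p => Nat.beq (rc t.2 p) p) &&
  (let N := nodes lv.roots lv.tree
   ptCodes.all fun q => !(hasPat lv.pre lv.pat q) || mem q N)

variable {G : Type*} [Group G] {D : Set G}

theorem Frame.conjBy (hD : Cfsg.IsThreeTranspositionGroup D) {x : G} {f : ℕ → G} (F : Frame D x f) {y : G}
    (hy : y ∈ FischerTransitivity.Nb D x) : Frame D x (fun q => y * f q * y) := by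
  have h2 := FischerTransitivity.sq hD hy.1
  have hc : ∀ z, y * (y * z * y) * y = z := fun z => by
    calc y * (y * z * y) * y = (y * y) * z * (y * y) := by simp only [mul_assoc]
      _ = z := by rw [h2, one_mul, mul_one]
  have hi : ∀ {z}, z ∈ FischerTransitivity.Nb D x → y * z * y ∈ FischerTransitivity.Nb D x := fun {z} hz => by
    have h := FischerTransitivity.nb_conj hD y hz
    rw [hy.2.2.symm.eq, mul_assoc, mul_inv_cancel, mul_one, FischerTransitivity.inv_eq hD hy.1] at h
    exact h
  refine ⟨fun hp => hi (F.mem hp), fun hp hq e => F.inj hp hq ?_, fun {z} hz => ?_, fun {p q} hp hq => ?_⟩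
  · rw [← hc (f _), e, hc]
  · obtain ⟨p, hp, e⟩ := F.surj (hi hz)
    exact ⟨p, hp, by show y * f p * y = z; rw [e, hc]⟩
  · show y * f p * y * (y * f q * y) * (y * f p * y) = y * f (rc p q) * y
    rw [← F.conj hp hq]
    calc y * f p * y * (y * f q * y) * (y * f p * y)
        = y * f p * (y * y) * f q * (y * y) * f p * y := by simp only [mul_assoc]
      _ = y * (f p * f q * f p) * y := by rw [h2, mul_one, mul_one]; simp only [mul_assoc]

theorem nodes_spec (hD : Cfsg.IsThreeTranspositionGroup D) {x : G} {f : ℕ → G} (F : Frame D x f)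
    (pre roots : List ℕ) : ∀ (tree : List (ℕ × ℕ)) (L : List ℕ), L ≠ [] →
    (∀ q ∈ L, IsPt q ∧ ∃ f' r, Frame D x f' ∧ r ∈ roots ∧ (∀ p ∈ pre, f' p = f p) ∧ f' r = f q) →
    (∀ t ∈ tree, IsPt t.2 ∧ ∀ p ∈ pre, rc t.2 p = p) →
    (∀ p ∈ pre, IsPt p) →
    ∀ q ∈ nodes L tree, IsPt q ∧ ∃ f' r, Frame D x f' ∧ r ∈ roots ∧ (∀ p ∈ pre, f' p = f p) ∧ f' r = f q := by
  intro tree
  induction tree generalizing f with
  | nil => exact fun _ _ h _ _ => h
  | cons t tree ih =>
    obtain ⟨i, s⟩ := t
    intro L hL h ht hpre
    obtain ⟨hs, hfix⟩ := ht (i, s) List.mem_cons_self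
    refine ih F _ (by simp) ?_ (fun t ht' => ht t (List.mem_cons_of_mem _ ht')) hpre
    intro q hq
    rcases List.mem_append.1 hq with hq | hq
    · exact h q hq
    rw [List.mem_singleton] at hq
    subst hq
    have hmem : L.getD i (L.headD 0) ∈ L := by
      obtain ⟨a, l, rfl⟩ := List.exists_cons_of_ne_nil hL
      by_cases hk : i < (a :: l).length
      · rw [List.getD_eq_getElem _ _ hk]; exact List.getElem_mem hk
      · rw [List.getD_eq_default _ _ (not_lt.1 hk)]; exact List.mem_cons_self
    obtain ⟨hu, f', r, F', hr, hf1, hf2⟩ := h _ hmem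
    refine ⟨rc_isPt hs hu, fun q => f s * f' q * f s, r, F'.conjBy hD (F.mem hs), hr, fun p hp => ?_, ?_⟩
    · show f s * f' p * f s = f p
      rw [hf1 p hp, F.conj hs (hpre p hp), hfix p hp]
    · show f s * f' r * f s = _
      rw [hf2, F.conj hs hu]

theorem level_spec (hD : Cfsg.IsThreeTranspositionGroup D) {x y : G} {f : ℕ → G} (F : Frame D x f)
    {lv : Level} (h : levelCheck lv = true) (hpre : ∀ p ∈ lv.pre, IsPt p) (hy : y ∈ FischerTransitivity.Nb D x)
    (hpat : ∀ t ∈ lv.pre.zip lv.pat, (Commute (f t.1) y ↔ t.2 = true) ∧ f t.1 ≠ y) :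
    ∃ f', Frame D x f' ∧ ∃ r ∈ lv.roots, (∀ p ∈ lv.pre, f' p = f p) ∧ f' r = y := by
  simp only [levelCheck, Bool.and_eq_true, Bool.or_eq_true, Bool.not_eq_true', List.isEmpty_eq_false_iff,
    List.isEmpty_iff, List.all_eq_true] at h
  obtain ⟨⟨⟨hne, hroots⟩, htree⟩, hcov⟩ := h
  obtain ⟨q, hq, rfl⟩ := F.surj hy
  have hqp : hasPat lv.pre lv.pat q = true := by
    rw [hasPat, List.all_eq_true]
    intro t ht
    obtain ⟨h1, h2⟩ := hpat t ht
    have hp := hpre _ (List.of_mem_zip ht).1
    rw [F.commute_iff hD hp hq] at h1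
    rw [Bool.and_eq_true, Bool.not_eq_true', beq_iff_eq]
    refine ⟨?_, Bool.eq_false_iff.2 fun e => h2 (by rw [Nat.eq_of_beq_eq_true e])⟩
    rcases Bool.eq_false_or_eq_true t.2 with e | e <;> rw [e]
    · rw [h1.2 e]; exact Nat.beq_refl q
    · exact Bool.eq_false_iff.2 fun e' => by simp [h1.1 (Nat.eq_of_beq_eq_true e')] at e
  have hmem := hcov q (mem_ptCodes hq)
  replace hmem := hmem.resolve_left (by rw [hqp]; decide)
  have ht' : ∀ t ∈ lv.tree, IsPt t.2 ∧ ∀ p ∈ lv.pre, rc t.2 p = p := fun t ht =>
    ⟨isPt_of_mem (mem_of _ _ (htree t ht).1), fun p hp => Nat.eq_of_beq_eq_true ((htree t ht).2 p hp)⟩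
  replace hne : lv.roots ≠ [] := fun e => by
    rcases hne with h | h
    · exact h e
    · have := mem_of _ _ hmem
      rw [h, e, nodes] at this
      simp at this
  obtain ⟨-, f', r, F', hr, h1, h2⟩ := nodes_spec hD F lv.pre lv.roots lv.tree lv.roots hne
    (fun u hu => ⟨isPt_of_mem (mem_of _ _ (hroots u hu)), f, u, F, hu, fun _ _ => rfl, rfl⟩) ht' hpre q
    (mem_of _ _ hmem)
  exact ⟨f', F', r, hr, h1, h2⟩

/-- A classification to be made: the points given, the points excluded, the states and the outcomes. -/
structure Case where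
  key : List ℕ
  forbid : List ℕ
  states : List State
  outs : List Outcome

/-- The check of a case. -/
def Case.ok (c : Case) : Bool :=
  checkAll c.forbid c.outs c.states &&
    match c.states[0]? with
    | some s => decide (s.gens = c.key)
    | none => false

theorem Case.result {c : Case} (h : c.ok = true) {S : Set ℕ} (hpt : ∀ p ∈ S, IsPt p) (hc : Closed S)
    (hd : Deg45 S) (hF : ∀ x ∈ c.forbid, x ∉ S) (hk : ∀ g ∈ c.key, g ∈ S) : Result c.outs S := by
  rw [Case.ok, Bool.and_eq_true] at h
  obtain ⟨h1, h2⟩ := h
  revert h2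
  cases e : c.states[0]? with
  | none => intro h2; simp at h2
  | some s =>
    intro h2
    rw [decide_eq_true_eq] at h2
    exact classify hpt hc hd hF c.states h1 0 s e (h2 ▸ hk)

end CfsgLib.Sporadic.FiTransfer.Uniq
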