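import Cfsg.Agent.Lib.Sporadic.MTwentyTwo.Picture
import Cfsg.Agent.Lib.Sporadic.FiTransfer.Uniq.Fast

/-!
# Frames

A frame at a member `x` of `D` numbers the members commuting with `x` by the isotropic points of
the unitary space (as codes), conjugation becoming `rc`.
-/

set_option autoImplicit false
set_option linter.unusedSectionVars false

namespace CfsgLib.Sporadic.FiTransfer.Uniq

open CfsgLib.Sporadic.MTwentyTwo CfsgLib.Sporadic.FischerTransitivity

attribute [local irreducible] pts tp tmv rc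

/-- The code is that of a point. -/
def IsPt (n : ℕ) : Prop := n < 4096 ∧ isPt (cv n) = true

theorem cv_mem {p : ℕ} (hp : IsPt p) : cv p ∈ pts := mem_pts.2 hp.2

theorem rc_isPt {p q : ℕ} (hp : IsPt p) (hq : IsPt q) : IsPt (rc p q) := by
  refine ⟨(rc_spec hp.1 hq.1).1, ?_⟩
  rw [(rc_spec hp.1 hq.1).2]
  exact mem_pts.1 (tmv_mem (cv_mem hp) (cv_mem hq))

variable {G : Type*} [Group G] {D : Set G}

/-- A numbering of the neighbours of `x`. -/
structure Frame (D : Set G) (x : G) (f : ℕ → G) : Prop where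
  mem : ∀ {p}, IsPt p → f p ∈ Nb D x
  inj : ∀ {p q}, IsPt p → IsPt q → f p = f q → p = q
  surj : ∀ {y}, y ∈ Nb D x → ∃ p, IsPt p ∧ f p = y
  conj : ∀ {p q}, IsPt p → IsPt q → f p * f q * f p = f (rc p q)

variable (hD : Cfsg.IsThreeTranspositionGroup D)
include hD

theorem Frame.commute_iff {x : G} {f : ℕ → G} (F : Frame D x f) {p q : ℕ} (hp : IsPt p) (hq : IsPt q) :
    Commute (f p) (f q) ↔ rc p q = q := by
  have h2 := FischerTransitivity.sq hD (F.mem hp).1
  constructor
  · intro h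
    refine F.inj (rc_isPt hp hq) hq ?_
    rw [← F.conj hp hq, h.eq, mul_assoc, h2, mul_one]
  · intro h
    have e := F.conj hp hq
    rw [h] at e
    show f p * f q = f q * f p
    calc f p * f q = f p * f q * (f p * f p) := by rw [h2, mul_one]
      _ = (f p * f q * f p) * f p := by simp only [mul_assoc]
      _ = f q * f p := by rw [e]

theorem Frame.rc_rc {x : G} {f : ℕ → G} (F : Frame D x f) {s q : ℕ} (hs : IsPt s) (hq : IsPt q) :
    rc s (rc s q) = q := by
  have h2 := FischerTransitivity.sq hD (F.mem hs).1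
  refine F.inj (rc_isPt hs (rc_isPt hs hq)) hq ?_
  rw [← F.conj hs (rc_isPt hs hq), ← F.conj hs hq]
  calc f s * (f s * f q * f s) * f s = (f s * f s) * f q * (f s * f s) := by simp only [mul_assoc]
    _ = f q := by rw [h2, one_mul, mul_one]

theorem Frame.rename {x : G} {f : ℕ → G} (F : Frame D x f) {s : ℕ} (hs : IsPt s) :
    Frame D x (fun q => f (rc s q)) where
  mem hp := F.mem (rc_isPt hs hp)
  inj hp hq h := by
    have := congrArg (rc s) (F.inj (rc_isPt hs hp) (rc_isPt hs hq) h)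
    rwa [F.rc_rc hD hs hp, F.rc_rc hD hs hq] at this
  surj hy := by
    obtain ⟨p, hp, rfl⟩ := F.surj hy
    exact ⟨rc s p, rc_isPt hs hp, by simp only [F.rc_rc hD hs hp]⟩
  conj {p q} hp hq := by
    have h2 := FischerTransitivity.sq hD (F.mem hs).1
    show f (rc s p) * f (rc s q) * f (rc s p) = f (rc s (rc p q))
    rw [← F.conj hs hp, ← F.conj hs hq, ← F.conj hs (rc_isPt hp hq), ← F.conj hp hq]
    calc f s * f p * f s * (f s * f q * f s) * (f s * f p * f s)
        = f s * f p * (f s * f s) * f q * (f s * f s) * f p * f s := by simp only [mul_assoc]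
      _ = f s * (f p * f q * f p) * f s := by rw [h2, mul_one, mul_one]; simp only [mul_assoc]

omit hD

theorem exists_frame [Finite G] (ctx : Ctx D) {x : G} (hx : x ∈ D) : ∃ f, Frame D x f := by
  classical
  obtain ⟨π, hπ⟩ := ctx.exists_pi hx
  have hsur : ∀ p, IsPt p → ∃ y ∈ Nb D x, pf π y = tp (cv p) := fun p hp =>
    ctx.pf_surj hx hπ (mem_TP (cv_mem hp))
  choose g hg hgv using hsur
  refine ⟨fun p => if hp : IsPt p then g p hp else 1, ?_, ?_, ?_, ?_⟩
  · intro p hp
    simp only [dif_pos hp]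
    exact hg p hp
  · intro p q hp hq h
    simp only [dif_pos hp, dif_pos hq] at h
    have := congrArg (pf π) h
    rw [hgv, hgv] at this
    rw [← vd_cv hp.1, tp_inj (cv_mem hp) (cv_mem hq) this, vd_cv hq.1]
  · intro y hy
    obtain ⟨v, hv, he⟩ := ctx.pf_mem hx hπ hy
    have hp : IsPt (vd v) := ⟨(cv_vd v).2, by rw [(cv_vd v).1]; exact mem_pts.1 hv⟩
    refine ⟨vd v, hp, ?_⟩
    simp only [dif_pos hp]
    refine ctx.pf_inj hx hπ (hg _ hp) hy ?_
    rw [hgv, (cv_vd v).1, he]
  · intro p q hp hq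
    simp only [dif_pos hp, dif_pos hq, dif_pos (rc_isPt hp hq)]
    have hpx : g p hp * x * (g p hp)⁻¹ = x := by
      rw [← (hg p hp).2.2.eq, mul_inv_cancel_right]
    have h3 := nb_conj ctx.hD (g p hp) (hg q hq)
    rw [hpx, inv_eq ctx.hD (hg p hp).1] at h3
    refine ctx.pf_inj hx hπ h3 (hg _ _) ?_
    have hm := mem_HG (hg p hp)
    rw [pf_mul π (mul_mem hm (mem_HG (hg q hq))) hm, pf_mul π hm (mem_HG (hg q hq)), hgv, hgv, hgv,
      (rc_spec hp.1 hq.1).2, ← tp_conj (cv_mem hp) (cv_mem hq),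
      inv_eq_of_mul_eq_one_right (tp_sq (cv_mem hp))]

end CfsgLib.Sporadic.FiTransfer.Uniq
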