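import Cfsg.Agent.Lib.Sporadic.FiTransfer.Uniq.Engine

/-!
# Levels of normalisation

Machine-generated.
-/

set_option autoImplicit false
set_option maxRecDepth 100000
set_option maxHeartbeats 0

namespace CfsgLib.Sporadic.FiTransfer.Uniq

/-- A level. -/
def level0 : Level := ⟨[], [], [5],
    [(0, 9), (0, 13), (0, 17), (0, 20), (0, 33), (0, 36), (0, 49), (0, 52), (0, 65), (0, 68), (0, 89),
    (0, 93), (0, 105), (0, 109), (0, 121), (0, 125), (0, 129), (0, 132), (0, 153), (0, 157), (0, 169),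
    (0, 173), (0, 185), (0, 189), (0, 193), (0, 196), (0, 217), (0, 221), (0, 233), (0, 237), (0, 249),
    (0, 253), (0, 257), (0, 260), (0, 281), (0, 285), (0, 297), (0, 301), (0, 313), (0, 317), (0, 329),
    (0, 333), (0, 337), (0, 340), (0, 353), (0, 356), (0, 369), (0, 372), (0, 393), (0, 397), (0, 401),
    (0, 404), (0, 417), (0, 420), (0, 433), (0, 436), (0, 457), (0, 461), (0, 465), (0, 468), (0, 481),
    (0, 484), (0, 497), (0, 500), (0, 513), (0, 516), (0, 537), (0, 541), (0, 553), (0, 557), (0, 569),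
    (0, 573), (0, 585), (0, 589), (0, 593), (0, 596), (0, 609), (0, 612), (0, 625), (0, 628), (0, 649),
    (0, 653), (0, 657), (0, 660), (0, 673), (0, 676), (0, 689), (0, 692), (0, 713), (0, 717), (0, 721),
    (0, 724), (0, 737), (0, 740), (0, 753), (0, 756), (0, 769), (0, 772), (0, 793), (0, 797), (0, 809),
    (0, 813), (0, 825), (0, 829), (0, 841), (0, 845), (0, 849), (0, 852), (0, 865), (0, 868), (0, 881),
    (0, 884), (0, 905), (0, 909), (0, 913), (0, 916), (0, 929), (0, 932), (0, 945), (0, 948), (0, 969),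
    (0, 973), (0, 977), (0, 980), (0, 993), (0, 996), (0, 1009), (0, 1012), (0, 1025), (0, 1028), (0,
    1049), (0, 1053), (0, 1065), (0, 1069), (0, 1081), (0, 1085), (0, 1097), (0, 1101), (0, 1105), (0,
    1108), (0, 1121), (0, 1124), (0, 1137), (0, 1140), (0, 1161), (0, 1165), (0, 1169), (0, 1172), (0,
    1185), (0, 1188), (0, 1201), (0, 1204), (0, 1225), (0, 1229), (0, 1233), (0, 1236), (0, 1249), (0,
    1252), (0, 1265), (0, 1268), (0, 1289), (0, 1293), (0, 1297), (0, 1300), (0, 1313), (0, 1316), (0,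
    1329), (0, 1332), (0, 1345), (0, 1348), (0, 1369), (0, 1373), (0, 1385), (0, 1389), (0, 1401), (0,
    1405), (0, 1409), (0, 1412), (0, 1433), (0, 1437), (0, 1449), (0, 1453), (0, 1465), (0, 1469), (0,
    1473), (0, 1476), (0, 1497), (0, 1501), (0, 1513), (0, 1517), (0, 1529), (0, 1533), (0, 1545), (0,
    1549), (0, 1553), (0, 1556), (0, 1569), (0, 1572), (0, 1585), (0, 1588), (0, 1601), (0, 1604), (0,
    1625), (0, 1629), (0, 1641), (0, 1645), (0, 1657), (0, 1661), (0, 1665), (0, 1668), (0, 1689), (0,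
    1693), (0, 1705), (0, 1709), (0, 1721), (0, 1725), (0, 1729), (0, 1732), (0, 1753), (0, 1757), (0,
    1769), (0, 1773), (0, 1785), (0, 1789), (0, 1801), (0, 1805), (0, 1809), (0, 1812), (0, 1825), (0,
    1828), (0, 1841), (0, 1844), (0, 1857), (0, 1860), (0, 1881), (0, 1885), (0, 1897), (0, 1901), (0,
    1913), (0, 1917), (0, 1921), (0, 1924), (0, 1945), (0, 1949), (0, 1961), (0, 1965), (0, 1977), (0,
    1981), (0, 1985), (0, 1988), (0, 2009), (0, 2013), (0, 2025), (0, 2029), (0, 2041), (0, 2045), (0,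
    2049), (0, 2052), (0, 2073), (0, 2077), (0, 2089), (0, 2093), (0, 2105), (0, 2109), (0, 2121), (0,
    2125), (0, 2129), (0, 2132), (0, 2145), (0, 2148), (0, 2161), (0, 2164), (0, 2185), (0, 2189), (0,
    2193), (0, 2196), (0, 2209), (0, 2212), (0, 2225), (0, 2228), (0, 2249), (0, 2253), (0, 2257), (0,
    2260), (0, 2273), (0, 2276), (0, 2289), (0, 2292), (0, 2313), (0, 2317), (0, 2321), (0, 2324), (0,
    2337), (0, 2340), (0, 2353), (0, 2356), (0, 2369), (0, 2372), (0, 2393), (0, 2397), (0, 2409), (0,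
    2413), (0, 2425), (0, 2429), (0, 2433), (0, 2436), (0, 2457), (0, 2461), (0, 2473), (0, 2477), (0,
    2489), (0, 2493), (0, 2497), (0, 2500), (0, 2521), (0, 2525), (0, 2537), (0, 2541), (0, 2553), (0,
    2557), (0, 2569), (0, 2573), (0, 2577), (0, 2580), (0, 2593), (0, 2596), (0, 2609), (0, 2612), (0,
    2625), (0, 2628), (0, 2649), (0, 2653), (0, 2665), (0, 2669), (0, 2681), (0, 2685), (0, 2689), (0,
    2692), (0, 2713), (0, 2717), (0, 2729), (0, 2733), (0, 2745), (0, 2749), (0, 2753), (0, 2756), (0,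
    2777), (0, 2781), (0, 2793), (0, 2797), (0, 2809), (0, 2813), (0, 2825), (0, 2829), (0, 2833), (0,
    2836), (0, 2849), (0, 2852), (0, 2865), (0, 2868), (0, 2881), (0, 2884), (0, 2905), (0, 2909), (0,
    2921), (0, 2925), (0, 2937), (0, 2941), (0, 2945), (0, 2948), (0, 2969), (0, 2973), (0, 2985), (0,
    2989), (0, 3001), (0, 3005), (0, 3009), (0, 3012), (0, 3033), (0, 3037), (0, 3049), (0, 3053), (0,
    3065), (0, 3069), (0, 3073), (0, 3076), (0, 3097), (0, 3101), (0, 3113), (0, 3117), (0, 3129), (0,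
    3133), (0, 3145), (0, 3149), (0, 3153), (0, 3156), (0, 3169), (0, 3172), (0, 3185), (0, 3188), (0,
    3209), (0, 3213), (0, 3217), (0, 3220), (0, 3233), (0, 3236), (0, 3249), (0, 3252), (0, 3273), (0,
    3277), (0, 3281), (0, 3284), (0, 3297), (0, 3300), (0, 3313), (0, 3316), (0, 3337), (0, 3341), (0,
    3345), (0, 3348), (0, 3361), (0, 3364), (0, 3377), (0, 3380), (0, 3393), (0, 3396), (0, 3417), (0,
    3421), (0, 3433), (0, 3437), (0, 3449), (0, 3453), (0, 3457), (0, 3460), (0, 3481), (0, 3485), (0,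
    3497), (0, 3501), (0, 3513), (0, 3517), (0, 3521), (0, 3524), (0, 3545), (0, 3549), (0, 3561), (0,
    3565), (0, 3577), (0, 3581), (0, 3593), (0, 3597), (0, 3601), (0, 3604), (0, 3617), (0, 3620), (0,
    3633), (0, 3636), (0, 3649), (0, 3652), (0, 3673), (0, 3677), (0, 3689), (0, 3693), (0, 3705), (0,
    3709), (0, 3713), (0, 3716), (0, 3737), (0, 3741), (0, 3753), (0, 3757), (0, 3769), (0, 3773), (0,
    3777), (0, 3780), (0, 3801), (0, 3805), (0, 3817), (0, 3821), (0, 3833), (0, 3837), (0, 3849), (0,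
    3853), (0, 3857), (0, 3860), (0, 3873), (0, 3876), (0, 3889), (0, 3892), (0, 3905), (0, 3908), (0,
    3929), (0, 3933), (0, 3945), (0, 3949), (0, 3961), (0, 3965), (0, 3969), (0, 3972), (0, 3993), (0,
    3997), (0, 4009), (0, 4013), (0, 4025), (0, 4029), (0, 4033), (0, 4036), (0, 4057), (0, 4061), (0,
    4073), (0, 4077), (0, 4089), (0, 4093), (1, 89), (1, 105), (1, 121), (1, 153), (1, 169), (1, 185),
    (1, 217), (1, 233), (1, 249), (1, 281), (1, 297), (1, 313), (1, 329), (1, 393), (1, 457), (1, 537),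
    (1, 553), (1, 569), (1, 585), (1, 649), (1, 713), (1, 793), (1, 809), (1, 825), (1, 841), (1, 905),
    (1, 969), (1, 1049), (1, 1065), (1, 1081), (1, 1097), (1, 1161), (1, 1225), (1, 1289), (1, 1369),
    (1, 1385), (1, 1401), (1, 1433), (1, 1449), (1, 1465), (1, 1497), (1, 1513), (1, 1529), (1, 1545),
    (1, 1625), (1, 1641), (1, 1657), (1, 1689), (1, 1705), (1, 1721), (1, 1753), (1, 1769), (1, 1785),
    (1, 1801), (1, 1881), (1, 1897), (1, 1913), (1, 1945), (1, 1961), (1, 1977), (1, 2009), (1, 2025),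
    (1, 2041), (1, 2073), (1, 2089), (1, 2105), (1, 2121), (1, 2185), (1, 2249), (1, 2313), (1, 2393),
    (1, 2409), (1, 2425), (1, 2457), (1, 2473), (1, 2489), (1, 2521), (1, 2537), (1, 2553), (1, 2569),
    (1, 2649), (1, 2665), (1, 2681), (1, 2713), (1, 2729), (1, 2745), (1, 2777), (1, 2793), (1, 2809),
    (1, 2825), (1, 2905), (1, 2921), (1, 2937), (1, 2969), (1, 2985), (1, 3001), (1, 3033), (1, 3049),
    (1, 3065), (1, 3097), (1, 3113), (1, 3129), (1, 3145), (1, 3209), (1, 3273), (1, 3337), (1, 3417),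
    (1, 3433), (1, 3449), (1, 3481), (1, 3497), (1, 3513), (1, 3545), (1, 3561), (1, 3577), (1, 3593),
    (1, 3673), (1, 3689), (1, 3705), (1, 3737), (1, 3753), (1, 3769), (1, 3801), (1, 3817), (1, 3833),
    (1, 3849), (1, 3929), (1, 3945), (1, 3961), (1, 3993), (1, 4009), (1, 4025), (1, 4057), (1, 4073),
    (1, 4089), (3, 68), (3, 132), (3, 196), (3, 260), (3, 516), (3, 772), (3, 1028), (3, 1348), (3,
    1412), (3, 1476), (3, 1604), (3, 1668), (3, 1732), (3, 1860), (3, 1924), (3, 1988), (3, 2052), (3,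
    2372), (3, 2436), (3, 2500), (3, 2628), (3, 2692), (3, 2756), (3, 2884), (3, 2948), (3, 3012), (3,
    3076), (3, 3396), (3, 3460), (3, 3524), (3, 3652), (3, 3716), (3, 3780), (3, 3908), (3, 3972), (3,
    4036), (9, 260), (9, 516), (9, 772), (9, 1028), (9, 2052), (9, 3076), (33, 1028), (33, 2052), (33,
    3076)]⟩

theorem level0_ok : levelCheck level0 = true := by decide +kernel

/-- A level. -/
def level1 : Level := ⟨[5], [false], [9],
    [(0, 5), (0, 85), (0, 101), (0, 117), (0, 149), (0, 165), (0, 181), (0, 213), (0, 229), (0, 245),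
    (0, 277), (0, 293), (0, 309), (0, 325), (0, 389), (0, 453), (0, 533), (0, 549), (0, 565), (0, 581),
    (0, 645), (0, 709), (0, 789), (0, 805), (0, 821), (0, 837), (0, 901), (0, 965), (0, 1045), (0,
    1061), (0, 1077), (0, 1093), (0, 1157), (0, 1221), (0, 1285), (0, 1365), (0, 1381), (0, 1397), (0,
    1429), (0, 1445), (0, 1461), (0, 1493), (0, 1509), (0, 1525), (0, 1541), (0, 1621), (0, 1637), (0,
    1653), (0, 1685), (0, 1701), (0, 1717), (0, 1749), (0, 1765), (0, 1781), (0, 1797), (0, 1877), (0,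
    1893), (0, 1909), (0, 1941), (0, 1957), (0, 1973), (0, 2005), (0, 2021), (0, 2037), (0, 2069), (0,
    2085), (0, 2101), (0, 2117), (0, 2181), (0, 2245), (0, 2309), (0, 2389), (0, 2405), (0, 2421), (0,
    2453), (0, 2469), (0, 2485), (0, 2517), (0, 2533), (0, 2549), (0, 2565), (0, 2645), (0, 2661), (0,
    2677), (0, 2709), (0, 2725), (0, 2741), (0, 2773), (0, 2789), (0, 2805), (0, 2821), (0, 2901), (0,
    2917), (0, 2933), (0, 2965), (0, 2981), (0, 2997), (0, 3029), (0, 3045), (0, 3061), (0, 3093), (0,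
    3109), (0, 3125), (0, 3141), (0, 3205), (0, 3269), (0, 3333), (0, 3413), (0, 3429), (0, 3445), (0,
    3477), (0, 3493), (0, 3509), (0, 3541), (0, 3557), (0, 3573), (0, 3589), (0, 3669), (0, 3685), (0,
    3701), (0, 3733), (0, 3749), (0, 3765), (0, 3797), (0, 3813), (0, 3829), (0, 3845), (0, 3925), (0,
    3941), (0, 3957), (0, 3989), (0, 4005), (0, 4021), (0, 4053), (0, 4069), (0, 4085), (1, 85), (1,
    101), (1, 117), (1, 149), (1, 165), (1, 181), (1, 213), (1, 229), (1, 245), (1, 277), (1, 293), (1,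
    309), (1, 325), (1, 389), (1, 453), (1, 533), (1, 549), (1, 565), (1, 581), (1, 645), (1, 709), (1,
    789), (1, 805), (1, 821), (1, 837), (1, 901), (1, 965), (1, 1045), (1, 1061), (1, 1077), (1, 1093),
    (1, 1157), (1, 1221), (1, 1285), (1, 1365), (1, 1381), (1, 1397), (1, 1429), (1, 1445), (1, 1461),
    (1, 1493), (1, 1509), (1, 1525), (1, 1541), (1, 1621), (1, 1637), (1, 1653), (1, 1685), (1, 1701),
    (1, 1717), (1, 1749), (1, 1765), (1, 1781), (1, 1797), (1, 1877), (1, 1893), (1, 1909), (1, 1941),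
    (1, 1957), (1, 1973), (1, 2005), (1, 2021), (1, 2037), (1, 2069), (1, 2085), (1, 2101), (1, 2117),
    (1, 2181), (1, 2245), (1, 2309), (1, 2389), (1, 2405), (1, 2421), (1, 2453), (1, 2469), (1, 2485),
    (1, 2517), (1, 2533), (1, 2549), (1, 2565), (1, 2645), (1, 2661), (1, 2677), (1, 2709), (1, 2725),
    (1, 2741), (1, 2773), (1, 2789), (1, 2805), (1, 2821), (1, 2901), (1, 2917), (1, 2933), (1, 2965),
    (1, 2981), (1, 2997), (1, 3029), (1, 3045), (1, 3061), (1, 3093), (1, 3109), (1, 3125), (1, 3141),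
    (1, 3205), (1, 3269), (1, 3333), (1, 3413), (1, 3429), (1, 3445), (1, 3477), (1, 3493), (1, 3509),
    (1, 3541), (1, 3557), (1, 3573), (1, 3589), (1, 3669), (1, 3685), (1, 3701), (1, 3733), (1, 3749),
    (1, 3765), (1, 3797), (1, 3813), (1, 3829), (1, 3845), (1, 3925), (1, 3941), (1, 3957), (1, 3989),
    (1, 4005), (1, 4021), (1, 4053), (1, 4069), (1, 4085), (2, 101), (2, 117), (2, 149), (2, 213), (2,
    293), (2, 309), (2, 389), (2, 453), (2, 549), (2, 565), (2, 645), (2, 709), (2, 805), (2, 821), (2,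
    901), (2, 965), (2, 1061), (2, 1077), (2, 1157), (2, 1221), (2, 1381), (2, 1397), (2, 1429), (2,
    1493), (2, 1637), (2, 1653), (2, 1685), (2, 1749), (2, 1893), (2, 1909), (2, 1941), (2, 2005), (2,
    2085), (2, 2101), (2, 2181), (2, 2245), (2, 2405), (2, 2421), (2, 2453), (2, 2517), (2, 2661), (2,
    2677), (2, 2709), (2, 2773), (2, 2917), (2, 2933), (2, 2965), (2, 3029), (2, 3109), (2, 3125), (2,
    3205), (2, 3269), (2, 3429), (2, 3445), (2, 3477), (2, 3541), (2, 3685), (2, 3701), (2, 3733), (2,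
    3797), (2, 3941), (2, 3957), (2, 3989), (2, 4053), (3, 165), (3, 229), (3, 277), (3, 309), (3, 389),
    (3, 453), (3, 533), (3, 565), (3, 645), (3, 709), (3, 789), (3, 821), (3, 901), (3, 965), (3, 1045),
    (3, 1077), (3, 1157), (3, 1221), (3, 1445), (3, 1509), (3, 1701), (3, 1765), (3, 1957), (3, 2021),
    (3, 2069), (3, 2101), (3, 2181), (3, 2245), (3, 2469), (3, 2533), (3, 2725), (3, 2789), (3, 2981),
    (3, 3045), (3, 3093), (3, 3125), (3, 3205), (3, 3269), (3, 3493), (3, 3557), (3, 3749), (3, 3813),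
    (3, 4005), (3, 4069), (4, 181), (4, 245), (4, 277), (4, 293), (4, 389), (4, 453), (4, 533), (4,
    549), (4, 645), (4, 709), (4, 789), (4, 805), (4, 901), (4, 965), (4, 1045), (4, 1061), (4, 1157),
    (4, 1221), (4, 1461), (4, 1525), (4, 1717), (4, 1781), (4, 1973), (4, 2037), (4, 2069), (4, 2085),
    (4, 2181), (4, 2245), (4, 2485), (4, 2549), (4, 2741), (4, 2805), (4, 2997), (4, 3061), (4, 3093),
    (4, 3109), (4, 3205), (4, 3269), (4, 3509), (4, 3573), (4, 3765), (4, 3829), (4, 4021), (4, 4085),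
    (5, 165), (5, 181), (5, 309), (5, 453), (5, 565), (5, 709), (5, 821), (5, 965), (5, 1077), (5,
    1221), (5, 1445), (5, 1461), (5, 1701), (5, 1717), (5, 1957), (5, 1973), (5, 2101), (5, 2245), (5,
    2469), (5, 2485), (5, 2725), (5, 2741), (5, 2981), (5, 2997), (5, 3125), (5, 3269), (5, 3493), (5,
    3509), (5, 3749), (5, 3765), (5, 4005), (5, 4021), (6, 277), (6, 453), (6, 533), (6, 709), (6, 789),
    (6, 965), (6, 1045), (6, 1221), (6, 2069), (6, 2245), (6, 3093), (6, 3269), (7, 293), (7, 453), (7,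
    549), (7, 709), (7, 805), (7, 965), (7, 1061), (7, 1221), (7, 2085), (7, 2245), (7, 3109), (7,
    3269), (8, 229), (8, 245), (8, 1509), (8, 1525), (8, 1765), (8, 1781), (8, 2021), (8, 2037), (8,
    2533), (8, 2549), (8, 2789), (8, 2805), (8, 3045), (8, 3061), (8, 3557), (8, 3573), (8, 3813), (8,
    3829), (8, 4069), (8, 4085), (11, 293), (11, 309), (17, 549), (17, 565), (23, 805), (23, 821), (29,
    1061), (29, 1077), (65, 2085), (65, 2101), (101, 3109), (101, 3125)]⟩

theorem level1_ok : levelCheck level1 = true := by decide +kernel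

/-- A level. -/
def level2 : Level := ⟨[5, 9], [true, false], [85],
    [(0, 144), (0, 208), (0, 272), (0, 320), (0, 528), (0, 576), (0, 784), (0, 832), (0, 1040), (0,
    1088), (0, 1424), (0, 1488), (0, 1680), (0, 1744), (0, 1936), (0, 2000), (0, 2064), (0, 2112), (0,
    2448), (0, 2512), (0, 2704), (0, 2768), (0, 2960), (0, 3024), (0, 3088), (0, 3136), (0, 3472), (0,
    3536), (0, 3728), (0, 3792), (0, 3984), (0, 4048), (1, 272), (1, 320), (1, 528), (1, 576), (1, 784),
    (1, 832), (1, 1040), (1, 1088), (1, 1424), (1, 1680), (1, 1936), (1, 2064), (1, 2112), (1, 2448),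
    (1, 2704), (1, 2960), (1, 3088), (1, 3136), (1, 3472), (1, 3728), (1, 3984), (2, 272), (2, 320), (2,
    528), (2, 576), (2, 784), (2, 832), (2, 1040), (2, 1088), (2, 2064), (2, 2112), (2, 3088), (2,
    3136), (3, 528), (3, 784), (3, 1088), (3, 1424), (3, 1488), (3, 1744), (3, 1936), (3, 2112), (3,
    2448), (3, 2512), (3, 2768), (3, 2960), (3, 3136), (3, 3472), (3, 3536), (3, 3792), (3, 3984), (4,
    576), (4, 832), (4, 1744), (4, 1936), (4, 2768), (4, 2960), (4, 3792), (4, 3984), (5, 1088), (5,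
    1424), (5, 1680), (5, 1744), (5, 2000), (5, 2112), (5, 2448), (5, 2704), (5, 2768), (5, 3024), (5,
    3136), (5, 3472), (5, 3728), (5, 3792), (5, 4048), (6, 1424), (6, 2000), (6, 2448), (6, 3024), (6,
    3472), (6, 4048), (7, 1088), (7, 1488), (7, 1680), (7, 1936), (7, 2000), (7, 2112), (7, 2512), (7,
    2704), (7, 2960), (7, 3024), (7, 3136), (7, 3536), (7, 3728), (7, 3984), (7, 4048), (8, 1488), (8,
    1680), (8, 2512), (8, 2704), (8, 3536), (8, 3728), (33, 528), (34, 832)]⟩

theorem level2_ok : levelCheck level2 = true := by decide +kernel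

/-- A level. -/
def level3 : Level := ⟨[5, 9, 85], [true, true, false], [144],
    [(0, 80), (0, 1360), (0, 1616), (0, 1872), (0, 2384), (0, 2640), (0, 2896), (0, 3408), (0, 3664),
    (0, 3920), (1, 1360), (1, 1616), (1, 1872), (1, 2384), (1, 2640), (1, 2896), (1, 3408), (1, 3664),
    (1, 3920), (2, 1616), (2, 1872), (2, 2384), (2, 3408), (3, 2640), (3, 3664), (4, 2896), (4, 3920),
    (5, 2640), (5, 2896), (8, 3664), (8, 3920)]⟩

theorem level3_ok : levelCheck level3 = true := by decide +kernel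

/-- A level. -/
def level4 : Level := ⟨[5, 9, 85, 144], [true, true, true, false], [80, 1360, 1616, 1872],
    [(1, 2304), (1, 3328), (2, 1280), (2, 2304), (3, 1280), (3, 3328)]⟩

theorem level4_ok : levelCheck level4 = true := by decide +kernel

/-- A level. -/
def level5 : Level := ⟨[5, 9, 85, 144, 80], [true, true, true, true, false], [],
    []⟩

theorem level5_ok : levelCheck level5 = true := by decide +kernel

/-- A level. -/
def level6 : Level := ⟨[5, 9, 85, 144, 1360], [true, true, true, true, false], [2304],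
    [(0, 1280)]⟩

theorem level6_ok : levelCheck level6 = true := by decide +kernel

/-- A level. -/
def level7 : Level := ⟨[5, 9, 85, 144, 1616], [true, true, true, true, false], [1280],
    [(0, 3328)]⟩

theorem level7_ok : levelCheck level7 = true := by decide +kernel

/-- A level. -/
def level8 : Level := ⟨[5, 9, 85, 144, 1872], [true, true, true, true, false], [1280],
    [(0, 2304)]⟩

theorem level8_ok : levelCheck level8 = true := by decide +kernel

/-- The levels. -/
def levels : List Level := [level0, level1, level2, level3, level4, level5, level6, level7, level8]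

/-- The standard chains of each length. -/
def leafTab : List (List (List ℕ)) :=
  [[[]],
    [[5]],
    [[5, 9]],
    [[5, 9, 85]],
    [[5, 9, 85, 144]],
    [[5, 9, 85, 144, 80], [5, 9, 85, 144, 1360], [5, 9, 85, 144, 1616], [5, 9, 85, 144, 1872]],
    [[5, 9, 85, 144, 1360, 2304], [5, 9, 85, 144, 1616, 1280], [5, 9, 85, 144, 1872, 1280]]]

/-- A chain of five commuting with the first two points. -/
def fiveList : List ℕ := [80, 144, 1360, 2304, 1280]

end CfsgLib.Sporadic.FiTransfer.Uniq
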