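import Cfsg.Agent.Lib.ThreeTransp.Basic

/-!
# Rewriting certificates for words in involutions of a diagram

A move deletes a repeated letter, swaps two unjoined letters or performs a braid; a certificate
brings two words to the same word.
-/

set_option autoImplicit false

namespace CfsgLib.Sporadic.FiTransfer.Uniq

/-- The diagram Y332 on 0 … 8. -/
def joined (s t : ℕ) : Bool :=
  [(0, 1), (1, 2), (2, 3), (3, 4), (4, 5), (5, 6), (3, 7), (7, 8)].any fun e =>
    (Nat.beq e.1 s && Nat.beq e.2 t) || (Nat.beq e.1 t && Nat.beq e.2 s)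

/-- One move on the head of a word. -/
def moveHead (kind : ℕ) (l : List ℕ) : Option (List ℕ) :=
  match kind, l with
  | 0, s :: t :: r => if Nat.beq s t then some r else none
  | 1, s :: t :: r => if !(joined s t) && Nat.blt s 9 && Nat.blt t 9 then some (t :: s :: r) else none
  | 2, s :: t :: u :: r =>
      if Nat.beq s u && joined s t && Nat.blt s 9 && Nat.blt t 9 then some (t :: s :: t :: r) else none
  | _, _ => none

/-- One move at a position. -/
def moveAt : ℕ → ℕ → List ℕ → Option (List ℕ)
  | 0, k, l => moveHead k l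
  | n + 1, k, a :: l => (moveAt n k l).map (a :: ·)
  | _ + 1, _, [] => none

/-- A sequence of moves. -/
def moves : List (ℕ × ℕ) → List ℕ → Option (List ℕ)
  | [], l => some l
  | (n, k) :: r, l => (moveAt n k l).bind (moves r)

/-- A certificate of equality of two words. -/
def sameWord (w₁ w₂ : List ℕ) (m₁ m₂ : List (ℕ × ℕ)) : Bool :=
  match moves m₁ w₁, moves m₂ w₂ with
  | some a, some b => decide (a = b)
  | _, _ => false

/-- All letters lie in range. -/
def inRange (w : List ℕ) : Bool := w.all fun s => Nat.blt s 9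

variable {G : Type*} [Group G]

/-- The value of a word. -/
def ev (v : ℕ → G) (l : List ℕ) : G := (l.map v).prod

theorem ev_append (v : ℕ → G) (l m : List ℕ) : ev v (l ++ m) = ev v l * ev v m := by
  simp [ev]

theorem ev_cons (v : ℕ → G) (a : ℕ) (l : List ℕ) : ev v (a :: l) = v a * ev v l := by simp [ev]

theorem ev_singleton (v : ℕ → G) (a : ℕ) : ev v [a] = v a := by simp [ev]

theorem ev_nil (v : ℕ → G) : ev v [] = 1 := rfl

/-- The relations of the diagram. -/
structure Rels (v : ℕ → G) : Prop where
  sq : ∀ i, v i * v i = 1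
  comm : ∀ i < 9, ∀ j < 9, joined i j = false → v i * v j = v j * v i
  braid : ∀ i < 9, ∀ j < 9, joined i j = true → v i * v j * v i = v j * v i * v j

variable {v : ℕ → G} (hv : Rels v)
include hv

theorem ev_moveHead : ∀ {k : ℕ} {l l' : List ℕ}, moveHead k l = some l' → ev v l' = ev v l := by
  intro k l l' h
  unfold moveHead at h
  split at h
  · split at h
    · rename_i s t r h1
      obtain rfl := Option.some.inj h
      rw [Nat.eq_of_beq_eq_true h1, ev_cons, ev_cons, ← mul_assoc, hv.sq, one_mul]
    · simp at h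
  · split at h
    · rename_i s t r h1
      obtain rfl := Option.some.inj h
      simp only [Bool.and_eq_true, Bool.not_eq_true', Nat.blt_eq] at h1
      rw [ev_cons, ev_cons, ev_cons, ev_cons, ← mul_assoc, ← mul_assoc, hv.comm _ h1.1.2 _ h1.2 h1.1.1]
    · simp at h
  · split at h
    · rename_i s t u r h1
      obtain rfl := Option.some.inj h
      simp only [Bool.and_eq_true, Nat.blt_eq] at h1
      rw [← Nat.eq_of_beq_eq_true h1.1.1.1]
      simp only [ev_cons, ← mul_assoc]
      rw [hv.braid _ h1.1.2 _ h1.2 h1.1.1.2]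
    · simp at h
  · simp at h

theorem ev_moveAt : ∀ {n k : ℕ} {l l' : List ℕ}, moveAt n k l = some l' → ev v l' = ev v l := by
  intro n
  induction n with
  | zero => exact fun h => ev_moveHead hv h
  | succ n ih =>
    intro k l l' h
    cases l with
    | nil => simp [moveAt] at h
    | cons a l =>
      simp only [moveAt, Option.map_eq_some_iff] at h
      obtain ⟨m, hm, rfl⟩ := h
      rw [ev_cons, ev_cons, ih hm]

theorem ev_moves : ∀ {ms : List (ℕ × ℕ)} {l l' : List ℕ}, moves ms l = some l' → ev v l' = ev v l := by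
  intro ms
  induction ms with
  | nil => intro l l' h; obtain rfl := Option.some.inj h; rfl
  | cons p r ih =>
    intro l l' h
    obtain ⟨n, k⟩ := p
    simp only [moves, Option.bind_eq_some_iff] at h
    obtain ⟨m, hm, h'⟩ := h
    rw [ih h', ev_moveAt hv hm]

theorem ev_eq {w₁ w₂ : List ℕ} {m₁ m₂ : List (ℕ × ℕ)} (h : sameWord w₁ w₂ m₁ m₂ = true) :
    ev v w₁ = ev v w₂ := by
  unfold sameWord at h
  split at h
  · rename_i a b h1 h2
    rw [decide_eq_true_eq] at h
    rw [← ev_moves hv h1, ← ev_moves hv h2, h]
  · simp at h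

theorem ev_reverse (l : List ℕ) : ev v l.reverse * ev v l = 1 := by
  induction l with
  | nil => simp [ev]
  | cons a l ih =>
    rw [List.reverse_cons, ev_append, ev_singleton, ev_cons, mul_assoc, ← mul_assoc (v a), hv.sq, one_mul, ih]

theorem ev_reverse_eq (l : List ℕ) : ev v l.reverse = (ev v l)⁻¹ := eq_inv_of_mul_eq_one_left (ev_reverse hv l)

/-- A word with the value of a letter conjugated by a word lies in a normal set containing the letter. -/
theorem ev_palindrome_mem {D : Set G} (hconj : ∀ g : G, ∀ d ∈ D, g * d * g⁻¹ ∈ D) {s : ℕ} (hs : v s ∈ D)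
    (u : List ℕ) : ev v (u ++ [s] ++ u.reverse) ∈ D := by
  rw [ev_append, ev_append, ev_singleton, ev_reverse_eq hv]
  exact hconj _ _ hs

end CfsgLib.Sporadic.FiTransfer.Uniq
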