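import Cfsg.Agent.Lib.Sporadic.FiTransfer.Uniq.Checks
import Cfsg.Agent.Lib.Sporadic.FiTransfer.Uniq.Words

/-!
# Configurations of transpositions

A diagram Y332 of members of `D`, and what the unitary frames say about it.
-/

set_option autoImplicit false
set_option linter.unusedSectionVars false

namespace CfsgLib.Sporadic.FiTransfer.Uniq

open CfsgLib.Sporadic.MTwentyTwo (Ctx)
open CfsgLib.Sporadic.FischerTransitivity (Nb)

attribute [local irreducible] rc ptCodes leafTab levels casesTwo casesFour casesFive fiveList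

variable {G : Type*} [Group G] [Finite G] {D : Set G} (ctx : Ctx D)
include ctx

/-- The points of the frame commuting with `b`. -/
def comSet (b : G) (f : ℕ → G) : Set ℕ := {p | IsPt p ∧ Commute b (f p)}

theorem comSet_closed {x b : G} {f : ℕ → G} (F : Frame D x f) : Closed (comSet b f) := by
  rintro p ⟨hp, hbp⟩ q ⟨hq, hbq⟩
  exact ⟨rc_isPt hp hq, by rw [← F.conj hp hq]; exact (hbp.mul_right hbq).mul_right hbp⟩

theorem comSet_deg {x b : G} {f : ℕ → G} (F : Frame D x f) (hx : x ∈ D) (hb : b ∈ D)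
    (hxb : ¬ Commute x b) : Deg45 (comSet b f) := by
  rintro p ⟨hp, hbp⟩
  have hpx := F.mem hp
  have he : f p ∈ Nb D x ∩ Nb D b :=
    ⟨hpx, hpx.1, fun e => hxb (e ▸ hpx.2.2), hbp⟩
  rw [← ctx.card_nb_three hx hxb he hb]
  rw [← Set.InjOn.ncard_image (f := f) (s := {q | q ∈ comSet b f ∧ q ≠ p ∧ rc p q = q})
    fun u hu v hv => F.inj hu.1.1 hv.1.1]
  congr 1
  ext z
  constructor
  · rintro ⟨q, ⟨⟨hq, hbq⟩, hqp, hqc⟩, rfl⟩
    exact ⟨⟨(F.mem hq).1, fun e => hqp (F.inj hq hp e), (F.commute_iff ctx.hD hp hq).2 hqc⟩,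
      F.mem hq, (F.mem hq).1, fun e => hxb (e ▸ (F.mem hq).2.2), hbq⟩
  · rintro ⟨hzp, hzx, hzb⟩
    obtain ⟨q, hq, rfl⟩ := F.surj hzx
    exact ⟨q, ⟨⟨hq, hzb.2.2⟩, fun e => hzp.2.1 (by rw [e]), (F.commute_iff ctx.hD hp hq).1 hzp.2.2⟩, rfl⟩

/-- A chain of `k` members commuting with `x`. -/
def IsChainIn (D : Set G) (x : G) (k : ℕ) (y : ℕ → G) : Prop :=
  (∀ i < k, y i ∈ Nb D x) ∧ ∀ i j, i < j → j < k → (Commute (y i) (y j) ↔ i + 1 ≠ j) ∧ y i ≠ y j

theorem leaf_facts {k : ℕ} (hk : k < 7) {L : List ℕ} (hL : L ∈ leaves k) :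
    L.length = k ∧ ∀ p ∈ L, IsPt p := by
  have h := leaves_len
  simp only [List.all_eq_true, List.mem_range, Bool.and_eq_true] at h
  obtain ⟨h1, h2⟩ := h k hk L hL
  exact ⟨Nat.eq_of_beq_eq_true h1, fun p hp => isPt_of_mem (mem_of _ _ (h2 p hp))⟩

theorem leaf_getD {k : ℕ} (hk : k < 7) {L : List ℕ} (hL : L ∈ leaves k) {i : ℕ} (hi : i < k) :
    L.getD i 0 ∈ L ∧ IsPt (L.getD i 0) := by
  obtain ⟨h1, h2⟩ := leaf_facts ctx hk hL
  have : L.getD i 0 ∈ L := by
    rw [List.getD_eq_getElem _ _ (h1 ▸ hi)]; exact List.getElem_mem _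
  exact ⟨this, h2 _ this⟩

theorem normalise {x : G} (hx : x ∈ D) : ∀ (k : ℕ), k ≤ 6 → ∀ (f : ℕ → G), Frame D x f → ∀ (y : ℕ → G),
    IsChainIn D x k y → ∃ f', Frame D x f' ∧ ∃ L ∈ leaves k, ∀ i < k, f' (L.getD i 0) = y i := by
  intro k
  induction k with
  | zero =>
    intro _ f F y _
    exact ⟨f, F, [], by rw [leaves_zero]; simp, fun i hi => absurd hi (Nat.not_lt_zero i)⟩
  | succ k ih =>
    intro hk f F y hy
    obtain ⟨f₁, F₁, L, hL, hfL⟩ := ih (by omega) f F y
      ⟨fun i hi => hy.1 i (by omega), fun i j hij hj => hy.2 i j hij (by omega)⟩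
    have h := levels_next
    simp only [List.all_eq_true, List.mem_range, List.any_eq_true, Bool.and_eq_true, decide_eq_true_eq] at h
    obtain ⟨lv, hlv, ⟨hpre, hpat⟩, hroots⟩ := h k (by omega) L hL
    obtain ⟨hlen, hpt⟩ := leaf_facts ctx (k := k) (by omega) hL
    obtain ⟨f', F', r, hr, hagree, hfr⟩ := level_spec ctx.hD F₁ (levels_ok lv hlv).1 (hpre ▸ hpt)
      (hy.1 k (Nat.lt_succ_self k)) (by
        rw [hpre, hpat]
        intro t ht
        obtain ⟨i, hi, e⟩ := List.getElem_of_mem ht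
        have hik : i < k := by simpa [chainPat, hlen] using hi
        rw [List.getElem_zip] at e
        subst e
        have hv := hfL i hik
        rw [List.getD_eq_getElem _ _ (hlen.symm ▸ hik)] at hv
        obtain ⟨h1, h2⟩ := hy.2 i k hik (Nat.lt_succ_self k)
        simp only [hv, h1, chainPat, List.getElem_map, List.getElem_range, Bool.not_eq_true']
        exact ⟨⟨fun h3 => Bool.eq_false_iff.2 fun e => h3 (Nat.eq_of_beq_eq_true e),
          fun h3 e => by subst e; simp at h3⟩, h2⟩)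
    refine ⟨f', F', L ++ [r], hroots r hr, fun i hi => ?_⟩
    rcases Nat.lt_succ_iff_lt_or_eq.1 hi with hi' | rfl
    · rw [List.getD_append _ _ _ _ (hlen.symm ▸ hi'), ← hfL i hi']
      exact hagree _ (hpre ▸ (leaf_getD ctx (by omega) hL hi').1)
    · rw [List.getD_append_right _ _ _ _ hlen.le, hlen, Nat.sub_self]
      exact hfr

theorem com_iff {x : G} {f : ℕ → G} (F : Frame D x f) {p q : ℕ} (hp : IsPt p) (hq : IsPt q) :
    com p q = true ↔ Commute (f p) (f q) := by
  rw [F.commute_iff ctx.hD hp hq]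
  exact ⟨Nat.eq_of_beq_eq_true, fun e => by rw [com, e]; exact Nat.beq_refl q⟩

theorem com_false {x : G} {f : ℕ → G} (F : Frame D x f) {p q : ℕ} (hp : IsPt p) (hq : IsPt q)
    (h : ¬ Commute (f p) (f q)) : com p q = false :=
  Bool.eq_false_iff.2 fun e => h ((com_iff ctx F hp hq).1 e)

theorem hasPat_six {x : G} {f : ℕ → G} (F : Frame D x f) {L : List ℕ} (hlen : L.length = 6)
    (hpt : ∀ p ∈ L, IsPt p) {q : ℕ} (hq : IsPt q) {pat : List Bool} (hpl : pat.length = 6)
    (h : ∀ i < 6, (Commute (f (L.getD i 0)) (f q) ↔ pat.getD i false = true) ∧ f (L.getD i 0) ≠ f q) :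
    hasPat L pat q = true := by
  rw [hasPat, List.all_eq_true]
  intro t ht
  obtain ⟨i, hi, e⟩ := List.getElem_of_mem ht
  rw [List.getElem_zip] at e
  subst e
  have hi6 : i < 6 := by simpa [hlen, hpl] using hi
  obtain ⟨h1, h2⟩ := h i hi6
  rw [List.getD_eq_getElem _ _ (hlen.symm ▸ hi6)] at h1 h2
  rw [List.getD_eq_getElem _ _ (hpl.symm ▸ hi6)] at h1
  have hp := hpt _ (List.getElem_mem (hlen.symm ▸ hi6))
  simp only [Bool.and_eq_true, beq_iff_eq, Bool.not_eq_true']
  refine ⟨?_, Bool.eq_false_iff.2 fun e => h2 (by rw [Nat.eq_of_beq_eq_true e])⟩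
  rcases Bool.eq_false_or_eq_true (pat[i]'(hpl.symm ▸ hi6)) with e | e <;> rw [e]
  · exact (com_iff ctx F hp hq).2 (h1.2 e)
  · exact com_false ctx F hp hq fun hc => by simp [h1.1 hc] at e

/-- Nine members of `D` in the pattern of the diagram. -/
structure Diag (D : Set G) (v : ℕ → G) : Prop where
  mem : ∀ i < 9, v i ∈ D
  out : ∀ i, 9 ≤ i → v i = 1
  adj : ∀ i < 9, ∀ j < 9, i ≠ j → (Commute (v i) (v j) ↔ joined i j = false)

theorem Diag.ne {v : ℕ → G} (hv : Diag D v) {i j : ℕ} (hi : i < 9) (hj : j < 9) (hij : i ≠ j) : v i ≠ v j := by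
  intro e
  have hk : ∀ i < 9, ∀ j < 9, i ≠ j → joined i j = true ∨
      ∃ k < 9, k ≠ i ∧ k ≠ j ∧ joined i k ≠ joined j k := by decide
  rcases hk i hi j hj hij with h | ⟨k, hk, hki, hkj, h⟩
  · have := (hv.adj i hi j hj hij).1 (by rw [e])
    rw [h] at this
    exact Bool.noConfusion this
  · have h1 := hv.adj i hi k hk hki.symm
    rw [e, hv.adj j hj k hk hkj.symm] at h1
    apply h
    revert h1
    cases joined i k <;> cases joined j k <;> simp

theorem Diag.commute {v : ℕ → G} (hv : Diag D v) {i j : ℕ} (hi : i < 9) (hj : j < 9)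
    (h : joined i j = false) : Commute (v i) (v j) := by
  rcases eq_or_ne i j with rfl | hij
  · exact Commute.refl _
  · exact (hv.adj i hi j hj hij).2 h

theorem Diag.noncomm {v : ℕ → G} (hv : Diag D v) {i j : ℕ} (hi : i < 9) (hj : j < 9)
    (h : joined i j = true) : ¬ Commute (v i) (v j) := fun hc => by
  rcases eq_or_ne i j with rfl | hij
  · have : ∀ i < 9, joined i i = false := by decide
    rw [this i hi] at h
    exact Bool.noConfusion h
  · rw [(hv.adj i hi j hj hij).1 hc] at h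
    exact Bool.noConfusion h

theorem Diag.nb {v : ℕ → G} (hv : Diag D v) {i j : ℕ} (hi : i < 9) (hj : j < 9) (hij : i ≠ j)
    (h : joined i j = false) : v j ∈ Nb D (v i) :=
  ⟨hv.mem j hj, (hv.ne ctx hi hj hij).symm, hv.commute ctx hi hj h⟩

/-- The position in the diagram of a member of the chain `g f e D h i`. -/
def chainA (k : ℕ) : ℕ := [6, 5, 4, 3, 7, 8].getD k 0

theorem exists_diag : ∃ v : ℕ → G, Diag D v := by
  classical
  obtain ⟨a, ha, -⟩ := ctx.hprim.2.1
  obtain ⟨b, hb, hab⟩ := ctx.exists_noncomm ha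
  obtain ⟨e, he, -⟩ := ctx.common_noncomm ha hb hab
  -- five members in the frame at `e`
  obtain ⟨fe, Fe⟩ := exists_frame ctx he.1.1
  have hae : a ∈ Nb D e := ⟨ha, Ne.symm he.1.2.1, he.1.2.2.symm⟩
  have hbe : b ∈ Nb D e := ⟨hb, Ne.symm he.2.2.1, he.2.2.2.symm⟩
  obtain ⟨fe, Fe, L₂, hL₂, hf₂⟩ := normalise ctx he.1.1 2 (by omega) fe Fe (fun i => if i = 0 then a else b) (by
    refine ⟨fun i _ => by dsimp only; split <;> assumption, fun i j hij hj => ?_⟩
    obtain ⟨rfl, rfl⟩ : i = 0 ∧ j = 1 := by omega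
    simp only [if_pos, one_ne_zero, if_false]
    exact ⟨⟨fun h => absurd h hab, fun h => absurd rfl h⟩, fun e' => hab (e' ▸ Commute.refl a)⟩)
  have hfive := List.all_eq_true.1 five_ok L₂ hL₂
  simp only [Bool.and_eq_true, List.all_eq_true, Bool.not_eq_true'] at hfive
  obtain ⟨⟨hlen, hchain⟩, hz⟩ := hfive
  replace hlen := Nat.eq_of_beq_eq_true hlen
  simp only [isChain, hlen, List.all_eq_true, List.mem_range, Bool.or_eq_true, Bool.and_eq_true,
    Bool.not_eq_true', beq_iff_eq] at hchain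
  have hzm : ∀ k < 5, IsPt (fiveList.getD k 0) ∧ fe (fiveList.getD k 0) ∈ Nb D a ∧
      fe (fiveList.getD k 0) ∈ Nb D b := by
    intro k hk
    have hm : fiveList.getD k 0 ∈ fiveList := by
      rw [List.getD_eq_getElem _ _ (hlen.symm ▸ hk)]; exact List.getElem_mem _
    obtain ⟨h1, h2⟩ := hz _ hm
    have hp := isPt_of_mem (mem_of _ _ h1)
    have side : ∀ i < 2, fe (fiveList.getD k 0) ∈ Nb D (fe (L₂.getD i 0)) := fun i hi => by
      obtain ⟨h3, h4⟩ := leaf_getD ctx (by omega) hL₂ hi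
      obtain ⟨h5, h6⟩ := h2 _ h3
      exact ⟨(Fe.mem hp).1, fun e' => by rw [Fe.inj hp h4 e'] at h6; simp at h6, (com_iff ctx Fe h4 hp).1 h5⟩
    have s0 := side 0 (by omega)
    have s1 := side 1 (by omega)
    rw [hf₂ 0 (by omega)] at s0
    rw [hf₂ 1 (by omega)] at s1
    exact ⟨hp, by simpa using s0, by simpa using s1⟩
  -- a chain of six in the frame at `a`
  obtain ⟨fa, Fa⟩ := exists_frame ctx ha
  obtain ⟨fa, Fa, L₅, hL₅, hf₅⟩ := normalise ctx ha 5 (by omega) fa Fa (fun k => fe (fiveList.getD k 0)) (by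
    refine ⟨fun k hk => (hzm k hk).2.1, fun i j hij hj => ?_⟩
    obtain ⟨hp, -, -⟩ := hzm i (by omega)
    obtain ⟨hq, -, -⟩ := hzm j hj
    have h := hchain i (by omega) j hj
    rw [show Nat.blt i j = true by rw [Nat.blt_eq]; exact hij] at h
    replace h := h.resolve_left (by simp)
    refine ⟨?_, fun e' => by rw [Fe.inj hp hq e'] at h; simp at h⟩
    rw [← com_iff ctx Fe hp hq, h.1, Bool.not_eq_true']
    exact ⟨fun h' e' => by subst e'; simp at h', fun h' => Bool.eq_false_iff.2 fun e' => h' (Nat.eq_of_beq_eq_true e')⟩)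
  obtain ⟨hlen5, hpt5⟩ := leaf_facts ctx (k := 5) (by omega) hL₅
  obtain ⟨q, hq, hfq⟩ := Fa.surj he.1
  have hS : ∀ k < 5, Commute b (fa (L₅.getD k 0)) := fun k hk => by rw [hf₅ k hk]; exact (hzm k hk).2.2.2.2
  have hqz : ∀ k < 5, Commute (fa (L₅.getD k 0)) (fa q) ∧ fa (L₅.getD k 0) ≠ fa q := fun k hk => by
    rw [hf₅ k hk, hfq]
    exact ⟨((Fe.mem (hzm k hk).1).2.2).symm, (Fe.mem (hzm k hk).1).2.1⟩
  have hpat : hasPat L₅ [true, true, true, true, true] q = true := by
    rw [hasPat, List.all_eq_true]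
    intro t ht
    obtain ⟨i, hi, e'⟩ := List.getElem_of_mem ht
    rw [List.getElem_zip] at e'
    subst e'
    have hi5 : i < 5 := by simpa [hlen5] using hi
    obtain ⟨h1, h2⟩ := hqz i hi5
    rw [List.getD_eq_getElem _ _ (hlen5.symm ▸ hi5)] at h1 h2
    have hp := hpt5 _ (List.getElem_mem (hlen5.symm ▸ hi5))
    simp only [Bool.and_eq_true, beq_iff_eq, Bool.not_eq_true']
    refine ⟨?_, Bool.eq_false_iff.2 fun e'' => h2 (by rw [Nat.eq_of_beq_eq_true e''])⟩
    rw [show ([true, true, true, true, true][i]'(by simpa using hi5)) = true by interval_cases i <;> rfl]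
    exact (com_iff ctx Fa hp hq).2 h1
  have htwo := List.all_eq_true.1 (List.all_eq_true.1 two_ext L₅ hL₅) q (mem_ptCodes hq)
  rw [hpat, Bool.not_true, Bool.false_or, List.any_eq_true] at htwo
  obtain ⟨C, hC, hCp⟩ := htwo
  simp only [Bool.and_eq_true, decide_eq_true_eq, List.isEmpty_iff, List.all_eq_true] at hCp
  obtain ⟨⟨hkey, hforb⟩, houts⟩ := hCp
  have hclosed := comSet_closed ctx (b := b) Fa
  have hdeg := comSet_deg ctx Fa ha hb hab
  obtain ⟨o, ho, hoS, -⟩ := (casesTwo_ok C hC |> Case.result) (fun p (hp : p ∈ comSet b fa) => hp.1) hclosed hdeg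
    (by rw [hforb]; simp) (by
      rw [hkey]
      intro g hg
      rcases List.mem_append.1 hg with hg | hg
      · obtain ⟨i, hi, rfl⟩ := List.getElem_of_mem hg
        rw [← List.getD_eq_getElem _ 0 hi]
        exact ⟨(leaf_getD ctx (by omega) hL₅ (hlen5 ▸ hi)).2, hS i (hlen5 ▸ hi)⟩
      · rw [List.mem_singleton] at hg
        exact ⟨hg ▸ hq, by rw [hg, hfq]; exact he.2.2.2⟩)
  obtain ⟨holen, hoch⟩ := houts o ho
  replace holen := Nat.eq_of_beq_eq_true holen
  simp only [isChain, holen, List.all_eq_true, List.mem_range, Bool.or_eq_true, Bool.and_eq_true,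
    Bool.not_eq_true', beq_iff_eq] at hoch
  have hoS' : ∀ k < 6, o.2.getD k 0 ∈ comSet b fa := fun k hk => by
    rw [List.getD_eq_getElem _ _ (holen.symm ▸ hk)]; exact hoS _ (List.getElem_mem _)
  set y : ℕ → G := fun k => fa (o.2.getD k 0) with hy
  have hychain : IsChainIn D a 6 y := by
    refine ⟨fun k hk => Fa.mem (hoS' k hk).1, fun i j hij hj => ?_⟩
    have hp := (hoS' i (by omega)).1
    have hq' := (hoS' j hj).1
    have h := hoch i (by omega) j hj
    rw [show Nat.blt i j = true by rw [Nat.blt_eq]; exact hij] at h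
    replace h := h.resolve_left (by simp)
    refine ⟨?_, fun e' => by rw [Fa.inj hp hq' e'] at h; simp at h⟩
    rw [← com_iff ctx Fa hp hq', h.1, Bool.not_eq_true']
    exact ⟨fun h' e' => by subst e'; simp at h', fun h' => Bool.eq_false_iff.2 fun e' => h' (Nat.eq_of_beq_eq_true e')⟩
  -- the seventh member
  obtain ⟨f, F, L, hL, hf⟩ := normalise ctx ha 6 le_rfl fa Fa y hychain
  obtain ⟨hlen6, hpt6⟩ := leaf_facts ctx (k := 6) (by omega) hL
  have hfour := List.all_eq_true.1 four_ext L hL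
  rw [List.any_eq_true] at hfour
  obtain ⟨C, hC, hCp⟩ := hfour
  simp only [Bool.and_eq_true, decide_eq_true_eq, List.isEmpty_iff, List.all_eq_true] at hCp
  obtain ⟨⟨hkey, hforb⟩, houts⟩ := hCp
  obtain ⟨N, hN, -, hNS⟩ := (casesFour_ok C hC |> Case.result) (fun p (hp : p ∈ comSet b f) => hp.1)
    (comSet_closed ctx F) (comSet_deg ctx F ha hb hab) (by rw [hforb]; simp) (by
      rw [hkey]
      intro g hg
      obtain ⟨i, hi, rfl⟩ := List.getElem_of_mem hg
      rw [← List.getD_eq_getElem _ 0 hi]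
      exact ⟨(leaf_getD ctx (by omega) hL (hlen6 ▸ hi)).2, by
        rw [hf i (hlen6 ▸ hi)]; exact (hoS' i (hlen6 ▸ hi)).2⟩)
  obtain ⟨hflag, hfacts⟩ := houts N hN
  simp only [factsA, Bool.and_eq_true, List.any_eq_true, Bool.not_eq_true'] at hfacts
  obtain ⟨⟨r, hr, hrpat, hrN⟩, -⟩ := hfacts
  have hrp := isPt_of_mem hr
  have hbc : ¬ Commute b (f r) := fun h => by
    have := hNS hflag r ⟨hrp, h⟩
    have h' : mem r N.2 = true := List.any_eq_true.2 ⟨r, this, Nat.beq_refl r⟩
    rw [hrN] at h'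
    exact Bool.noConfusion h'
  have hcy : ∀ k < 6, Commute (f r) (y k) ↔ k ≠ 3 := by
    intro k hk
    rw [hasPat, List.all_eq_true] at hrpat
    have hk' : k < (L.zip patC).length := by simp [hlen6, patC]; omega
    have h := hrpat _ (List.getElem_mem hk')
    rw [List.getElem_zip, Bool.and_eq_true, beq_iff_eq] at h
    obtain ⟨hm, hp⟩ := leaf_getD ctx (by omega) hL hk
    have he' : L[k]'(hlen6.symm ▸ hk) = L.getD k 0 := (List.getD_eq_getElem _ _ (hlen6.symm ▸ hk)).symm
    rw [Commute.symm_iff, ← hf k hk, ← com_iff ctx F hp hrp, ← he']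
    show Nat.beq _ _ = true ↔ _
    rw [show Nat.beq (rc L[k] r) r = patC[k]'(by simp [patC]; omega) from h.1]
    interval_cases k <;> simp [patC]
  set v : ℕ → G := fun i => [a, b, f r, y 3, y 2, y 1, y 0, y 4, y 5].getD i 1 with hv
  have ysym : ∀ i j, i < 6 → j < 6 → i ≠ j → (Commute (y i) (y j) ↔ i + 1 ≠ j ∧ j + 1 ≠ i) := by
    intro i j hi hj hij
    rcases lt_or_gt_of_ne hij with h | h
    · rw [(hychain.2 i j h hj).1]; omega
    · rw [Commute.symm_iff, (hychain.2 j i h hi).1]; omega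
  have hay : ∀ k < 6, Commute a (y k) := fun k hk => (hychain.1 k hk).2.2
  have hby : ∀ k < 6, Commute b (y k) := fun k hk => (hoS' k hk).2
  have hac : Commute a (f r) := (F.mem hrp).2.2
  refine ⟨v, ?_, ?_, ?_⟩
  · intro i hi
    interval_cases i <;> first
      | exact ha
      | exact hb
      | exact (F.mem hrp).1
      | exact (hychain.1 _ (by norm_num)).1
  · intro i hi
    exact List.getD_eq_default _ _ (by simpa using hi)
  · intro i hi j hj hij
    rcases lt_or_gt_of_ne hij with h | h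
    · interval_cases j <;> interval_cases i <;> first
        | (simp +decide [v, joined, hab, hbc, hac]; done)
        | (simp +decide [v, joined, hay, hby, hcy, ysym]; done)
    · rw [Commute.symm_iff]
      interval_cases i <;> interval_cases j <;> first
        | (simp +decide [v, joined, hab, hbc, hac]; done)
        | (simp +decide [v, joined, hay, hby, hcy, ysym]; done)

/-- The members of the chain `g f e D h i` seen from `a`. -/
theorem chainA_facts {v : ℕ → G} (hv : Diag D v) :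
    IsChainIn D (v 0) 6 (fun k => v (chainA k)) ∧ ∀ k < 6, Commute (v 1) (v (chainA k)) := by
  have h0 : ∀ k < 6, chainA k < 9 ∧ chainA k ≠ 0 ∧ joined 0 (chainA k) = false ∧ joined 1 (chainA k) = false := by
    decide
  have h1 : ∀ j < 6, ∀ i < j, chainA i ≠ chainA j ∧ joined (chainA i) (chainA j) = Nat.beq (i + 1) j := by
    decide
  refine ⟨⟨fun k hk => hv.nb ctx (by norm_num) (h0 k hk).1 (h0 k hk).2.1.symm (h0 k hk).2.2.1,
    fun i j hij hj => ?_⟩, fun k hk => hv.commute ctx (by norm_num) (h0 k hk).1 (h0 k hk).2.2.2⟩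
  obtain ⟨h2, h3⟩ := h1 j hj i hij
  have hi := (h0 i (by omega)).1
  have hj' := (h0 j hj).1
  refine ⟨?_, hv.ne ctx hi hj' h2⟩
  show Commute (v (chainA i)) (v (chainA j)) ↔ _
  rw [hv.adj _ hi _ hj' h2, h3]
  exact ⟨fun h e => by rw [e, Nat.beq_refl] at h; exact Bool.noConfusion h,
    fun h => Bool.eq_false_iff.2 fun e => h (Nat.eq_of_beq_eq_true e)⟩

/-- A member with the pattern of `i`, or of `g`, is that member. -/
theorem unique_from_a {v : ℕ → G} (hv : Diag D v) {y : G} (hy : y ∈ D) (c0 : Commute (v 0) y)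
    (c1 : Commute (v 1) y) (c2 : Commute (v 2) y) (c3 : Commute (v 3) y) (c4 : Commute (v 4) y) :
    (Commute (v 5) y → ¬ Commute (v 7) y → y = v 8) ∧
      (Commute (v 7) y → Commute (v 8) y → ¬ Commute (v 5) y → y = v 6) := by
  have ha := hv.mem 0 (by norm_num)
  obtain ⟨fa, Fa⟩ := exists_frame ctx ha
  obtain ⟨hch, hb⟩ := chainA_facts ctx hv
  obtain ⟨f, F, L, hL, hf⟩ := normalise ctx ha 6 le_rfl fa Fa _ hch
  obtain ⟨hlen, hpt⟩ := leaf_facts ctx (k := 6) (by omega) hL
  obtain ⟨r, hrp, hfr⟩ := F.surj (hv.nb ctx (i := 0) (j := 2) (by norm_num) (by norm_num) (by norm_num) (by decide))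
  have hab : ¬ Commute (v 0) (v 1) := hv.noncomm ctx (by norm_num) (by norm_num) (by decide)
  have hfour := List.all_eq_true.1 four_ext L hL
  rw [List.any_eq_true] at hfour
  obtain ⟨C, hC, hCp⟩ := hfour
  simp only [Bool.and_eq_true, decide_eq_true_eq, List.isEmpty_iff, List.all_eq_true] at hCp
  obtain ⟨⟨hkey, hforb⟩, houts⟩ := hCp
  obtain ⟨N, hN, hNsub, hNS⟩ := (casesFour_ok C hC |> Case.result) (fun p (hp : p ∈ comSet (v 1) f) => hp.1)
    (comSet_closed ctx F) (comSet_deg ctx F ha (hv.mem 1 (by norm_num)) hab) (by rw [hforb]; simp) (by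
      rw [hkey]
      intro g hg
      obtain ⟨i, hi, rfl⟩ := List.getElem_of_mem hg
      rw [← List.getD_eq_getElem _ 0 hi]
      exact ⟨(leaf_getD ctx (by omega) hL (hlen ▸ hi)).2, by rw [hf i (hlen ▸ hi)]; exact hb i (hlen ▸ hi)⟩)
  obtain ⟨hflag, hfacts⟩ := houts N hN
  simp only [factsA, Bool.and_eq_true, List.all_eq_true, Bool.or_eq_true, Bool.not_eq_true'] at hfacts
  have hpat : hasPat L patC r = true := hasPat_six ctx F hlen hpt hrp (pat := patC) rfl (by
    intro i hi
    rw [hf i hi, hfr]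
    have h2 : chainA i < 9 ∧ chainA i ≠ 2 ∧ joined (chainA i) 2 = !(patC.getD i false) := by
      revert i; decide
    refine ⟨?_, hv.ne ctx h2.1 (by norm_num) h2.2.1⟩
    rw [hv.adj _ h2.1 2 (by norm_num) h2.2.1, h2.2.2, Bool.not_eq_false'])
  have hrN : mem r N.2 = false := Bool.eq_false_iff.2 fun e => by
    have := (hNsub r (mem_of _ _ e)).2
    rw [hfr] at this
    exact hv.noncomm ctx (i := 1) (j := 2) (by norm_num) (by norm_num) (by decide) this
  have hall := (hfacts.2 r (mem_ptCodes hrp)).resolve_left (by simp [hpat, hrN])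
  have hy0 : y ≠ v 0 := fun e => hab (e ▸ c1).symm
  obtain ⟨p, hp, hfp⟩ := F.surj ⟨hy, hy0, c0⟩
  have hpN := hNS hflag p ⟨hp, by rw [hfp]; exact c1⟩
  obtain ⟨hi8, hg6⟩ := hall p hpN
  have hL' : ∀ k < 6, IsPt (L.getD k 0) := fun k hk => (leaf_getD ctx (by omega) hL hk).2
  have e1 : com r p = true := (com_iff ctx F hrp hp).2 (by rw [hfr, hfp]; exact c2)
  have e3 : com (L.getD 3 0) p = true := (com_iff ctx F (hL' 3 (by omega)) hp).2 (by
    rw [hf 3 (by omega), hfp]; exact c3)
  have e4 : com (L.getD 2 0) p = true := (com_iff ctx F (hL' 2 (by omega)) hp).2 (by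
    rw [hf 2 (by omega), hfp]; exact c4)
  constructor
  · intro c5 c7
    have e5 : com (L.getD 1 0) p = true := (com_iff ctx F (hL' 1 (by omega)) hp).2 (by
      rw [hf 1 (by omega), hfp]; exact c5)
    have e7 : com (L.getD 4 0) p = false := com_false ctx F (hL' 4 (by omega)) hp (by
      rw [hf 4 (by omega), hfp]; exact c7)
    rw [e1, e3, e4, e5, e7] at hi8
    have := Nat.eq_of_beq_eq_true (hi8.resolve_left (by simp))
    rw [← hfp, this, hf 5 (by omega)]
    rfl
  · intro c7 c8 c5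
    have e5 : com (L.getD 1 0) p = false := com_false ctx F (hL' 1 (by omega)) hp (by
      rw [hf 1 (by omega), hfp]; exact c5)
    have e7 : com (L.getD 4 0) p = true := (com_iff ctx F (hL' 4 (by omega)) hp).2 (by
      rw [hf 4 (by omega), hfp]; exact c7)
    have e8 : com (L.getD 5 0) p = true := (com_iff ctx F (hL' 5 (by omega)) hp).2 (by
      rw [hf 5 (by omega), hfp]; exact c8)
    rw [e1, e3, e4, e5, e7, e8] at hg6
    have := Nat.eq_of_beq_eq_true (hg6.resolve_left (by simp))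
    rw [← hfp, this, hf 0 (by omega)]
    rfl

/-- The two facts seen from `i`. -/
theorem facts_from_i {v : ℕ → G} (hv : Diag D v) {y : G} (hy : y ∈ D) (hy8 : y ≠ v 8)
    (c8 : Commute (v 8) y) (c7 : Commute (v 7) y) (c3 : Commute (v 3) y) (c4 : Commute (v 4) y)
    (c5 : Commute (v 5) y) :
    (Commute (v 2) y → ¬ Commute (v 1) y → y = v 0) ∧ (Commute (v 0) y → ¬ Commute (v 1) y) := by
  have hi := hv.mem 8 (by norm_num)
  obtain ⟨fi, Fi⟩ := exists_frame ctx hi
  have hch : IsChainIn D (v 8) 6 v := by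
    have h0 : ∀ k < 6, joined 8 k = false := by decide
    have h1 : ∀ j < 6, ∀ i < j, joined i j = Nat.beq (i + 1) j := by decide
    refine ⟨fun k hk => hv.nb ctx (by norm_num) (by omega) (by omega) (h0 k hk), fun i j hij hj => ?_⟩
    refine ⟨?_, hv.ne ctx (by omega) (by omega) hij.ne⟩
    rw [hv.adj i (by omega) j (by omega) hij.ne, h1 j hj i hij]
    exact ⟨fun h e => by rw [e, Nat.beq_refl] at h; exact Bool.noConfusion h,
      fun h => Bool.eq_false_iff.2 fun e => h (Nat.eq_of_beq_eq_true e)⟩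
  obtain ⟨f, F, L, hL, hf⟩ := normalise ctx hi 6 le_rfl fi Fi _ hch
  obtain ⟨hlen, hpt⟩ := leaf_facts ctx (k := 6) (by omega) hL
  obtain ⟨r, hrp, hfr⟩ := F.surj (hv.nb ctx (i := 8) (j := 6) (by norm_num) (by norm_num) (by norm_num) (by decide))
  have hhi : ¬ Commute (v 8) (v 7) := hv.noncomm ctx (by norm_num) (by norm_num) (by decide)
  have hL' : ∀ k < 6, IsPt (L.getD k 0) := fun k hk => (leaf_getD ctx (by omega) hL hk).2
  have hpat : hasPat L [true, true, true, true, true, false] r = true :=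
    hasPat_six ctx F hlen hpt hrp (pat := [true, true, true, true, true, false]) rfl (by
      intro i hi
      rw [hf i hi, hfr]
      have h2 : joined i 6 = !(([true, true, true, true, true, false] : List Bool).getD i false) := by
        revert i; decide
      refine ⟨?_, hv.ne ctx (by omega) (by norm_num) (by omega)⟩
      rw [hv.adj _ (by omega) 6 (by norm_num) (by omega), h2, Bool.not_eq_false'])
  have hfive := List.all_eq_true.1 (List.all_eq_true.1 five_ext L hL) r (mem_ptCodes hrp)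
  rw [hpat, Bool.not_true, Bool.false_or, List.any_eq_true] at hfive
  obtain ⟨C, hC, hCp⟩ := hfive
  simp only [Bool.and_eq_true, decide_eq_true_eq, List.all_eq_true] at hCp
  obtain ⟨⟨hkey, hforb⟩, houts⟩ := hCp
  have hS : ∀ k < 6, k ≠ 3 → L.getD k 0 ∈ comSet (v 7) f := fun k hk h3 => ⟨hL' k hk, by
    rw [hf k hk]
    exact hv.commute ctx (by norm_num) (by omega) (by revert k; decide)⟩
  obtain ⟨N, hN, -, hNS⟩ := (casesFive_ok C hC |> Case.result) (fun p (hp : p ∈ comSet (v 7) f) => hp.1)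
    (comSet_closed ctx F) (comSet_deg ctx F hi (hv.mem 7 (by norm_num)) hhi) (by
      rw [hforb]
      intro x hx
      rw [List.mem_singleton] at hx
      subst hx
      intro h
      have := h.2
      rw [hf 3 (by omega)] at this
      exact hv.noncomm ctx (i := 7) (j := 3) (by norm_num) (by norm_num) (by decide) this) (by
      rw [hkey]
      intro g hg
      simp only [List.mem_cons, List.not_mem_nil, or_false] at hg
      rcases hg with rfl | rfl | rfl | rfl | rfl | rfl
      · exact hS 0 (by omega) (by omega)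
      · exact hS 1 (by omega) (by omega)
      · exact hS 2 (by omega) (by omega)
      · exact hS 4 (by omega) (by omega)
      · exact hS 5 (by omega) (by omega)
      · exact ⟨hrp, by rw [hfr]; exact hv.commute ctx (by norm_num) (by norm_num) (by decide)⟩)
  obtain ⟨hflag, hfacts⟩ := houts N hN
  simp only [factsI, Bool.and_eq_true, List.all_eq_true, Bool.or_eq_true, Bool.not_eq_true'] at hfacts
  obtain ⟨p, hp, hfp⟩ := F.surj ⟨hy, hy8, c8⟩
  obtain ⟨h0, h1⟩ := hfacts p (hNS hflag p ⟨hp, by rw [hfp]; exact c7⟩)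
  have e : ∀ k < 6, Commute (v k) y → com (L.getD k 0) p = true := fun k hk h =>
    (com_iff ctx F (hL' k hk) hp).2 (by rw [hf k hk, hfp]; exact h)
  constructor
  · intro c2 c1
    have e1 : com (L.getD 1 0) p = false := com_false ctx F (hL' 1 (by omega)) hp (by
      rw [hf 1 (by omega), hfp]; exact c1)
    rw [e 2 (by omega) c2, e 3 (by omega) c3, e 4 (by omega) c4, e 5 (by omega) c5, e1] at h0
    have := Nat.eq_of_beq_eq_true (h0.resolve_left (by simp))
    rw [← hfp, this, hf 0 (by omega)]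
  · intro c0 c1
    rw [e 0 (by omega) c0, e 3 (by omega) c3, e 4 (by omega) c4, e 5 (by omega) c5, e 1 (by omega) c1] at h1
    simp at h1

end CfsgLib.Sporadic.FiTransfer.Uniq
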