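import Cfsg.Agent.Lib.Sporadic.FiTransfer.Uniq.Words

/-!
# Word certificates

Machine-generated.
-/

set_option autoImplicit false
set_option maxRecDepth 100000
set_option maxHeartbeats 0

namespace CfsgLib.Sporadic.FiTransfer.Uniq

/-- The word whose ninth power is the first E7 element. -/
def sevenWord : List ℕ := [0, 1, 2, 3, 4, 5, 7]

/-- The spider word. -/
def spiderWord : List ℕ := [3, 2, 1, 3, 4, 5, 3, 7, 8]

/-- A conjugator giving the reflection forming an infinite pair with `b`. -/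
def farConj : List ℕ := [2, 3, 7, 4, 5, 3, 4, 2, 3, 7]

/-- The word of that reflection. -/
def farWord : List ℕ := farConj ++ [8] ++ farConj.reverse

/-- Copies of a word. -/
def rep (k : ℕ) (w : List ℕ) : List ℕ := (List.replicate k w).flatten

theorem seven_move0 : sameWord (rep 9 sevenWord ++ [0]) ([0] ++ rep 9 sevenWord)
    [(26, 1), (27, 1), (28, 1), (29, 1), (30, 1), (31, 2), (33, 1), (34, 1), (35, 1), (36, 1), (37, 2),
    (39, 1), (33, 1), (34, 1), (35, 1), (25, 1), (26, 1), (27, 1), (28, 1), (29, 2), (31, 1), (32, 1),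
    (33, 1), (20, 1), (21, 1), (22, 1), (23, 2), (25, 1), (26, 1), (27, 2), (29, 1), (30, 1), (31, 1),
    (5, 1), (6, 1), (7, 1), (8, 1), (9, 1), (10, 2), (12, 1), (13, 1), (14, 1), (15, 1), (16, 2), (18,
    1), (19, 1), (20, 1), (21, 2), (23, 1), (24, 1), (25, 2), (27, 1), (28, 1), (29, 1), (4, 1), (5, 1),
    (6, 1), (7, 1), (8, 2), (10, 1), (4, 1), (5, 1), (6, 1), (3, 1), (4, 1), (2, 1), (0, 2), (2, 2), (4,
    2), (6, 2), (8, 1), (9, 1), (10, 2), (12, 1), (13, 1), (14, 2), (16, 1), (17, 1), (18, 1), (19, 2),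
    (21, 1), (22, 1), (23, 2), (25, 1), (26, 1), (27, 1), (28, 1), (29, 2), (31, 2), (33, 2), (35, 2),
    (37, 1), (38, 1), (39, 2), (41, 1), (42, 1), (43, 2), (45, 1), (46, 1), (47, 1), (48, 1), (49, 2),
    (51, 1), (52, 1), (53, 1), (54, 1), (55, 2), (57, 1), (58, 1), (59, 1), (60, 1), (61, 1), (62, 0)]
    [(0, 0), (25, 1), (26, 1), (27, 1), (28, 1), (29, 1), (30, 2), (32, 1), (33, 1), (34, 1), (35, 1),
    (36, 2), (38, 1), (32, 1), (33, 1), (34, 1), (24, 1), (25, 1), (26, 1), (27, 1), (28, 2), (30, 1),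
    (31, 1), (32, 1), (19, 1), (20, 1), (21, 1), (22, 2), (24, 1), (25, 1), (26, 2), (28, 1), (29, 1),
    (30, 1), (4, 1), (5, 1), (6, 1), (7, 1), (8, 1), (9, 2), (11, 1), (12, 1), (13, 1), (14, 1), (15,
    2), (17, 1), (18, 1), (19, 1), (20, 2), (22, 1), (23, 1), (24, 2), (26, 1), (27, 1), (28, 1), (3,
    1), (4, 1), (5, 1), (6, 1), (7, 2), (9, 1), (3, 1), (4, 1), (5, 1), (2, 1), (3, 1), (1, 1)] = true := by decide +kernel

theorem seven_move1 : sameWord (rep 9 sevenWord ++ [1]) ([1] ++ rep 9 sevenWord)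
    [(33, 1), (34, 1), (35, 1), (36, 1), (37, 1), (38, 2), (40, 1), (41, 1), (42, 1), (43, 1), (44, 2),
    (46, 1), (40, 1), (41, 1), (42, 1), (32, 1), (33, 1), (34, 1), (35, 1), (36, 2), (38, 1), (39, 1),
    (40, 1), (27, 1), (28, 1), (29, 1), (30, 2), (32, 1), (33, 1), (34, 2), (36, 1), (37, 1), (38, 1),
    (12, 1), (13, 1), (14, 1), (15, 1), (16, 1), (17, 2), (19, 1), (20, 1), (21, 1), (22, 1), (23, 2),
    (25, 1), (26, 1), (27, 1), (28, 2), (30, 1), (31, 1), (32, 2), (34, 1), (35, 1), (36, 1), (11, 1),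
    (12, 1), (13, 1), (14, 1), (15, 2), (17, 1), (11, 1), (12, 1), (13, 1), (10, 1), (11, 1), (9, 1),
    (7, 2), (9, 2), (11, 2), (13, 2), (15, 1), (16, 1), (17, 2), (19, 1), (20, 1), (21, 2), (23, 1),
    (24, 1), (25, 1), (26, 2), (28, 1), (29, 1), (30, 2), (32, 1), (33, 1), (34, 1), (35, 1), (36, 2),
    (38, 2), (40, 2), (42, 2), (44, 1), (45, 1), (46, 2), (48, 1), (49, 1), (50, 2), (52, 1), (53, 1),
    (54, 1), (55, 1), (56, 2), (58, 1), (59, 1), (60, 1), (61, 1), (62, 0)]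
    [(0, 2), (2, 1), (3, 1), (4, 1), (5, 1), (6, 1), (7, 0), (32, 1), (33, 1), (34, 1), (35, 1), (36,
    1), (37, 2), (39, 1), (40, 1), (41, 1), (42, 1), (43, 2), (45, 1), (39, 1), (40, 1), (41, 1), (31,
    1), (32, 1), (33, 1), (34, 1), (35, 2), (37, 1), (38, 1), (39, 1), (26, 1), (27, 1), (28, 1), (29,
    2), (31, 1), (32, 1), (33, 2), (35, 1), (36, 1), (37, 1), (11, 1), (12, 1), (13, 1), (14, 1), (15,
    1), (16, 2), (18, 1), (19, 1), (20, 1), (21, 1), (22, 2), (24, 1), (25, 1), (26, 1), (27, 2), (29,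
    1), (30, 1), (31, 2), (33, 1), (34, 1), (35, 1), (10, 1), (11, 1), (12, 1), (13, 1), (14, 2), (16,
    1), (10, 1), (11, 1), (12, 1), (9, 1), (10, 1), (8, 1)] = true := by decide +kernel

theorem seven_move2 : sameWord (rep 9 sevenWord ++ [2]) ([2] ++ rep 9 sevenWord)
    [(40, 1), (41, 1), (42, 1), (43, 1), (44, 1), (45, 2), (47, 1), (48, 1), (49, 1), (50, 1), (51, 2),
    (53, 1), (47, 1), (48, 1), (49, 1), (39, 1), (40, 1), (41, 1), (42, 1), (43, 2), (45, 1), (46, 1),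
    (47, 1), (34, 1), (35, 1), (36, 1), (37, 2), (39, 1), (40, 1), (41, 2), (43, 1), (44, 1), (45, 1),
    (19, 1), (20, 1), (21, 1), (22, 1), (23, 1), (24, 2), (26, 1), (27, 1), (28, 1), (29, 1), (30, 2),
    (32, 1), (33, 1), (34, 1), (35, 2), (37, 1), (38, 1), (39, 2), (41, 1), (42, 1), (43, 1), (18, 1),
    (19, 1), (20, 1), (21, 1), (22, 2), (24, 1), (18, 1), (19, 1), (20, 1), (17, 1), (18, 1), (16, 1),
    (14, 2), (16, 2), (18, 2), (20, 2), (22, 1), (23, 1), (24, 2), (26, 1), (27, 1), (28, 2), (30, 1),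
    (31, 1), (32, 1), (33, 2), (35, 1), (36, 1), (37, 2), (39, 1), (40, 1), (41, 1), (42, 1), (43, 2),
    (45, 2), (47, 2), (49, 2), (51, 1), (52, 1), (53, 2), (55, 1), (56, 1), (57, 2), (59, 1), (60, 1),
    (61, 1), (62, 0)]
    [(0, 1), (1, 2), (3, 1), (4, 1), (5, 1), (6, 1), (7, 2), (9, 1), (10, 1), (11, 1), (12, 1), (13, 1),
    (14, 0), (39, 1), (40, 1), (41, 1), (42, 1), (43, 1), (44, 2), (46, 1), (47, 1), (48, 1), (49, 1),
    (50, 2), (52, 1), (46, 1), (47, 1), (48, 1), (38, 1), (39, 1), (40, 1), (41, 1), (42, 2), (44, 1),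
    (45, 1), (46, 1), (33, 1), (34, 1), (35, 1), (36, 2), (38, 1), (39, 1), (40, 2), (42, 1), (43, 1),
    (44, 1), (18, 1), (19, 1), (20, 1), (21, 1), (22, 1), (23, 2), (25, 1), (26, 1), (27, 1), (28, 1),
    (29, 2), (31, 1), (32, 1), (33, 1), (34, 2), (36, 1), (37, 1), (38, 2), (40, 1), (41, 1), (42, 1),
    (17, 1), (18, 1), (19, 1), (20, 1), (21, 2), (23, 1), (17, 1), (18, 1), (19, 1), (16, 1), (17, 1),
    (15, 1)] = true := by decide +kernel

theorem seven_move3 : sameWord (rep 9 sevenWord ++ [3]) ([3] ++ rep 9 sevenWord)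
    [(47, 1), (48, 1), (49, 1), (50, 1), (51, 1), (52, 2), (54, 1), (55, 1), (56, 1), (57, 1), (58, 2),
    (60, 1), (54, 1), (55, 1), (56, 1), (46, 1), (47, 1), (48, 1), (49, 1), (50, 2), (52, 1), (53, 1),
    (54, 1), (41, 1), (42, 1), (43, 1), (44, 2), (46, 1), (47, 1), (48, 2), (50, 1), (51, 1), (52, 1),
    (26, 1), (27, 1), (28, 1), (29, 1), (30, 1), (31, 2), (33, 1), (34, 1), (35, 1), (36, 1), (37, 2),
    (39, 1), (40, 1), (41, 1), (42, 2), (44, 1), (45, 1), (46, 2), (48, 1), (49, 1), (50, 1), (25, 1),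
    (26, 1), (27, 1), (28, 1), (29, 2), (31, 1), (25, 1), (26, 1), (27, 1), (24, 1), (25, 1), (23, 1),
    (21, 2), (23, 2), (25, 2), (27, 2), (29, 1), (30, 1), (31, 2), (33, 1), (34, 1), (35, 2), (37, 1),
    (38, 1), (39, 1), (40, 2), (42, 1), (43, 1), (44, 2), (46, 1), (47, 1), (48, 1), (49, 1), (50, 2),
    (52, 2), (54, 2), (56, 2), (58, 1), (59, 1), (60, 2), (62, 0)]
    [(0, 1), (1, 1), (2, 2), (4, 1), (5, 1), (6, 1), (7, 1), (8, 2), (10, 1), (11, 1), (12, 1), (13, 1),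
    (14, 2), (16, 1), (17, 1), (18, 1), (19, 1), (20, 1), (21, 0), (46, 1), (47, 1), (48, 1), (49, 1),
    (50, 1), (51, 2), (53, 1), (54, 1), (55, 1), (56, 1), (57, 2), (59, 1), (53, 1), (54, 1), (55, 1),
    (45, 1), (46, 1), (47, 1), (48, 1), (49, 2), (51, 1), (52, 1), (53, 1), (40, 1), (41, 1), (42, 1),
    (43, 2), (45, 1), (46, 1), (47, 2), (49, 1), (50, 1), (51, 1), (25, 1), (26, 1), (27, 1), (28, 1),
    (29, 1), (30, 2), (32, 1), (33, 1), (34, 1), (35, 1), (36, 2), (38, 1), (39, 1), (40, 1), (41, 2),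
    (43, 1), (44, 1), (45, 2), (47, 1), (48, 1), (49, 1), (24, 1), (25, 1), (26, 1), (27, 1), (28, 2),
    (30, 1), (24, 1), (25, 1), (26, 1), (23, 1), (24, 1), (22, 1)] = true := by decide +kernel

theorem seven_move4 : sameWord (rep 9 sevenWord ++ [4]) ([4] ++ rep 9 sevenWord)
    [(54, 1), (55, 1), (56, 1), (57, 1), (58, 1), (59, 2), (61, 1), (62, 0)]
    [(48, 1), (49, 1), (50, 1), (51, 1), (52, 1), (47, 1), (48, 1), (49, 1), (50, 1), (42, 1), (43, 1),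
    (44, 1), (45, 2), (47, 1), (48, 1), (27, 1), (28, 1), (29, 1), (30, 1), (31, 1), (32, 2), (34, 1),
    (35, 1), (36, 1), (37, 1), (38, 2), (40, 1), (41, 1), (42, 1), (43, 2), (45, 1), (46, 1), (26, 1),
    (27, 1), (28, 1), (29, 1), (30, 2), (32, 1), (26, 1), (27, 1), (28, 1), (25, 1), (26, 1), (24, 1),
    (22, 2), (24, 2), (26, 2), (28, 2), (30, 1), (31, 1), (32, 2), (34, 1), (35, 1), (36, 2), (38, 1),
    (39, 1), (40, 1), (41, 2), (43, 1), (44, 1), (27, 1), (21, 1), (22, 1), (23, 1), (24, 1), (25, 2),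
    (27, 2), (29, 1), (30, 1), (13, 1), (14, 1), (15, 1), (16, 1), (17, 1), (18, 2), (20, 1), (21, 1),
    (22, 1), (23, 1), (12, 1), (13, 1), (14, 1), (15, 1), (16, 2), (18, 1), (19, 1), (20, 1), (7, 1),
    (8, 1), (9, 1), (10, 2), (12, 1), (13, 1), (14, 2), (16, 1), (17, 1), (0, 1), (1, 1), (2, 1), (3,
    2), (5, 1), (6, 1), (7, 1), (8, 2), (10, 1), (11, 1), (12, 2), (14, 1), (15, 1), (16, 1), (17, 2),
    (19, 1), (20, 2), (22, 1), (23, 2), (25, 1), (26, 1), (27, 2), (29, 1), (30, 2), (32, 1), (33, 1),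
    (34, 2), (36, 1), (37, 1), (38, 1), (39, 2), (41, 1), (42, 1), (43, 1), (44, 2), (46, 2), (48, 2),
    (50, 2), (52, 2), (54, 0), (51, 1), (49, 1), (50, 1), (47, 1), (48, 1), (49, 1), (45, 1), (46, 1),
    (47, 1), (48, 1), (43, 1), (44, 1), (42, 1), (40, 2), (42, 2), (44, 2), (46, 1), (47, 1), (43, 1),
    (41, 1), (42, 1), (39, 1), (40, 1), (41, 1), (38, 1), (39, 1), (37, 1), (35, 2), (37, 2), (36, 1),
    (34, 1), (35, 1), (33, 1), (34, 1), (31, 2), (33, 1), (29, 1), (30, 1), (31, 1), (28, 1), (29, 1),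
    (26, 2), (24, 2), (26, 1), (27, 2), (29, 2), (31, 2), (30, 1), (25, 2), (27, 1), (28, 1), (29, 1),
    (22, 1), (23, 1), (21, 1), (22, 1), (23, 2), (25, 1), (26, 1), (27, 1), (28, 1), (19, 1), (20, 1),
    (21, 1), (18, 1), (19, 1), (20, 1), (21, 2), (23, 1), (24, 1), (25, 1), (26, 1), (27, 1), (25, 1),
    (26, 1), (16, 1), (17, 1), (15, 1), (13, 2), (15, 2), (17, 2), (16, 1), (14, 1), (15, 1), (12, 1),
    (13, 1), (14, 1), (11, 1), (12, 1), (13, 1), (9, 2), (11, 1), (12, 1), (8, 1), (7, 1), (6, 1)] = true := by decide +kernel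

theorem seven_move5 : sameWord (rep 9 sevenWord ++ [5]) ([5] ++ rep 9 sevenWord)
    [(61, 1), (62, 0)]
    [(55, 1), (56, 1), (57, 1), (58, 1), (59, 1), (54, 1), (55, 1), (56, 1), (57, 1), (49, 1), (50, 1),
    (51, 1), (52, 2), (54, 1), (55, 1), (34, 1), (35, 1), (36, 1), (37, 1), (38, 1), (39, 2), (41, 1),
    (42, 1), (43, 1), (44, 1), (45, 2), (47, 1), (48, 1), (49, 1), (50, 2), (52, 1), (53, 1), (33, 1),
    (34, 1), (35, 1), (36, 1), (37, 2), (39, 1), (33, 1), (34, 1), (35, 1), (32, 1), (33, 1), (31, 1),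
    (29, 2), (31, 2), (33, 2), (35, 2), (37, 1), (38, 1), (39, 2), (41, 1), (42, 1), (43, 2), (45, 1),
    (46, 1), (47, 1), (48, 2), (50, 1), (51, 1), (34, 1), (28, 1), (29, 1), (30, 1), (31, 1), (32, 2),
    (34, 2), (36, 1), (37, 1), (20, 1), (21, 1), (22, 1), (23, 1), (24, 1), (25, 2), (27, 1), (28, 1),
    (29, 1), (30, 1), (19, 1), (20, 1), (21, 1), (22, 1), (23, 2), (25, 1), (26, 1), (27, 1), (14, 1),
    (15, 1), (16, 1), (17, 2), (19, 1), (20, 1), (21, 2), (23, 1), (24, 1), (0, 1), (1, 1), (2, 1), (3,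
    1), (4, 2), (6, 1), (7, 1), (8, 1), (9, 1), (10, 2), (12, 1), (13, 1), (14, 1), (15, 2), (17, 1),
    (18, 1), (19, 2), (21, 1), (22, 1), (23, 1), (24, 2), (26, 1), (27, 2), (29, 1), (30, 2), (32, 1),
    (33, 1), (34, 2), (36, 1), (37, 2), (39, 1), (40, 1), (41, 2), (43, 1), (44, 1), (45, 1), (46, 2),
    (48, 1), (49, 1), (50, 1), (51, 2), (53, 2), (55, 2), (57, 2), (59, 2), (61, 0), (58, 1), (56, 1),
    (57, 1), (54, 1), (55, 1), (56, 1), (52, 1), (53, 1), (54, 1), (55, 1), (50, 1), (51, 1), (49, 1),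
    (47, 2), (49, 2), (51, 2), (53, 1), (54, 1), (50, 1), (48, 1), (49, 1), (46, 1), (47, 1), (48, 1),
    (45, 1), (46, 1), (44, 1), (42, 2), (44, 2), (43, 1), (41, 1), (42, 1), (40, 1), (41, 1), (38, 2),
    (40, 1), (36, 1), (37, 1), (38, 1), (35, 1), (36, 1), (33, 2), (31, 2), (33, 1), (34, 2), (36, 2),
    (38, 2), (37, 1), (32, 2), (34, 1), (35, 1), (36, 1), (29, 1), (30, 1), (28, 1), (29, 1), (30, 2),
    (32, 1), (33, 1), (34, 1), (35, 1), (26, 1), (27, 1), (28, 1), (25, 1), (26, 1), (27, 1), (28, 2),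
    (30, 1), (31, 1), (32, 1), (33, 1), (34, 1), (32, 1), (33, 1), (23, 1), (24, 1), (22, 1), (20, 2),
    (22, 2), (24, 2), (23, 1), (21, 1), (22, 1), (19, 1), (20, 1), (21, 1), (18, 1), (19, 1), (20, 1),
    (16, 2), (18, 1), (19, 1), (15, 1), (14, 1), (13, 1)] = true := by decide +kernel

theorem seven_move7 : sameWord (rep 9 sevenWord ++ [7]) ([7] ++ rep 9 sevenWord)
    [(62, 0)]
    [(56, 1), (57, 1), (58, 1), (41, 1), (42, 1), (43, 1), (44, 1), (45, 1), (46, 2), (48, 1), (49, 1),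
    (50, 1), (51, 1), (52, 2), (54, 1), (55, 1), (56, 1), (40, 1), (41, 1), (42, 1), (43, 1), (44, 2),
    (46, 1), (40, 1), (41, 1), (42, 1), (39, 1), (40, 1), (38, 1), (36, 2), (38, 2), (40, 2), (42, 2),
    (44, 1), (45, 1), (46, 2), (48, 1), (49, 1), (50, 2), (52, 1), (53, 1), (54, 1), (41, 1), (35, 1),
    (36, 1), (37, 1), (38, 1), (39, 2), (41, 2), (43, 1), (44, 1), (27, 1), (28, 1), (29, 1), (30, 1),
    (31, 1), (32, 2), (34, 1), (35, 1), (36, 1), (37, 1), (26, 1), (27, 1), (28, 1), (29, 1), (30, 2),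
    (32, 1), (33, 1), (34, 1), (21, 1), (22, 1), (23, 1), (24, 2), (26, 1), (27, 1), (28, 2), (30, 1),
    (31, 1), (6, 1), (7, 1), (8, 1), (9, 1), (10, 1), (11, 2), (13, 1), (14, 1), (15, 1), (16, 1), (17,
    2), (19, 1), (20, 1), (21, 1), (22, 2), (24, 1), (25, 1), (26, 2), (28, 1), (29, 1), (30, 1), (31,
    2), (33, 1), (34, 2), (36, 1), (37, 2), (39, 1), (40, 1), (41, 2), (43, 1), (44, 2), (46, 1), (47,
    1), (48, 2), (50, 1), (51, 1), (52, 1), (36, 1), (37, 1), (38, 1), (35, 1), (19, 1), (20, 1), (21,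
    1), (22, 1), (23, 1), (24, 1), (25, 1), (26, 1), (27, 1), (28, 2), (30, 1), (31, 1), (32, 1), (33,
    2), (35, 2), (37, 1), (38, 2), (40, 1), (41, 1), (42, 1), (23, 1), (24, 1), (25, 1), (22, 1), (23,
    1), (21, 1), (19, 2), (21, 2), (23, 2), (25, 2), (27, 1), (28, 1), (29, 1), (30, 1), (31, 1), (18,
    1), (19, 1), (20, 1), (21, 1), (17, 1), (18, 1), (15, 2), (17, 1), (18, 2), (20, 1), (21, 2), (23,
    1), (24, 1), (25, 2), (27, 1), (23, 1), (13, 1), (14, 1), (15, 1), (16, 1), (5, 1), (6, 1), (7, 1),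
    (8, 1), (9, 2), (11, 1), (12, 1), (0, 1), (1, 1), (2, 1), (3, 2), (5, 1), (6, 1), (7, 2), (9, 1),
    (10, 1), (11, 1), (12, 2), (14, 1), (15, 1), (16, 2), (18, 1), (19, 1), (20, 1), (21, 2), (23, 2),
    (25, 1), (26, 1), (27, 2), (29, 1), (30, 1), (31, 2), (33, 1), (34, 1), (35, 2), (37, 1), (38, 2),
    (40, 1), (41, 1), (42, 2), (44, 1), (45, 1), (46, 2), (48, 1), (49, 1), (50, 1), (51, 1), (52, 2),
    (54, 2), (56, 2), (58, 2), (60, 1), (61, 1), (62, 0), (57, 1), (55, 1), (56, 1), (53, 1), (54, 1),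
    (55, 1), (51, 1), (52, 1), (53, 1), (50, 1), (51, 1), (49, 1), (47, 2), (49, 2), (51, 2), (50, 1),
    (48, 1), (49, 1), (46, 1), (47, 1), (48, 1), (45, 1), (43, 2), (45, 2), (47, 1), (41, 1), (42, 1),
    (43, 1), (44, 1), (45, 1), (40, 1), (39, 1), (40, 2), (42, 1), (43, 1), (37, 2), (39, 1), (40, 2),
    (36, 1), (37, 1), (38, 1), (34, 2), (36, 1), (32, 2), (34, 1), (35, 1), (36, 2), (38, 2), (40, 1),
    (41, 2), (43, 2), (45, 2), (44, 1), (39, 2), (41, 1), (42, 1), (43, 1), (35, 1), (36, 1), (37, 1),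
    (33, 2), (35, 1), (36, 1), (37, 2), (39, 1), (40, 1), (41, 1), (42, 1), (30, 1), (31, 1), (32, 1),
    (33, 1), (34, 1), (35, 1), (29, 1), (30, 1), (28, 1), (29, 1), (30, 2), (32, 1), (33, 1), (34, 1),
    (35, 2), (37, 1), (38, 1), (39, 1), (40, 1), (41, 1), (39, 1), (40, 1), (26, 1), (27, 1), (24, 2),
    (26, 1), (27, 2), (29, 1), (30, 1), (31, 1), (28, 1), (29, 1), (22, 1), (23, 1), (24, 2), (26, 1),
    (27, 1), (22, 1), (20, 2), (22, 2), (24, 1), (25, 1), (19, 1), (20, 1), (17, 2), (19, 1), (20, 2),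
    (22, 1), (23, 1), (24, 1), (25, 2), (27, 2), (29, 2), (31, 2), (30, 1), (28, 1), (29, 1), (26, 1),
    (27, 1), (28, 1), (15, 1), (16, 1), (17, 1), (18, 1), (14, 1), (13, 1), (14, 2), (16, 1), (17, 1),
    (18, 2), (20, 1), (21, 1), (22, 1), (23, 1), (24, 1), (25, 1), (26, 1), (27, 1), (22, 1), (23, 1),
    (21, 1), (20, 1), (21, 2), (23, 2), (25, 1), (26, 1), (22, 1), (19, 1), (20, 1), (21, 1), (18, 1),
    (19, 1), (20, 1), (18, 1), (16, 2), (15, 1), (14, 1), (11, 1), (12, 1), (13, 1), (12, 1), (10, 1),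
    (8, 2), (10, 2), (9, 1), (7, 1), (8, 1), (6, 1), (7, 1), (5, 1), (6, 1), (4, 1), (5, 1)] = true := by decide +kernel

theorem far_move0 : sameWord ([0] ++ farWord) (farWord ++ [0])
    []
    [(20, 1), (19, 1), (18, 1), (17, 1), (16, 1), (15, 1), (14, 1), (13, 1), (12, 1), (11, 1), (10, 1),
    (9, 1), (8, 1), (7, 1), (6, 1), (5, 1), (4, 1), (3, 1), (2, 1), (1, 1), (0, 1)] = true := by decide +kernel

theorem far_move3 : sameWord ([3] ++ farWord) (farWord ++ [3])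
    []
    [(19, 2), (18, 1), (17, 1), (16, 1), (13, 1), (14, 2), (12, 2), (14, 1), (11, 1), (10, 1), (9, 1),
    (6, 1), (7, 2), (5, 2), (7, 1), (4, 1), (3, 1), (2, 1), (0, 2)] = true := by decide +kernel

theorem far_move4 : sameWord ([4] ++ farWord) (farWord ++ [4])
    []
    [(20, 1), (17, 1), (18, 2), (15, 1), (16, 2), (18, 1), (15, 1), (16, 1), (14, 1), (13, 1), (11, 2),
    (10, 1), (8, 2), (7, 1), (6, 1), (2, 1), (3, 1), (4, 2), (3, 1), (4, 1), (1, 2), (3, 1), (0, 1)] = true := by decide +kernel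

theorem far_move5 : sameWord ([5] ++ farWord) (farWord ++ [5])
    []
    [(20, 1), (19, 1), (18, 1), (16, 2), (14, 2), (12, 2), (11, 1), (10, 1), (9, 1), (7, 2), (5, 2), (3,
    2), (2, 1), (1, 1), (0, 1)] = true := by decide +kernel

theorem far_move7 : sameWord ([7] ++ farWord) (farWord ++ [7])
    []
    [(20, 1), (18, 2), (15, 1), (16, 2), (14, 2), (16, 1), (13, 1), (12, 1), (11, 1), (10, 1), (9, 1),
    (8, 1), (7, 1), (4, 1), (5, 2), (3, 2), (5, 1), (1, 2), (0, 1)] = true := by decide +kernel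

theorem far_move8 : sameWord ([8] ++ farWord) (farWord ++ [8])
    []
    [(20, 1), (19, 1), (9, 2), (11, 1), (12, 1), (13, 1), (14, 1), (15, 1), (16, 1), (17, 2), (16, 1),
    (17, 1), (15, 1), (16, 1), (8, 1), (9, 2), (11, 1), (12, 1), (13, 2), (15, 1), (7, 1), (8, 1), (9,
    2), (11, 2), (13, 1), (14, 1), (10, 1), (6, 1), (7, 1), (8, 2), (10, 2), (12, 1), (13, 1), (5, 1),
    (6, 2), (8, 1), (9, 1), (10, 2), (12, 1), (2, 1), (3, 1), (4, 2), (6, 1), (7, 1), (8, 1), (9, 1),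
    (10, 2), (3, 1), (4, 1), (2, 1), (3, 1), (1, 1), (0, 1)] = true := by decide +kernel

theorem spider_move1 : sameWord (rep 10 spiderWord ++ [1]) (([] ++ rep 3 ([1] ++ farWord).reverse ++ ([] : List ℕ).reverse) ++ ([1] ++ rep 10 spiderWord))
    [(83, 1), (84, 1), (85, 1), (86, 1), (87, 1), (88, 1), (89, 0)]
    [(65, 0), (63, 2), (65, 0), (64, 1), (65, 0), (61, 1), (62, 1), (63, 1), (64, 0), (60, 1), (61, 1),
    (62, 1), (63, 0), (60, 1), (61, 1), (57, 1), (58, 2), (60, 1), (61, 2), (63, 0), (53, 2), (55, 1),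
    (56, 1), (57, 1), (58, 1), (59, 1), (52, 1), (53, 2), (55, 1), (50, 1), (51, 1), (52, 1), (53, 2),
    (55, 2), (57, 1), (58, 1), (59, 2), (61, 1), (62, 0), (61, 0), (58, 1), (59, 1), (57, 1), (58, 1),
    (59, 2), (61, 0), (54, 1), (52, 2), (54, 2), (56, 1), (57, 1), (58, 1), (59, 1), (60, 2), (62, 1),
    (63, 0), (57, 1), (58, 1), (55, 1), (56, 1), (50, 1), (49, 1), (50, 2), (52, 1), (53, 1), (54, 1),
    (42, 2), (44, 1), (45, 1), (46, 1), (47, 1), (48, 1), (41, 1), (42, 2), (44, 1), (45, 1), (46, 1),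
    (47, 1), (48, 2), (50, 1), (51, 1), (52, 1), (53, 1), (54, 2), (56, 2), (58, 2), (60, 1), (61, 1),
    (62, 0), (57, 1), (51, 1), (47, 1), (48, 1), (49, 1), (50, 1), (51, 2), (53, 1), (54, 1), (55, 2),
    (57, 2), (59, 1), (60, 1), (61, 1), (50, 1), (51, 1), (52, 1), (53, 1), (44, 1), (45, 1), (46, 1),
    (47, 1), (48, 2), (50, 1), (39, 1), (40, 1), (41, 1), (42, 2), (44, 1), (45, 1), (46, 2), (48, 1),
    (49, 1), (50, 2), (52, 1), (53, 2), (55, 1), (56, 1), (57, 2), (59, 1), (60, 1), (61, 2), (63, 0),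
    (62, 1), (63, 0), (44, 1), (45, 1), (46, 1), (47, 1), (48, 1), (49, 1), (50, 1), (51, 1), (43, 1),
    (44, 1), (42, 1), (40, 2), (42, 2), (44, 2), (46, 1), (47, 1), (39, 1), (40, 1), (37, 1), (35, 1),
    (36, 1), (37, 2), (39, 1), (40, 2), (42, 1), (43, 1), (44, 2), (46, 1), (47, 2), (49, 1), (50, 1),
    (51, 2), (53, 1), (54, 1), (55, 1), (56, 1), (57, 2), (59, 1), (60, 1), (61, 1), (62, 0), (58, 1),
    (59, 1), (60, 1), (61, 0), (57, 1), (58, 1), (59, 1), (56, 1), (55, 1), (56, 2), (58, 1), (59, 2),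
    (61, 1), (62, 1), (46, 1), (47, 1), (48, 1), (49, 1), (50, 1), (51, 1), (52, 1), (53, 2), (45, 1),
    (43, 2), (45, 2), (47, 1), (48, 1), (49, 1), (50, 1), (51, 2), (53, 1), (54, 2), (56, 1), (57, 1),
    (58, 1), (59, 2), (61, 1), (62, 2), (64, 1), (65, 1), (48, 1), (49, 1), (50, 1), (51, 1), (52, 1),
    (53, 1), (54, 1), (55, 2), (57, 1), (47, 1), (48, 1), (46, 1), (44, 1), (36, 1), (37, 1), (38, 1),
    (39, 1), (40, 1), (41, 1), (42, 1), (43, 1), (44, 2), (46, 2), (48, 2), (50, 1), (51, 1), (52, 1),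
    (53, 2), (55, 1), (47, 1), (40, 2), (42, 1), (43, 1), (44, 1), (45, 2), (47, 2), (49, 1), (50, 1),
    (51, 1), (42, 1), (43, 1), (34, 2), (36, 1), (37, 1), (38, 1), (39, 1), (40, 2), (42, 1), (43, 2),
    (45, 1), (46, 1), (47, 2), (49, 1), (31, 2), (33, 1), (34, 1), (35, 1), (36, 1), (32, 1), (30, 1),
    (28, 1), (29, 1), (30, 2), (32, 2), (34, 1), (35, 1), (36, 2), (38, 1), (39, 1), (40, 1), (41, 1),
    (37, 1), (28, 1), (27, 1), (28, 2), (30, 1), (31, 1), (32, 2), (34, 1), (35, 1), (20, 2), (22, 1),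
    (23, 1), (24, 1), (25, 1), (26, 1), (19, 1), (20, 2), (22, 1), (23, 1), (24, 1), (25, 1), (26, 2),
    (28, 1), (29, 1), (30, 1), (31, 1), (32, 2), (34, 1), (35, 2), (37, 2), (39, 1), (40, 1), (41, 2),
    (43, 1), (44, 1), (45, 1), (46, 1), (47, 2), (49, 2), (51, 2), (53, 1), (54, 1), (55, 2), (57, 2),
    (59, 1), (60, 1), (61, 1), (62, 2), (64, 1), (65, 2), (67, 0), (66, 1), (67, 0), (48, 1), (46, 2),
    (48, 2), (50, 1), (51, 1), (52, 1), (53, 1), (54, 1), (55, 1), (56, 1), (57, 1), (58, 2), (60, 1),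
    (49, 1), (47, 1), (45, 1), (46, 1), (47, 2), (49, 2), (51, 1), (52, 1), (44, 1), (45, 1), (42, 2),
    (44, 1), (45, 2), (47, 1), (48, 1), (49, 2), (51, 1), (52, 2), (54, 1), (55, 1), (56, 2), (58, 1),
    (54, 1), (33, 1), (34, 1), (32, 1), (31, 1), (32, 2), (34, 2), (36, 1), (37, 1), (38, 1), (39, 1),
    (40, 1), (41, 1), (42, 1), (43, 1), (35, 1), (33, 1), (25, 1), (26, 1), (27, 1), (28, 1), (29, 2),
    (31, 1), (32, 1), (33, 2), (35, 2), (37, 1), (38, 1), (39, 1), (28, 1), (29, 1), (30, 1), (31, 1),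
    (22, 1), (23, 1), (24, 1), (25, 1), (26, 2), (28, 1), (17, 1), (18, 1), (19, 1), (20, 2), (22, 1),
    (23, 1), (24, 2), (26, 1), (27, 1), (28, 2), (30, 1), (31, 2), (33, 1), (34, 1), (35, 2), (37, 1),
    (38, 1), (39, 2), (41, 1), (42, 1), (43, 2), (45, 1), (46, 1), (47, 1), (48, 1), (49, 2), (51, 1),
    (52, 2), (54, 2), (56, 1), (57, 1), (58, 2), (60, 2), (62, 1), (63, 1), (64, 1), (65, 1), (66, 0),
    (57, 1), (58, 1), (55, 2), (57, 1), (58, 2), (60, 1), (61, 1), (62, 1), (63, 1), (64, 1), (65, 0),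
    (50, 1), (51, 1), (49, 1), (47, 2), (49, 2), (51, 2), (53, 1), (54, 1), (55, 1), (56, 1), (57, 1),
    (58, 1), (59, 1), (60, 2), (62, 1), (63, 1), (52, 1), (53, 1), (50, 1), (45, 2), (47, 1), (48, 1),
    (49, 1), (50, 2), (47, 1), (48, 1), (44, 1), (45, 2), (47, 1), (48, 2), (50, 1), (51, 2), (53, 2),
    (55, 1), (56, 1), (57, 1), (58, 2), (60, 1), (55, 1), (56, 1), (54, 1), (52, 1), (42, 1), (43, 1),
    (44, 1), (45, 1), (46, 1), (41, 1), (42, 1), (40, 1), (22, 1), (23, 1), (24, 1), (25, 1), (26, 1),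
    (27, 1), (28, 1), (29, 1), (21, 1), (22, 1), (20, 1), (18, 2), (20, 2), (22, 2), (24, 1), (25, 1),
    (17, 1), (18, 1), (15, 1), (13, 1), (14, 1), (15, 2), (17, 1), (18, 2), (20, 1), (21, 1), (22, 2),
    (24, 1), (25, 2), (27, 1), (28, 1), (29, 2), (31, 1), (32, 1), (33, 1), (34, 1), (35, 2), (37, 1),
    (38, 1), (39, 1), (40, 2), (42, 2), (44, 1), (45, 1), (46, 2), (48, 1), (49, 1), (50, 1), (51, 1),
    (52, 2), (54, 2), (56, 2), (58, 1), (59, 1), (60, 2), (62, 1), (63, 2), (65, 0), (59, 1), (60, 1),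
    (61, 1), (57, 2), (59, 1), (60, 1), (61, 2), (63, 1), (64, 0), (63, 0), (60, 1), (61, 1), (59, 1),
    (60, 1), (61, 2), (63, 0), (55, 1), (56, 1), (48, 2), (50, 1), (51, 1), (52, 1), (53, 2), (50, 1),
    (51, 1), (47, 1), (48, 2), (50, 1), (51, 2), (53, 1), (54, 2), (56, 2), (58, 1), (59, 1), (60, 1),
    (61, 1), (62, 2), (64, 1), (65, 0), (57, 1), (55, 1), (45, 1), (46, 1), (47, 1), (48, 1), (49, 1),
    (44, 1), (45, 1), (43, 1), (41, 1), (42, 1), (43, 2), (45, 2), (47, 1), (48, 1), (49, 2), (51, 1),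
    (52, 1), (53, 1), (54, 1), (55, 2), (57, 2), (59, 1), (60, 2), (62, 1), (63, 1), (64, 1), (65, 1),
    (66, 2), (68, 1), (69, 0), (63, 1), (64, 1), (65, 1), (66, 1), (67, 1), (62, 1), (63, 1), (58, 1),
    (59, 1), (60, 2), (62, 1), (63, 2), (65, 1), (66, 1), (67, 2), (69, 0), (57, 1), (58, 2), (60, 1),
    (61, 1), (62, 1), (63, 2), (65, 1), (66, 1), (67, 2), (69, 1), (70, 1), (56, 1), (57, 1), (58, 1),
    (59, 2), (61, 1), (55, 1), (56, 1), (57, 2), (59, 1), (54, 1), (55, 1), (53, 1), (36, 1), (37, 1),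
    (38, 1), (39, 1), (40, 1), (41, 1), (42, 1), (35, 1), (36, 1), (37, 1), (34, 1), (33, 1), (34, 2),
    (36, 1), (37, 2), (39, 1), (40, 1), (24, 1), (25, 1), (26, 1), (27, 1), (28, 1), (29, 1), (30, 1),
    (31, 2), (23, 1), (21, 2), (23, 2), (25, 1), (26, 1), (27, 1), (28, 1), (29, 2), (31, 1), (32, 2),
    (34, 1), (35, 1), (36, 1), (37, 2), (39, 1), (40, 2), (42, 2), (44, 1), (45, 1), (46, 1), (47, 1),
    (48, 1), (49, 1), (50, 1), (51, 2), (53, 2), (55, 2), (57, 1), (58, 1), (59, 2), (61, 2), (63, 1),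
    (64, 1), (65, 1), (66, 1), (67, 2), (69, 1), (70, 2), (72, 1), (73, 1), (74, 2), (76, 1), (77, 0),
    (69, 1), (70, 1), (71, 1), (72, 1), (73, 1), (74, 1), (75, 1), (68, 1), (66, 2), (68, 2), (70, 1),
    (71, 1), (52, 1), (50, 2), (52, 2), (54, 1), (55, 1), (56, 1), (57, 1), (58, 1), (59, 1), (60, 1),
    (61, 1), (62, 2), (64, 1), (53, 1), (51, 1), (39, 1), (40, 1), (41, 1), (42, 1), (43, 1), (44, 1),
    (45, 2), (47, 1), (48, 1), (49, 1), (50, 1), (51, 2), (53, 2), (55, 1), (56, 1), (48, 1), (49, 1),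
    (38, 1), (36, 2), (38, 2), (40, 1), (41, 1), (42, 1), (43, 2), (45, 1), (46, 1), (41, 1), (39, 1),
    (26, 1), (27, 1), (28, 1), (29, 1), (30, 1), (31, 1), (32, 1), (33, 2), (25, 1), (26, 1), (24, 1),
    (22, 1), (14, 1), (15, 1), (16, 1), (17, 1), (18, 1), (19, 1), (20, 1), (21, 1), (22, 2), (24, 2),
    (26, 2), (28, 1), (29, 1), (30, 1), (31, 2), (33, 1), (34, 2), (36, 1), (37, 1), (38, 1), (39, 2),
    (41, 2), (43, 1), (44, 1), (45, 1), (46, 2), (48, 1), (49, 2), (51, 1), (52, 1), (53, 2), (55, 1),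
    (56, 2), (58, 1), (59, 1), (60, 2), (62, 1), (63, 1), (64, 2), (66, 1), (67, 1), (68, 2), (70, 1),
    (71, 2), (73, 1), (74, 1), (75, 2), (77, 0), (70, 1), (71, 1), (72, 1), (73, 1), (74, 1), (75, 1),
    (76, 1), (69, 1), (67, 2), (69, 2), (71, 1), (72, 1), (73, 1), (74, 1), (65, 2), (67, 1), (68, 1),
    (69, 2), (71, 1), (72, 1), (67, 1), (64, 1), (65, 2), (67, 2), (69, 1), (70, 1), (55, 1), (56, 1),
    (57, 1), (54, 1), (52, 2), (54, 2), (56, 1), (57, 2), (59, 1), (60, 1), (61, 1), (62, 1), (63, 1),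
    (64, 1), (65, 1), (50, 2), (52, 1), (53, 1), (54, 2), (56, 1), (57, 2), (59, 1), (60, 1), (61, 1),
    (62, 1), (52, 1), (49, 1), (50, 2), (52, 2), (54, 1), (55, 1), (56, 1), (57, 2), (59, 1), (60, 1),
    (54, 1), (55, 1), (53, 1), (51, 1), (45, 1), (46, 1), (47, 1), (48, 1), (49, 1), (50, 1), (51, 2),
    (53, 2), (55, 2), (57, 1), (58, 1), (44, 1), (45, 1), (46, 1), (42, 2), (44, 1), (45, 1), (46, 2),
    (48, 1), (49, 1), (50, 1), (51, 1), (52, 1), (53, 1), (41, 1), (42, 2), (44, 1), (45, 1), (46, 2),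
    (48, 1), (49, 1), (50, 1), (38, 1), (39, 1), (40, 1), (41, 1), (42, 2), (44, 1), (45, 1), (46, 2),
    (39, 1), (37, 2), (39, 2), (41, 1), (42, 1), (43, 1), (44, 1), (35, 2), (37, 1), (38, 1), (39, 2),
    (41, 1), (42, 1), (37, 1), (34, 1), (35, 2), (37, 2), (39, 1), (40, 1), (28, 2), (30, 1), (31, 1),
    (32, 1), (33, 1), (34, 1), (35, 1), (27, 1), (28, 2), (30, 1), (31, 1), (32, 1), (26, 1), (27, 1),
    (28, 2), (30, 1), (25, 1), (26, 1), (24, 1), (21, 1), (22, 1), (9, 2), (11, 1), (12, 1), (13, 1),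
    (14, 1), (15, 1), (8, 1), (9, 2), (11, 1), (6, 1), (7, 1), (8, 1), (9, 2), (11, 2), (13, 1), (14,
    1), (15, 2), (17, 1), (18, 1), (19, 1), (20, 1), (21, 1), (22, 2), (24, 2), (26, 2), (28, 1), (29,
    1), (30, 2), (32, 2), (34, 1), (35, 2), (37, 1), (38, 1), (39, 1), (40, 2), (42, 2), (44, 2), (46,
    1), (47, 2), (49, 1), (50, 2), (52, 1), (53, 2), (55, 1), (56, 1), (57, 1), (58, 2), (60, 2), (62,
    2), (64, 1), (65, 2), (67, 1), (68, 1), (69, 1), (70, 2), (72, 2), (74, 2), (76, 2), (78, 0), (75,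
    1), (57, 1), (58, 1), (59, 1), (60, 1), (61, 1), (62, 1), (56, 1), (57, 1), (54, 2), (56, 1), (57,
    2), (59, 1), (60, 1), (53, 1), (54, 2), (56, 1), (57, 2), (51, 2), (53, 1), (54, 1), (55, 1), (50,
    1), (51, 2), (53, 1), (45, 2), (47, 1), (48, 1), (49, 1), (44, 1), (45, 2), (47, 1), (29, 1), (30,
    1), (31, 1), (32, 1), (27, 2), (29, 1), (30, 1), (26, 1), (27, 2), (25, 1), (17, 2), (19, 1), (20,
    1), (21, 1), (22, 1), (23, 2), (25, 2), (27, 1), (28, 2), (30, 2), (32, 2), (34, 1), (35, 1), (36,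
    1), (37, 1), (38, 1), (39, 1), (40, 1), (41, 1), (42, 1), (43, 1), (44, 1), (45, 2), (47, 2), (49,
    2), (51, 1), (52, 1), (53, 2), (55, 2), (57, 1), (58, 2), (60, 2), (62, 2), (64, 1), (65, 1), (66,
    1), (67, 1), (68, 1), (69, 1), (70, 1), (71, 1), (72, 1), (73, 2), (75, 2), (77, 0), (68, 1), (69,
    1), (70, 1), (71, 1), (72, 1), (73, 1), (74, 1), (75, 1), (67, 1), (68, 1), (65, 2), (67, 1), (68,
    2), (70, 1), (71, 1), (72, 1), (64, 1), (65, 2), (67, 1), (68, 2), (61, 1), (62, 2), (64, 1), (65,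
    1), (66, 1), (59, 1), (60, 1), (61, 1), (62, 2), (64, 1), (56, 2), (58, 1), (59, 1), (60, 1), (54,
    1), (55, 1), (56, 2), (58, 1), (38, 1), (39, 1), (40, 1), (41, 1), (37, 1), (38, 1), (35, 2), (37,
    1), (38, 2), (40, 1), (41, 2), (43, 1), (44, 1), (45, 1), (46, 1), (47, 1), (34, 1), (35, 2), (37,
    1), (38, 2), (40, 1), (41, 2), (43, 1), (44, 1), (31, 1), (32, 2), (34, 1), (35, 1), (36, 1), (29,
    1), (30, 1), (31, 1), (32, 2), (34, 1), (26, 2), (28, 1), (29, 1), (30, 1), (24, 1), (25, 1), (26,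
    2), (28, 1), (14, 1), (15, 1), (13, 1), (14, 1), (15, 2), (17, 1), (18, 1), (19, 1), (20, 1), (21,
    1), (22, 1), (23, 1), (24, 1), (25, 1), (26, 2), (28, 2), (30, 2), (32, 1), (33, 1), (34, 2), (36,
    2), (38, 1), (39, 1), (40, 1), (41, 2), (43, 1), (44, 2), (46, 1), (47, 2), (49, 1), (50, 1), (51,
    1), (52, 1), (53, 1), (54, 1), (55, 1), (56, 2), (58, 2), (60, 2), (62, 1), (63, 1), (64, 2), (66,
    2), (68, 1), (69, 2), (71, 1), (72, 2), (74, 1), (75, 2), (77, 0), (67, 2), (69, 1), (70, 1), (71,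
    1), (66, 1), (67, 2), (69, 1), (65, 1), (43, 1), (44, 1), (42, 1), (40, 2), (42, 2), (44, 2), (46,
    1), (47, 1), (48, 1), (49, 1), (50, 1), (51, 1), (45, 1), (46, 1), (43, 1), (44, 1), (41, 1), (42,
    1), (39, 1), (40, 1), (41, 1), (42, 2), (44, 2), (46, 2), (48, 1), (49, 1), (37, 2), (39, 1), (40,
    1), (41, 1), (42, 1), (36, 1), (37, 2), (39, 1), (35, 1), (21, 1), (10, 1), (8, 2), (10, 2), (12,
    1), (13, 1), (14, 1), (15, 1), (16, 2), (18, 1), (19, 2), (21, 2), (23, 1), (24, 1), (25, 1), (26,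
    1), (27, 1), (28, 1), (29, 1), (30, 1), (31, 2), (33, 2), (35, 2), (37, 1), (38, 1), (39, 2), (41,
    1), (42, 2), (44, 1), (45, 1), (46, 2), (48, 1), (49, 2), (51, 2), (53, 1), (54, 1), (55, 1), (56,
    1), (57, 1), (58, 1), (59, 1), (60, 1), (61, 2), (63, 2), (65, 2), (67, 1), (68, 1), (69, 2), (71,
    2), (73, 1), (74, 1), (75, 1), (76, 2), (78, 1), (79, 0), (56, 1), (54, 2), (56, 2), (58, 1), (59,
    1), (60, 1), (61, 1), (62, 1), (63, 1), (64, 1), (65, 1), (66, 2), (57, 1), (55, 1), (53, 1), (54,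
    1), (55, 2), (57, 2), (59, 1), (60, 1), (52, 1), (53, 1), (50, 1), (44, 1), (26, 1), (24, 2), (26,
    2), (28, 1), (29, 1), (30, 1), (31, 1), (32, 1), (33, 1), (34, 1), (35, 1), (36, 2), (27, 1), (25,
    1), (23, 1), (24, 1), (25, 2), (27, 2), (29, 1), (30, 1), (22, 1), (23, 1), (20, 1), (11, 1), (9,
    1), (7, 1), (8, 1), (9, 2), (11, 2), (13, 1), (14, 2), (16, 1), (17, 1), (18, 1), (19, 1), (20, 2),
    (22, 1), (23, 2), (25, 1), (26, 1), (27, 2), (29, 1), (30, 2), (32, 1), (33, 1), (34, 2), (36, 1),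
    (37, 2), (39, 1), (40, 1), (41, 1), (42, 2), (44, 2), (46, 1), (47, 1), (48, 1), (49, 1), (50, 2),
    (52, 1), (53, 2), (55, 1), (56, 1), (57, 2), (59, 1), (60, 2), (62, 1), (63, 1), (64, 2), (66, 1),
    (67, 2), (69, 1), (70, 1), (71, 2), (73, 1), (74, 2), (76, 1), (77, 1), (78, 1), (79, 1), (80, 2),
    (82, 1), (83, 0), (77, 1), (78, 1), (79, 1), (80, 1), (81, 1), (76, 1), (77, 1), (72, 1), (73, 1),
    (74, 2), (76, 1), (77, 2), (79, 1), (80, 1), (81, 2), (83, 0), (71, 1), (72, 2), (74, 1), (75, 1),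
    (76, 1), (77, 2), (79, 1), (80, 1), (79, 1), (78, 1), (77, 1), (75, 1), (76, 1), (74, 1), (75, 1),
    (70, 1), (71, 1), (72, 2), (74, 1), (69, 2), (68, 1), (65, 2), (67, 1), (66, 1), (64, 1), (65, 1),
    (59, 1), (60, 1), (58, 1), (56, 2), (58, 2), (60, 2), (62, 1), (63, 1), (64, 1), (61, 1), (62, 1),
    (63, 1), (59, 1), (54, 2), (56, 1), (57, 1), (58, 1), (59, 2), (61, 1), (62, 1), (60, 1), (59, 1),
    (56, 1), (57, 1), (53, 1), (54, 2), (56, 1), (47, 1), (48, 1), (49, 1), (50, 1), (51, 1), (46, 1),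
    (47, 1), (43, 1), (44, 2), (46, 1), (47, 2), (49, 1), (50, 1), (51, 2), (42, 2), (44, 1), (45, 1),
    (46, 1), (47, 2), (49, 1), (50, 1), (49, 1), (48, 1), (47, 1), (45, 1), (46, 1), (44, 1), (45, 1),
    (41, 1), (42, 2), (44, 1), (39, 2), (38, 1), (35, 2), (37, 1), (36, 1), (34, 1), (35, 1), (29, 1),
    (30, 1), (28, 1), (26, 2), (28, 2), (30, 2), (32, 1), (33, 1), (34, 1), (31, 1), (32, 1), (33, 1),
    (29, 1), (24, 2), (26, 1), (27, 1), (28, 1), (29, 2), (31, 1), (32, 1), (30, 1), (29, 1), (26, 1),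
    (27, 1), (23, 1), (24, 2), (26, 1), (17, 1), (18, 1), (19, 1), (20, 1), (21, 1), (16, 1), (17, 1),
    (12, 1), (13, 1), (14, 2), (16, 1), (17, 2), (19, 1), (20, 1), (21, 2), (11, 1), (12, 2), (14, 1),
    (15, 1), (16, 1), (17, 2), (19, 1), (20, 1), (19, 1), (18, 1), (17, 1), (15, 1), (16, 1), (14, 1),
    (15, 1), (8, 1), (9, 1), (10, 1), (11, 1), (12, 2), (14, 1), (5, 2), (7, 1), (8, 1), (9, 2), (2, 1),
    (3, 1), (4, 1), (5, 2), (7, 1), (8, 1), (7, 1), (6, 1), (5, 1), (3, 1), (4, 1), (2, 1), (3, 1), (0,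
    2), (2, 1)] = true := by decide +kernel

theorem spider_move2 : sameWord (rep 10 spiderWord ++ [2]) (([1, 2] ++ rep 3 ([1] ++ farWord) ++ ([1, 2] : List ℕ).reverse) ++ ([2] ++ rep 10 spiderWord))
    []
    [(0, 2), (2, 0), (65, 0), (64, 1), (65, 2), (67, 0), (66, 1), (67, 0), (62, 1), (63, 1), (64, 1),
    (65, 1), (66, 0), (61, 1), (62, 1), (63, 1), (64, 1), (65, 0), (61, 1), (62, 1), (63, 1), (64, 2),
    (66, 1), (67, 0), (61, 2), (58, 1), (59, 2), (61, 1), (62, 2), (64, 1), (65, 1), (66, 0), (60, 2),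
    (62, 1), (63, 1), (64, 1), (65, 0), (54, 2), (56, 1), (57, 1), (58, 1), (59, 1), (60, 1), (61, 1),
    (62, 2), (53, 1), (54, 2), (56, 1), (51, 1), (52, 1), (53, 1), (54, 2), (56, 2), (58, 1), (59, 1),
    (60, 2), (62, 1), (63, 2), (65, 1), (66, 1), (55, 1), (53, 2), (55, 2), (57, 1), (58, 1), (56, 1),
    (51, 1), (50, 1), (51, 2), (53, 1), (54, 1), (43, 2), (45, 1), (46, 1), (47, 1), (48, 1), (49, 1),
    (42, 1), (43, 2), (45, 1), (46, 1), (47, 1), (48, 1), (49, 2), (51, 1), (52, 1), (53, 1), (54, 2),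
    (56, 2), (58, 2), (60, 1), (61, 1), (62, 1), (63, 2), (65, 1), (66, 2), (68, 0), (60, 2), (62, 1),
    (63, 1), (64, 1), (59, 1), (60, 2), (62, 1), (63, 1), (64, 2), (66, 1), (67, 0), (66, 0), (57, 1),
    (58, 1), (59, 1), (53, 1), (54, 1), (55, 2), (57, 1), (52, 1), (53, 1), (50, 2), (52, 1), (53, 2),
    (55, 1), (48, 1), (49, 1), (50, 1), (51, 1), (45, 1), (46, 1), (47, 1), (40, 1), (41, 1), (42, 1),
    (43, 2), (45, 1), (46, 1), (47, 2), (49, 1), (50, 1), (51, 2), (53, 1), (54, 1), (55, 2), (57, 2),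
    (59, 2), (61, 1), (62, 1), (63, 1), (64, 1), (65, 0), (62, 1), (63, 1), (64, 1), (65, 1), (61, 1),
    (62, 1), (63, 1), (60, 1), (58, 1), (56, 1), (57, 1), (58, 2), (60, 2), (62, 1), (63, 2), (65, 2),
    (67, 0), (61, 1), (62, 1), (60, 1), (54, 1), (52, 2), (54, 2), (56, 1), (57, 1), (58, 1), (59, 1),
    (60, 2), (62, 2), (64, 1), (65, 1), (63, 1), (61, 1), (45, 1), (46, 1), (47, 1), (48, 1), (49, 1),
    (50, 1), (51, 1), (52, 1), (44, 1), (45, 1), (43, 1), (40, 1), (41, 1), (42, 1), (43, 2), (45, 2),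
    (47, 1), (48, 1), (49, 1), (40, 2), (38, 1), (36, 1), (37, 1), (38, 2), (40, 1), (41, 2), (43, 1),
    (44, 1), (45, 2), (47, 1), (48, 1), (49, 2), (51, 1), (52, 2), (54, 1), (55, 1), (56, 1), (57, 1),
    (58, 1), (59, 1), (60, 1), (61, 2), (63, 2), (65, 2), (67, 0), (66, 1), (67, 0), (64, 1), (65, 1),
    (66, 1), (67, 1), (60, 1), (61, 1), (62, 2), (64, 1), (55, 1), (56, 1), (47, 1), (48, 1), (49, 1),
    (50, 1), (51, 1), (52, 1), (53, 1), (54, 1), (55, 1), (56, 2), (50, 1), (51, 1), (52, 2), (54, 1),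
    (46, 1), (47, 1), (45, 1), (44, 1), (45, 2), (47, 2), (49, 1), (50, 1), (48, 1), (46, 1), (37, 1),
    (38, 1), (39, 1), (40, 1), (41, 1), (42, 1), (43, 1), (44, 1), (45, 1), (46, 2), (48, 2), (50, 2),
    (52, 1), (53, 1), (54, 2), (56, 1), (57, 2), (59, 1), (60, 1), (49, 1), (45, 1), (46, 1), (47, 2),
    (49, 2), (51, 1), (52, 1), (32, 2), (34, 1), (35, 1), (36, 1), (37, 1), (38, 1), (39, 1), (40, 1),
    (41, 2), (31, 1), (32, 2), (34, 1), (29, 1), (30, 1), (31, 1), (32, 2), (34, 2), (36, 1), (37, 1),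
    (38, 1), (39, 2), (41, 1), (42, 2), (44, 1), (45, 1), (33, 1), (31, 2), (33, 2), (35, 1), (36, 1),
    (37, 1), (29, 1), (28, 1), (29, 2), (31, 1), (32, 1), (33, 2), (35, 1), (21, 2), (23, 1), (24, 1),
    (25, 1), (26, 1), (27, 1), (20, 1), (21, 2), (23, 1), (24, 1), (25, 1), (26, 1), (27, 2), (29, 1),
    (30, 1), (31, 1), (32, 1), (33, 2), (35, 2), (37, 2), (39, 1), (40, 1), (41, 1), (42, 2), (44, 1),
    (45, 2), (47, 1), (48, 1), (49, 2), (51, 1), (52, 2), (54, 1), (55, 1), (56, 1), (57, 2), (59, 1),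
    (60, 2), (62, 1), (63, 1), (64, 2), (66, 1), (67, 2), (69, 0), (68, 1), (69, 0), (51, 1), (52, 1),
    (53, 1), (54, 1), (55, 1), (56, 1), (57, 1), (58, 1), (59, 1), (60, 1), (61, 2), (50, 1), (48, 2),
    (50, 2), (52, 1), (53, 1), (54, 1), (46, 2), (48, 1), (49, 1), (50, 2), (52, 1), (34, 1), (32, 2),
    (34, 2), (36, 1), (37, 1), (38, 1), (39, 1), (40, 1), (41, 1), (42, 1), (43, 1), (44, 1), (35, 1),
    (33, 1), (31, 1), (32, 1), (33, 2), (35, 2), (37, 1), (38, 1), (39, 1), (30, 1), (31, 1), (28, 2),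
    (30, 1), (31, 2), (33, 1), (34, 1), (35, 2), (37, 1), (26, 1), (27, 1), (28, 1), (29, 1), (23, 1),
    (24, 1), (25, 1), (18, 1), (19, 1), (20, 1), (21, 2), (23, 1), (24, 1), (25, 2), (27, 1), (28, 1),
    (29, 2), (31, 1), (32, 1), (33, 1), (34, 1), (35, 2), (37, 2), (39, 2), (41, 1), (42, 1), (43, 1),
    (44, 2), (46, 1), (47, 1), (48, 1), (49, 1), (50, 2), (52, 2), (54, 2), (56, 1), (57, 1), (58, 1),
    (59, 2), (61, 1), (62, 2), (64, 1), (65, 1), (66, 1), (67, 1), (68, 0), (60, 2), (62, 1), (63, 1),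
    (64, 1), (65, 1), (66, 1), (67, 0), (51, 1), (49, 2), (51, 2), (53, 1), (54, 1), (55, 1), (56, 1),
    (52, 1), (50, 1), (48, 1), (49, 1), (50, 2), (52, 2), (54, 1), (55, 1), (56, 2), (58, 1), (59, 1),
    (60, 1), (61, 1), (62, 2), (64, 1), (65, 1), (66, 2), (68, 1), (69, 0), (55, 1), (56, 1), (57, 1),
    (58, 1), (59, 1), (60, 1), (61, 1), (62, 1), (63, 2), (47, 1), (48, 1), (45, 2), (47, 1), (48, 2),
    (50, 1), (51, 1), (52, 2), (54, 1), (55, 2), (57, 1), (58, 1), (59, 2), (61, 1), (53, 1), (54, 1),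
    (52, 1), (47, 1), (48, 1), (49, 1), (50, 2), (52, 2), (54, 2), (56, 1), (57, 1), (55, 1), (49, 1),
    (50, 1), (46, 1), (47, 2), (49, 1), (50, 2), (52, 1), (53, 1), (36, 1), (34, 2), (36, 2), (38, 1),
    (39, 1), (40, 1), (41, 1), (37, 1), (35, 1), (33, 1), (34, 1), (35, 2), (37, 2), (39, 1), (40, 1),
    (41, 2), (43, 1), (44, 1), (45, 1), (46, 1), (47, 1), (48, 1), (42, 1), (32, 1), (33, 1), (30, 2),
    (32, 1), (33, 2), (35, 1), (36, 1), (37, 2), (39, 1), (40, 1), (41, 1), (42, 2), (44, 1), (23, 1),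
    (24, 1), (25, 1), (26, 1), (27, 1), (28, 1), (29, 1), (30, 1), (31, 1), (22, 1), (23, 1), (21, 1),
    (18, 1), (19, 1), (20, 1), (21, 2), (23, 2), (25, 1), (26, 1), (27, 1), (18, 2), (16, 1), (14, 1),
    (15, 1), (16, 2), (18, 1), (19, 2), (21, 1), (22, 1), (23, 2), (25, 1), (26, 1), (27, 2), (29, 1),
    (30, 1), (31, 2), (33, 1), (34, 1), (35, 1), (36, 1), (37, 2), (39, 1), (40, 1), (41, 1), (42, 2),
    (44, 2), (46, 1), (47, 1), (48, 2), (50, 1), (51, 1), (52, 1), (53, 2), (55, 2), (57, 2), (59, 1),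
    (60, 1), (61, 2), (63, 1), (64, 2), (66, 1), (67, 1), (68, 0), (62, 2), (64, 1), (65, 1), (66, 1),
    (67, 0), (66, 1), (67, 1), (68, 1), (69, 1), (64, 2), (66, 1), (67, 1), (56, 1), (52, 1), (53, 1),
    (54, 2), (56, 2), (58, 1), (59, 1), (51, 1), (52, 1), (49, 2), (51, 1), (52, 2), (54, 1), (55, 1),
    (56, 2), (58, 1), (59, 2), (61, 1), (62, 1), (63, 1), (64, 2), (66, 1), (67, 2), (69, 2), (71, 0),
    (68, 1), (58, 1), (59, 1), (60, 1), (61, 1), (57, 1), (55, 2), (57, 2), (59, 1), (60, 1), (61, 2),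
    (63, 1), (64, 1), (65, 1), (66, 2), (68, 2), (70, 0), (65, 1), (66, 1), (67, 1), (68, 1), (69, 1),
    (70, 1), (71, 1), (64, 1), (65, 1), (62, 2), (64, 1), (65, 2), (67, 1), (68, 1), (69, 1), (61, 1),
    (62, 2), (64, 1), (65, 2), (58, 1), (59, 2), (61, 1), (62, 1), (63, 1), (57, 1), (58, 1), (59, 2),
    (61, 1), (56, 1), (57, 1), (55, 1), (38, 1), (39, 1), (40, 1), (41, 1), (37, 1), (38, 1), (39, 1),
    (36, 1), (37, 1), (30, 1), (31, 1), (32, 1), (33, 1), (34, 2), (36, 1), (37, 2), (39, 2), (41, 2),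
    (43, 1), (44, 1), (45, 1), (46, 1), (47, 1), (48, 1), (49, 1), (50, 1), (51, 1), (52, 1), (53, 2),
    (55, 2), (57, 2), (59, 1), (60, 1), (61, 2), (63, 2), (65, 1), (66, 2), (68, 1), (69, 2), (71, 2),
    (73, 0), (64, 2), (66, 1), (67, 1), (68, 1), (63, 1), (64, 2), (66, 1), (62, 1), (46, 1), (47, 1),
    (48, 1), (49, 1), (45, 1), (44, 1), (45, 2), (47, 1), (48, 1), (49, 2), (51, 1), (52, 1), (53, 1),
    (54, 1), (55, 1), (56, 1), (57, 1), (58, 2), (60, 2), (62, 2), (64, 1), (65, 1), (66, 2), (68, 2),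
    (70, 1), (71, 1), (72, 2), (74, 1), (75, 0), (69, 1), (70, 2), (72, 1), (73, 1), (74, 1), (75, 1),
    (76, 2), (78, 1), (79, 0), (73, 1), (74, 1), (75, 1), (76, 1), (77, 1), (72, 1), (73, 1), (53, 1),
    (51, 2), (53, 2), (55, 1), (56, 1), (57, 1), (58, 1), (59, 1), (60, 1), (61, 1), (62, 1), (63, 2),
    (54, 1), (52, 1), (44, 1), (45, 1), (46, 2), (48, 1), (49, 1), (50, 1), (51, 1), (52, 2), (54, 2),
    (56, 1), (57, 1), (49, 1), (50, 1), (43, 1), (44, 2), (46, 1), (47, 1), (42, 1), (40, 1), (33, 1),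
    (34, 1), (25, 1), (26, 1), (27, 1), (28, 1), (29, 1), (30, 1), (31, 1), (32, 1), (33, 1), (34, 2),
    (28, 1), (29, 1), (30, 2), (32, 1), (24, 1), (25, 1), (23, 1), (22, 1), (23, 2), (25, 2), (27, 1),
    (28, 1), (26, 1), (24, 1), (15, 1), (16, 1), (17, 1), (18, 1), (19, 1), (20, 1), (21, 1), (22, 1),
    (23, 1), (24, 2), (26, 2), (28, 2), (30, 1), (31, 1), (32, 2), (34, 1), (35, 2), (37, 1), (38, 1),
    (39, 1), (40, 2), (42, 2), (44, 1), (45, 1), (46, 1), (47, 2), (49, 1), (50, 2), (52, 1), (53, 1),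
    (54, 2), (56, 1), (57, 2), (59, 1), (60, 1), (61, 2), (63, 1), (64, 2), (66, 1), (67, 1), (68, 1),
    (69, 1), (70, 2), (72, 1), (73, 2), (75, 1), (76, 1), (77, 2), (79, 0), (62, 2), (64, 1), (65, 1),
    (66, 1), (67, 1), (68, 1), (69, 1), (70, 2), (72, 1), (61, 1), (62, 2), (64, 1), (65, 1), (66, 1),
    (67, 1), (68, 2), (70, 1), (65, 1), (66, 1), (60, 1), (61, 1), (62, 2), (64, 1), (45, 1), (46, 1),
    (47, 1), (48, 1), (49, 1), (50, 1), (44, 1), (43, 1), (44, 2), (46, 1), (47, 1), (48, 1), (42, 1),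
    (43, 1), (44, 2), (46, 1), (33, 2), (35, 1), (36, 1), (37, 1), (38, 1), (39, 1), (40, 2), (42, 1),
    (32, 1), (33, 2), (35, 1), (36, 1), (37, 1), (38, 2), (40, 1), (35, 1), (36, 1), (27, 1), (23, 1),
    (24, 1), (25, 2), (27, 2), (29, 1), (30, 1), (31, 1), (32, 1), (33, 2), (35, 1), (36, 2), (38, 1),
    (39, 1), (40, 2), (42, 2), (44, 1), (45, 1), (46, 2), (48, 2), (50, 2), (52, 1), (53, 1), (54, 1),
    (55, 1), (56, 1), (57, 1), (58, 1), (59, 1), (60, 1), (61, 1), (62, 2), (64, 2), (66, 2), (68, 1),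
    (69, 1), (70, 2), (72, 2), (74, 1), (75, 1), (76, 1), (77, 1), (78, 2), (80, 1), (81, 0), (75, 1),
    (76, 1), (77, 1), (78, 1), (79, 1), (74, 1), (75, 1), (73, 1), (71, 1), (55, 1), (56, 1), (54, 1),
    (52, 2), (54, 2), (56, 2), (58, 1), (59, 1), (60, 1), (61, 1), (62, 1), (63, 1), (64, 1), (57, 1),
    (58, 1), (55, 1), (56, 1), (53, 1), (54, 1), (45, 1), (46, 1), (47, 1), (48, 1), (49, 1), (50, 1),
    (51, 1), (52, 1), (53, 1), (54, 2), (56, 2), (58, 2), (60, 1), (61, 1), (48, 1), (49, 2), (51, 1),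
    (52, 1), (53, 1), (54, 1), (46, 1), (47, 1), (48, 1), (49, 2), (51, 1), (43, 2), (45, 1), (46, 1),
    (47, 1), (41, 1), (42, 1), (43, 2), (45, 1), (30, 1), (31, 1), (32, 1), (33, 1), (34, 1), (29, 1),
    (30, 1), (28, 1), (26, 1), (16, 2), (18, 1), (19, 1), (20, 1), (21, 1), (22, 1), (23, 1), (24, 1),
    (25, 1), (26, 2), (28, 2), (30, 2), (32, 1), (33, 1), (34, 2), (36, 1), (37, 1), (38, 1), (39, 1),
    (40, 1), (41, 1), (42, 1), (43, 2), (45, 2), (47, 2), (49, 1), (50, 1), (51, 2), (53, 1), (54, 2),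
    (56, 1), (57, 1), (58, 2), (60, 1), (61, 2), (63, 1), (64, 2), (66, 1), (67, 1), (68, 1), (69, 1),
    (70, 1), (71, 2), (73, 2), (75, 2), (77, 1), (78, 1), (79, 2), (81, 0), (78, 1), (79, 1), (80, 1),
    (81, 1), (82, 1), (83, 1), (77, 1), (78, 1), (76, 1), (60, 1), (61, 1), (59, 1), (57, 2), (59, 2),
    (61, 2), (63, 1), (64, 1), (65, 1), (66, 1), (67, 1), (68, 1), (69, 1), (70, 1), (71, 1), (72, 1),
    (73, 1), (74, 2), (76, 2), (78, 2), (80, 1), (81, 1), (73, 1), (74, 1), (62, 1), (63, 1), (60, 1),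
    (61, 1), (58, 1), (59, 1), (50, 1), (51, 1), (52, 1), (53, 1), (54, 1), (55, 1), (56, 1), (57, 1),
    (58, 1), (59, 2), (61, 2), (63, 2), (65, 1), (66, 1), (54, 2), (56, 1), (57, 1), (58, 1), (59, 1),
    (53, 1), (54, 2), (56, 1), (48, 2), (50, 1), (51, 1), (52, 1), (47, 1), (48, 2), (50, 1), (33, 1),
    (34, 1), (35, 1), (36, 1), (37, 1), (38, 1), (39, 1), (32, 1), (33, 1), (31, 1), (20, 1), (21, 1),
    (22, 1), (23, 1), (24, 1), (25, 1), (26, 1), (27, 1), (28, 1), (29, 2), (31, 2), (33, 2), (35, 1),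
    (36, 1), (28, 1), (29, 1), (18, 2), (20, 1), (21, 1), (13, 2), (15, 1), (16, 1), (17, 1), (18, 2),
    (20, 1), (21, 2), (23, 1), (24, 1), (25, 1), (26, 2), (28, 1), (29, 2), (31, 1), (32, 1), (33, 2),
    (35, 1), (36, 2), (38, 1), (39, 2), (41, 1), (42, 1), (43, 1), (44, 1), (45, 1), (46, 1), (47, 1),
    (48, 2), (50, 2), (52, 2), (54, 1), (55, 1), (56, 2), (58, 1), (59, 2), (61, 1), (62, 1), (63, 2),
    (65, 1), (66, 2), (68, 1), (69, 1), (70, 1), (71, 2), (73, 1), (74, 2), (76, 1), (77, 1), (78, 2),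
    (80, 1), (81, 2), (83, 2), (85, 0), (82, 1), (65, 1), (66, 1), (64, 1), (62, 2), (64, 2), (66, 2),
    (68, 1), (69, 1), (70, 1), (71, 1), (72, 1), (73, 1), (74, 1), (75, 1), (67, 1), (68, 1), (65, 1),
    (60, 2), (62, 1), (63, 1), (64, 1), (65, 2), (67, 1), (68, 2), (70, 1), (71, 1), (72, 1), (62, 1),
    (63, 1), (59, 1), (60, 2), (62, 1), (63, 2), (65, 1), (66, 1), (67, 1), (68, 2), (70, 1), (57, 2),
    (59, 1), (60, 1), (61, 1), (62, 1), (63, 1), (64, 2), (66, 1), (56, 1), (57, 2), (59, 1), (60, 1),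
    (61, 1), (62, 2), (64, 1), (49, 1), (47, 2), (49, 2), (51, 1), (52, 1), (53, 1), (54, 1), (55, 1),
    (56, 1), (57, 1), (58, 2), (60, 1), (50, 1), (48, 1), (46, 1), (47, 1), (48, 2), (50, 2), (52, 1),
    (53, 1), (54, 1), (55, 1), (56, 2), (58, 1), (43, 1), (41, 2), (43, 2), (45, 1), (46, 1), (47, 1),
    (48, 1), (49, 1), (50, 1), (51, 2), (53, 1), (54, 1), (44, 1), (45, 1), (42, 1), (40, 1), (41, 1),
    (42, 2), (44, 1), (45, 2), (47, 1), (48, 1), (49, 2), (51, 1), (52, 1), (47, 1), (39, 1), (40, 1),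
    (41, 1), (42, 2), (44, 1), (45, 2), (47, 2), (49, 1), (50, 1), (35, 1), (36, 1), (34, 1), (32, 2),
    (34, 2), (36, 2), (38, 1), (39, 1), (40, 1), (41, 1), (42, 1), (43, 1), (44, 1), (45, 1), (37, 1),
    (38, 1), (35, 1), (30, 2), (32, 1), (33, 1), (34, 1), (35, 2), (37, 1), (38, 2), (40, 1), (41, 1),
    (42, 1), (32, 1), (33, 1), (29, 1), (30, 2), (32, 1), (33, 2), (35, 1), (36, 1), (37, 1), (38, 2),
    (40, 1), (27, 2), (29, 1), (30, 1), (31, 1), (32, 1), (33, 1), (34, 2), (36, 1), (26, 1), (27, 2),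
    (29, 1), (30, 1), (31, 1), (32, 2), (34, 1), (25, 1), (26, 1), (27, 1), (28, 2), (30, 1), (24, 1),
    (25, 1), (26, 2), (28, 1), (23, 1), (24, 1), (22, 1), (10, 2), (12, 1), (13, 1), (14, 1), (15, 1),
    (11, 1), (9, 1), (7, 1), (8, 1), (9, 2), (11, 2), (13, 1), (14, 1), (15, 2), (17, 1), (18, 1), (19,
    1), (20, 2), (22, 2), (24, 2), (26, 1), (27, 1), (28, 2), (30, 2), (32, 1), (33, 1), (34, 2), (36,
    2), (38, 1), (39, 1), (40, 2), (42, 2), (44, 1), (45, 2), (47, 1), (48, 1), (49, 1), (50, 2), (52,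
    2), (54, 2), (56, 1), (57, 1), (58, 2), (60, 2), (62, 1), (63, 1), (64, 2), (66, 2), (68, 1), (69,
    1), (70, 2), (72, 2), (74, 1), (75, 2), (77, 1), (78, 1), (79, 1), (80, 2), (82, 2), (84, 0), (79,
    1), (80, 1), (81, 1), (82, 1), (83, 1), (84, 1), (85, 1), (78, 1), (79, 1), (76, 2), (78, 1), (79,
    2), (81, 1), (82, 1), (83, 1), (75, 1), (76, 2), (78, 1), (79, 2), (73, 2), (75, 1), (76, 1), (77,
    1), (72, 1), (73, 2), (75, 1), (71, 1), (49, 1), (50, 1), (51, 1), (52, 1), (48, 1), (49, 1), (46,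
    2), (48, 1), (49, 2), (51, 1), (52, 2), (54, 1), (55, 1), (56, 1), (57, 1), (45, 1), (46, 2), (48,
    1), (49, 2), (51, 1), (52, 2), (54, 1), (55, 1), (43, 2), (45, 1), (46, 1), (47, 1), (42, 1), (43,
    2), (45, 1), (41, 1), (19, 1), (20, 1), (21, 1), (22, 1), (18, 1), (19, 1), (16, 2), (18, 1), (19,
    2), (21, 1), (22, 2), (24, 1), (25, 1), (26, 1), (27, 1), (15, 1), (16, 2), (18, 1), (19, 2), (21,
    1), (22, 2), (24, 1), (25, 1), (12, 1), (13, 2), (15, 1), (16, 1), (17, 1), (11, 1), (12, 1), (13,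
    2), (15, 1), (10, 1), (11, 1), (9, 1), (7, 1), (1, 1), (2, 1), (3, 1), (4, 1), (5, 1), (6, 1), (7,
    2), (9, 2), (11, 2), (13, 1), (14, 1), (15, 2), (17, 2), (19, 1), (20, 1), (21, 1), (22, 2), (24,
    1), (25, 2), (27, 2), (29, 1), (30, 1), (31, 1), (32, 1), (33, 1), (34, 1), (35, 1), (36, 1), (37,
    2), (39, 2), (41, 2), (43, 1), (44, 1), (45, 2), (47, 2), (49, 1), (50, 1), (51, 1), (52, 2), (54,
    1), (55, 2), (57, 2), (59, 1), (60, 1), (61, 1), (62, 1), (63, 1), (64, 1), (65, 1), (66, 1), (67,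
    2), (69, 2), (71, 2), (73, 1), (74, 1), (75, 2), (77, 2), (79, 1), (80, 2), (82, 1), (83, 2), (85,
    2), (87, 0), (78, 2), (80, 1), (81, 1), (82, 1), (77, 1), (78, 2), (80, 1), (76, 1), (54, 1), (55,
    1), (56, 1), (57, 1), (53, 1), (51, 2), (53, 2), (55, 1), (56, 1), (57, 2), (59, 1), (60, 1), (61,
    1), (62, 1), (54, 1), (52, 1), (50, 1), (51, 1), (52, 2), (54, 2), (56, 1), (57, 2), (59, 1), (60,
    1), (48, 2), (50, 1), (51, 1), (52, 1), (47, 1), (48, 2), (46, 1), (24, 1), (25, 1), (26, 1), (27,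
    1), (23, 1), (21, 2), (23, 2), (25, 1), (26, 1), (27, 2), (29, 1), (30, 1), (31, 1), (32, 1), (24,
    1), (22, 1), (20, 1), (21, 1), (22, 2), (24, 2), (26, 1), (27, 2), (29, 1), (30, 1), (18, 2), (20,
    1), (21, 1), (22, 1), (17, 1), (18, 2), (16, 1), (6, 1), (7, 1), (8, 1), (9, 1), (10, 1), (11, 1),
    (12, 2), (14, 2), (16, 2), (18, 1), (19, 2), (21, 1), (22, 2), (24, 1), (25, 1), (26, 1), (27, 2),
    (29, 1), (30, 2), (32, 2), (34, 1), (35, 1), (36, 1), (37, 1), (38, 1), (39, 1), (40, 1), (41, 1),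
    (42, 2), (44, 2), (46, 2), (48, 1), (49, 2), (51, 1), (52, 2), (54, 1), (55, 1), (56, 1), (57, 2),
    (59, 1), (60, 2), (62, 2), (64, 1), (65, 1), (66, 1), (67, 1), (68, 1), (69, 1), (70, 1), (71, 1),
    (72, 2), (74, 2), (76, 2), (78, 1), (79, 1), (80, 2), (82, 2), (84, 1), (85, 1), (86, 2), (88, 1),
    (89, 0), (83, 1), (84, 2), (86, 1), (87, 1), (88, 1), (89, 1), (82, 1), (83, 1), (84, 2), (86, 1),
    (81, 2), (80, 1), (79, 1), (78, 1), (77, 1), (73, 1), (71, 2), (73, 2), (75, 1), (76, 1), (74, 1),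
    (75, 1), (72, 1), (70, 1), (71, 1), (72, 2), (74, 1), (67, 1), (65, 2), (67, 2), (69, 1), (70, 1),
    (68, 1), (69, 1), (66, 1), (63, 1), (64, 1), (65, 1), (66, 2), (68, 1), (59, 1), (60, 1), (61, 1),
    (58, 1), (56, 2), (58, 2), (60, 1), (61, 2), (63, 1), (64, 1), (62, 1), (63, 1), (59, 1), (60, 1),
    (54, 1), (53, 1), (54, 2), (56, 1), (57, 1), (58, 1), (59, 1), (60, 2), (62, 1), (58, 1), (56, 1),
    (57, 1), (52, 1), (53, 1), (54, 2), (56, 1), (51, 1), (50, 1), (51, 2), (49, 1), (50, 1), (49, 1),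
    (48, 1), (47, 1), (43, 1), (41, 2), (43, 2), (45, 1), (46, 1), (44, 1), (45, 1), (42, 1), (40, 1),
    (41, 1), (42, 2), (44, 1), (37, 1), (35, 2), (37, 2), (39, 1), (40, 1), (38, 1), (39, 1), (36, 1),
    (33, 1), (34, 1), (35, 1), (36, 2), (38, 1), (29, 1), (30, 1), (31, 1), (28, 1), (26, 2), (28, 2),
    (30, 1), (31, 2), (33, 1), (34, 1), (32, 1), (33, 1), (29, 1), (30, 1), (24, 1), (23, 1), (24, 2),
    (26, 1), (27, 1), (28, 1), (29, 1), (30, 2), (32, 1), (28, 1), (26, 1), (27, 1), (22, 1), (23, 1),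
    (24, 2), (26, 1), (21, 1), (20, 1), (21, 2), (19, 1), (20, 1), (19, 1), (18, 1), (17, 1), (13, 1),
    (11, 2), (13, 2), (15, 1), (16, 1), (14, 1), (15, 1), (12, 1), (10, 1), (11, 1), (12, 2), (14, 1),
    (7, 1), (5, 2), (7, 2), (9, 1), (10, 1), (8, 1), (9, 1), (6, 1), (2, 1), (3, 1), (4, 1), (5, 1), (6,
    2), (8, 1), (3, 1), (4, 1), (2, 1), (3, 1), (0, 2), (2, 1)] = true := by decide +kernel

theorem spider_move3 : sameWord (rep 10 spiderWord ++ [3]) (([2, 3, 1, 2] ++ rep 3 ([1] ++ farWord) ++ ([2, 3, 1, 2] : List ℕ).reverse) ++ ([3] ++ rep 10 spiderWord))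
    []
    [(2, 2), (4, 0), (0, 2), (2, 1), (3, 0), (65, 0), (64, 1), (65, 0), (66, 0), (65, 0), (64, 0), (62,
    1), (63, 2), (65, 1), (66, 0), (60, 1), (61, 2), (63, 1), (64, 1), (65, 0), (54, 2), (56, 1), (57,
    1), (58, 1), (59, 1), (53, 1), (54, 2), (56, 1), (57, 1), (58, 1), (59, 2), (61, 1), (62, 1), (63,
    1), (64, 0), (58, 1), (59, 1), (60, 1), (61, 2), (57, 1), (58, 1), (59, 2), (61, 1), (62, 2), (64,
    1), (65, 1), (56, 1), (57, 1), (55, 1), (53, 2), (55, 2), (57, 2), (59, 1), (60, 1), (61, 1), (62,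
    2), (64, 1), (65, 2), (67, 0), (59, 2), (61, 1), (62, 1), (63, 1), (58, 1), (59, 2), (61, 1), (62,
    1), (63, 2), (65, 1), (66, 0), (65, 0), (56, 1), (57, 1), (58, 1), (52, 1), (53, 1), (54, 2), (56,
    1), (51, 1), (52, 1), (47, 1), (48, 1), (49, 2), (51, 1), (52, 2), (54, 1), (48, 1), (49, 1), (50,
    1), (46, 2), (48, 1), (49, 1), (50, 2), (52, 1), (53, 1), (54, 2), (56, 2), (58, 2), (60, 1), (61,
    1), (62, 1), (63, 1), (64, 0), (61, 1), (62, 1), (63, 1), (64, 1), (60, 1), (61, 1), (62, 1), (59,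
    1), (57, 1), (55, 1), (56, 1), (57, 2), (59, 2), (61, 1), (62, 2), (64, 2), (66, 0), (60, 1), (61,
    1), (59, 1), (53, 1), (51, 2), (53, 2), (55, 1), (56, 1), (57, 1), (58, 1), (59, 2), (61, 2), (63,
    1), (64, 1), (62, 1), (60, 1), (43, 2), (45, 1), (46, 1), (47, 1), (48, 1), (49, 1), (50, 1), (51,
    1), (44, 1), (42, 1), (40, 1), (41, 1), (42, 2), (44, 2), (46, 1), (47, 1), (48, 1), (40, 1), (38,
    1), (39, 1), (40, 2), (42, 1), (43, 1), (44, 2), (46, 1), (47, 1), (48, 2), (50, 1), (51, 2), (53,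
    1), (54, 1), (55, 1), (56, 1), (57, 1), (58, 1), (59, 1), (60, 2), (62, 2), (64, 2), (66, 0), (65,
    1), (66, 0), (63, 1), (64, 1), (65, 1), (66, 1), (59, 1), (60, 1), (61, 2), (63, 1), (54, 1), (55,
    1), (46, 1), (47, 1), (48, 1), (49, 1), (50, 1), (51, 1), (52, 1), (53, 1), (54, 1), (55, 2), (49,
    1), (50, 1), (51, 2), (53, 1), (45, 1), (46, 1), (44, 1), (43, 1), (44, 2), (46, 2), (48, 1), (49,
    1), (47, 1), (45, 1), (39, 1), (40, 1), (41, 1), (42, 1), (43, 1), (44, 1), (45, 2), (47, 2), (49,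
    2), (51, 1), (52, 1), (53, 2), (55, 1), (56, 2), (58, 1), (59, 1), (48, 1), (44, 1), (45, 1), (46,
    2), (48, 2), (50, 1), (51, 1), (38, 1), (39, 1), (40, 2), (37, 1), (38, 2), (40, 1), (41, 2), (43,
    1), (44, 1), (36, 1), (34, 2), (36, 2), (38, 1), (39, 1), (40, 1), (41, 2), (43, 1), (44, 2), (46,
    1), (47, 1), (48, 2), (50, 1), (51, 2), (53, 1), (54, 1), (55, 1), (56, 2), (58, 1), (59, 2), (61,
    1), (62, 1), (63, 2), (65, 1), (66, 2), (68, 0), (67, 1), (68, 0), (50, 1), (51, 1), (52, 1), (53,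
    1), (54, 1), (55, 1), (56, 1), (57, 1), (58, 1), (59, 1), (60, 2), (49, 1), (47, 2), (49, 2), (51,
    1), (52, 1), (53, 1), (45, 2), (47, 1), (48, 1), (49, 2), (51, 1), (33, 1), (31, 2), (33, 2), (35,
    1), (36, 1), (37, 1), (38, 1), (39, 1), (40, 1), (41, 1), (42, 1), (43, 1), (34, 1), (32, 1), (30,
    1), (31, 1), (32, 2), (34, 2), (36, 1), (37, 1), (38, 1), (29, 1), (30, 1), (25, 1), (26, 1), (27,
    2), (29, 1), (30, 2), (32, 1), (33, 1), (34, 2), (36, 1), (26, 1), (27, 1), (28, 1), (24, 2), (26,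
    1), (27, 1), (28, 2), (30, 1), (31, 1), (32, 1), (33, 1), (34, 2), (36, 2), (38, 2), (40, 1), (41,
    1), (42, 1), (43, 2), (45, 1), (46, 1), (47, 1), (48, 1), (49, 2), (51, 2), (53, 2), (55, 1), (56,
    1), (57, 1), (58, 2), (60, 1), (61, 2), (63, 1), (64, 1), (65, 1), (66, 1), (67, 0), (59, 2), (61,
    1), (62, 1), (63, 1), (64, 1), (65, 1), (66, 0), (50, 1), (48, 2), (50, 2), (52, 1), (53, 1), (54,
    1), (55, 1), (51, 1), (49, 1), (47, 1), (48, 1), (49, 2), (51, 2), (53, 1), (54, 1), (55, 2), (57,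
    1), (58, 1), (59, 1), (60, 1), (61, 2), (63, 1), (64, 1), (65, 2), (67, 1), (68, 0), (54, 1), (55,
    1), (56, 1), (57, 1), (58, 1), (59, 1), (60, 1), (61, 1), (62, 2), (46, 1), (47, 1), (44, 2), (46,
    1), (47, 2), (49, 1), (50, 1), (51, 2), (53, 1), (54, 2), (56, 1), (57, 1), (58, 2), (60, 1), (52,
    1), (53, 1), (51, 1), (46, 1), (47, 1), (48, 1), (49, 2), (51, 2), (53, 2), (55, 1), (56, 1), (54,
    1), (48, 1), (49, 1), (45, 1), (46, 2), (48, 1), (49, 2), (51, 1), (52, 1), (35, 1), (33, 2), (35,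
    2), (37, 1), (38, 1), (39, 1), (40, 1), (36, 1), (34, 1), (32, 1), (33, 1), (34, 2), (36, 2), (38,
    1), (39, 1), (40, 2), (42, 1), (43, 1), (44, 1), (45, 1), (46, 1), (47, 1), (41, 1), (31, 1), (32,
    1), (29, 2), (31, 1), (32, 2), (34, 1), (35, 1), (36, 2), (38, 1), (39, 1), (40, 1), (41, 2), (43,
    1), (21, 2), (23, 1), (24, 1), (25, 1), (26, 1), (27, 1), (28, 1), (29, 1), (30, 1), (22, 1), (20,
    1), (18, 1), (19, 1), (20, 2), (22, 2), (24, 1), (25, 1), (26, 1), (18, 1), (16, 1), (17, 1), (18,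
    2), (20, 1), (21, 1), (22, 2), (24, 1), (25, 1), (26, 2), (28, 1), (29, 1), (30, 2), (32, 1), (33,
    1), (34, 1), (35, 1), (36, 2), (38, 1), (39, 1), (40, 1), (41, 2), (43, 2), (45, 1), (46, 1), (47,
    2), (49, 1), (50, 1), (51, 1), (52, 2), (54, 2), (56, 2), (58, 1), (59, 1), (60, 2), (62, 1), (63,
    2), (65, 1), (66, 1), (67, 0), (61, 2), (63, 1), (64, 1), (65, 1), (66, 0), (59, 1), (60, 1), (61,
    1), (62, 1), (63, 2), (57, 2), (59, 1), (60, 1), (61, 2), (63, 1), (64, 2), (66, 1), (67, 1), (55,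
    1), (56, 1), (51, 1), (52, 1), (53, 2), (50, 1), (51, 1), (48, 2), (50, 1), (51, 2), (53, 1), (54,
    2), (56, 2), (58, 1), (59, 1), (57, 1), (52, 2), (54, 1), (55, 1), (37, 1), (38, 1), (39, 1), (40,
    1), (36, 1), (37, 1), (38, 1), (35, 1), (36, 1), (29, 1), (30, 1), (31, 1), (32, 1), (33, 2), (35,
    1), (36, 2), (38, 2), (40, 2), (42, 1), (43, 1), (44, 1), (45, 1), (46, 1), (47, 1), (48, 1), (49,
    1), (50, 1), (41, 1), (39, 1), (37, 1), (38, 1), (39, 2), (41, 2), (43, 1), (44, 1), (45, 1), (32,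
    1), (33, 1), (24, 1), (25, 1), (26, 1), (27, 1), (28, 1), (29, 1), (30, 1), (31, 1), (32, 1), (33,
    2), (27, 1), (28, 1), (29, 2), (31, 1), (23, 1), (24, 1), (22, 1), (21, 1), (22, 2), (24, 2), (26,
    1), (27, 1), (25, 1), (23, 1), (17, 1), (18, 1), (19, 1), (20, 1), (21, 1), (22, 1), (23, 2), (25,
    2), (27, 2), (29, 1), (30, 1), (31, 2), (33, 1), (34, 2), (36, 1), (37, 1), (26, 1), (22, 1), (23,
    1), (24, 2), (26, 2), (28, 1), (29, 1), (16, 1), (17, 1), (18, 2), (15, 1), (16, 2), (18, 1), (19,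
    2), (21, 1), (22, 1), (14, 1), (12, 2), (14, 2), (16, 1), (17, 1), (18, 1), (19, 2), (21, 1), (22,
    2), (24, 1), (25, 1), (26, 2), (28, 1), (29, 2), (31, 1), (32, 1), (33, 1), (34, 2), (36, 1), (37,
    2), (39, 1), (40, 1), (41, 2), (43, 1), (44, 1), (45, 2), (47, 1), (48, 1), (49, 1), (50, 2), (52,
    1), (53, 1), (54, 1), (55, 2), (57, 2), (59, 2), (61, 1), (62, 1), (63, 1), (64, 2), (66, 1), (67,
    2), (69, 0), (61, 2), (63, 1), (64, 1), (65, 1), (60, 1), (61, 2), (63, 1), (64, 1), (65, 2), (67,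
    1), (68, 0), (67, 0), (64, 1), (65, 1), (66, 1), (67, 1), (68, 1), (63, 1), (64, 1), (65, 1), (66,
    1), (62, 1), (60, 2), (62, 2), (58, 1), (59, 1), (60, 1), (54, 1), (55, 1), (56, 2), (53, 1), (54,
    1), (51, 2), (53, 1), (54, 2), (56, 1), (57, 2), (59, 1), (60, 2), (62, 1), (63, 2), (65, 1), (66,
    2), (68, 2), (70, 0), (61, 2), (63, 1), (64, 1), (65, 1), (60, 1), (61, 2), (63, 1), (55, 2), (57,
    1), (58, 1), (59, 1), (54, 1), (55, 2), (57, 1), (43, 1), (44, 1), (45, 1), (46, 1), (47, 1), (42,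
    1), (43, 1), (41, 1), (40, 1), (41, 2), (43, 2), (45, 1), (46, 1), (47, 2), (49, 1), (50, 1), (51,
    1), (52, 1), (53, 1), (54, 1), (55, 2), (57, 2), (59, 2), (61, 1), (62, 1), (63, 2), (65, 2), (67,
    1), (68, 1), (69, 2), (71, 1), (72, 0), (66, 1), (67, 2), (69, 1), (70, 1), (71, 1), (72, 1), (73,
    2), (75, 1), (76, 0), (70, 1), (71, 1), (72, 1), (73, 1), (74, 1), (69, 1), (70, 1), (52, 1), (53,
    1), (54, 1), (55, 1), (56, 1), (57, 1), (58, 1), (59, 1), (60, 2), (51, 1), (40, 1), (41, 1), (42,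
    1), (43, 1), (44, 2), (46, 1), (47, 1), (48, 1), (49, 2), (51, 2), (53, 1), (54, 1), (47, 1), (38,
    2), (40, 1), (41, 1), (42, 2), (44, 1), (45, 1), (46, 1), (47, 2), (49, 1), (50, 1), (51, 2), (53,
    1), (54, 2), (56, 1), (57, 1), (58, 2), (60, 1), (61, 2), (63, 1), (64, 1), (65, 1), (66, 1), (67,
    2), (69, 1), (70, 2), (72, 1), (73, 1), (74, 2), (76, 0), (59, 2), (61, 1), (62, 1), (63, 1), (64,
    1), (65, 1), (66, 1), (67, 2), (69, 1), (58, 1), (59, 2), (61, 1), (62, 1), (63, 1), (64, 1), (65,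
    2), (67, 1), (62, 1), (63, 1), (57, 1), (58, 1), (59, 2), (61, 1), (44, 1), (45, 1), (46, 1), (47,
    1), (43, 1), (44, 1), (45, 1), (42, 1), (43, 1), (31, 2), (33, 1), (34, 1), (35, 1), (30, 1), (31,
    2), (33, 1), (34, 1), (35, 2), (37, 1), (38, 1), (39, 1), (40, 2), (42, 1), (43, 2), (45, 2), (47,
    2), (49, 1), (50, 1), (51, 1), (52, 1), (53, 1), (54, 1), (55, 1), (56, 1), (57, 1), (58, 1), (59,
    2), (61, 2), (63, 2), (65, 1), (66, 1), (67, 2), (69, 2), (71, 1), (72, 1), (73, 1), (74, 1), (75,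
    2), (77, 1), (78, 0), (72, 1), (73, 1), (74, 1), (75, 1), (76, 1), (71, 1), (72, 1), (70, 1), (68,
    1), (52, 1), (53, 1), (51, 1), (49, 2), (51, 2), (53, 2), (55, 1), (56, 1), (57, 1), (58, 1), (59,
    1), (60, 1), (61, 1), (54, 1), (55, 1), (52, 1), (53, 1), (50, 1), (51, 1), (42, 1), (43, 1), (44,
    1), (45, 1), (46, 1), (47, 1), (48, 1), (49, 1), (50, 1), (51, 2), (53, 2), (55, 2), (57, 1), (58,
    1), (45, 1), (46, 2), (48, 1), (49, 1), (50, 1), (51, 1), (43, 1), (44, 1), (45, 1), (46, 2), (48,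
    1), (39, 1), (40, 1), (36, 1), (37, 2), (39, 1), (40, 2), (42, 1), (43, 1), (44, 1), (29, 1), (30,
    1), (31, 2), (33, 1), (34, 1), (35, 2), (37, 1), (38, 1), (39, 1), (40, 2), (42, 1), (28, 1), (29,
    1), (30, 1), (31, 1), (32, 1), (33, 1), (27, 1), (28, 1), (26, 1), (24, 1), (11, 1), (9, 2), (11,
    2), (13, 1), (14, 1), (15, 1), (16, 1), (17, 1), (18, 1), (19, 1), (20, 1), (21, 1), (22, 1), (23,
    1), (24, 2), (26, 2), (28, 2), (30, 1), (31, 1), (32, 1), (33, 2), (35, 1), (36, 1), (37, 1), (38,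
    1), (39, 1), (40, 2), (42, 2), (44, 2), (46, 1), (47, 1), (48, 2), (50, 1), (51, 2), (53, 1), (54,
    1), (55, 2), (57, 1), (58, 2), (60, 1), (61, 2), (63, 1), (64, 1), (65, 1), (66, 1), (67, 1), (68,
    2), (70, 2), (72, 2), (74, 1), (75, 1), (76, 2), (78, 0), (75, 1), (76, 1), (77, 1), (78, 1), (79,
    1), (80, 1), (74, 1), (75, 1), (73, 1), (57, 1), (58, 1), (56, 1), (54, 2), (56, 2), (58, 2), (60,
    1), (61, 1), (62, 1), (63, 1), (64, 1), (65, 1), (66, 1), (67, 1), (68, 1), (69, 1), (70, 1), (71,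
    2), (73, 2), (75, 2), (77, 1), (78, 1), (70, 1), (71, 1), (59, 1), (60, 1), (57, 1), (58, 1), (55,
    1), (56, 1), (47, 1), (48, 1), (49, 1), (50, 1), (51, 1), (52, 1), (53, 1), (54, 1), (55, 1), (56,
    2), (58, 2), (60, 2), (62, 1), (63, 1), (51, 2), (53, 1), (54, 1), (55, 1), (56, 1), (50, 1), (51,
    2), (53, 1), (45, 2), (47, 1), (48, 1), (49, 1), (44, 1), (45, 2), (47, 1), (31, 1), (32, 1), (33,
    1), (34, 1), (35, 1), (36, 1), (30, 1), (31, 1), (32, 1), (29, 1), (30, 1), (28, 1), (15, 2), (17,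
    1), (18, 1), (19, 1), (14, 1), (15, 2), (17, 1), (18, 1), (19, 2), (21, 1), (22, 1), (23, 1), (24,
    1), (25, 1), (26, 1), (27, 1), (28, 2), (30, 2), (32, 2), (34, 1), (35, 1), (36, 2), (38, 1), (39,
    1), (40, 1), (41, 1), (42, 1), (43, 1), (44, 1), (45, 2), (47, 2), (49, 2), (51, 1), (52, 1), (53,
    2), (55, 1), (56, 2), (58, 1), (59, 1), (60, 2), (62, 1), (63, 2), (65, 1), (66, 1), (67, 1), (68,
    2), (70, 1), (71, 2), (73, 1), (74, 1), (75, 2), (77, 1), (78, 2), (80, 2), (82, 0), (79, 1), (62,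
    1), (63, 1), (61, 1), (59, 2), (61, 2), (63, 2), (65, 1), (66, 1), (67, 1), (68, 1), (69, 1), (70,
    1), (71, 1), (72, 1), (64, 1), (65, 1), (62, 1), (57, 2), (59, 1), (60, 1), (61, 1), (62, 2), (64,
    1), (65, 2), (67, 1), (68, 1), (69, 1), (59, 1), (60, 1), (56, 1), (57, 2), (59, 1), (60, 2), (62,
    1), (63, 1), (64, 1), (65, 2), (67, 1), (54, 2), (56, 1), (57, 1), (58, 1), (59, 1), (60, 1), (61,
    2), (63, 1), (53, 1), (54, 2), (56, 1), (57, 1), (58, 1), (59, 2), (61, 1), (46, 1), (44, 2), (46,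
    2), (48, 1), (49, 1), (50, 1), (51, 1), (52, 1), (53, 1), (54, 1), (55, 2), (57, 1), (47, 1), (45,
    1), (43, 1), (44, 1), (45, 2), (47, 2), (49, 1), (50, 1), (51, 1), (52, 1), (53, 2), (55, 1), (40,
    1), (38, 2), (40, 2), (42, 1), (43, 1), (44, 1), (45, 1), (46, 1), (47, 1), (48, 2), (50, 1), (51,
    1), (41, 1), (42, 1), (39, 1), (37, 1), (38, 1), (39, 2), (41, 1), (42, 2), (44, 1), (45, 1), (46,
    2), (48, 1), (49, 1), (44, 1), (36, 1), (37, 1), (38, 1), (39, 2), (41, 1), (42, 2), (44, 2), (46,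
    1), (47, 1), (35, 1), (36, 1), (37, 1), (38, 1), (39, 1), (40, 1), (41, 1), (42, 1), (34, 1), (35,
    1), (31, 1), (32, 2), (34, 1), (35, 2), (37, 1), (38, 1), (39, 1), (30, 2), (32, 1), (33, 1), (34,
    1), (35, 2), (37, 1), (29, 1), (30, 1), (31, 2), (33, 1), (28, 1), (29, 2), (31, 1), (24, 1), (25,
    2), (27, 1), (23, 2), (25, 1), (21, 2), (23, 1), (24, 1), (25, 2), (27, 2), (29, 1), (30, 1), (31,
    2), (33, 2), (35, 1), (36, 1), (37, 2), (39, 2), (41, 1), (42, 2), (44, 1), (45, 1), (46, 1), (47,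
    2), (49, 2), (51, 2), (53, 1), (54, 1), (55, 2), (57, 2), (59, 1), (60, 1), (61, 2), (63, 2), (65,
    1), (66, 1), (67, 2), (69, 2), (71, 1), (72, 2), (74, 1), (75, 1), (76, 1), (77, 2), (79, 2), (81,
    0), (76, 1), (77, 1), (78, 1), (79, 1), (80, 1), (81, 1), (82, 1), (75, 1), (76, 1), (73, 2), (75,
    1), (76, 2), (78, 1), (79, 1), (80, 1), (72, 1), (73, 2), (75, 1), (76, 2), (70, 2), (72, 1), (73,
    1), (74, 1), (69, 1), (70, 2), (72, 1), (68, 1), (46, 1), (47, 1), (48, 1), (49, 1), (45, 1), (46,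
    1), (43, 2), (45, 1), (46, 2), (48, 1), (49, 2), (51, 1), (52, 1), (53, 1), (54, 1), (42, 1), (43,
    2), (45, 1), (46, 2), (48, 1), (49, 2), (51, 1), (52, 1), (40, 2), (42, 1), (43, 1), (44, 1), (39,
    1), (40, 2), (42, 1), (38, 1), (18, 1), (19, 1), (17, 1), (18, 1), (19, 2), (21, 1), (22, 1), (23,
    1), (24, 1), (16, 1), (14, 2), (16, 2), (18, 1), (19, 2), (21, 1), (22, 1), (12, 1), (13, 1), (14,
    1), (10, 1), (8, 1), (9, 1), (10, 2), (7, 1), (8, 1), (3, 1), (4, 1), (5, 2), (7, 1), (8, 2), (10,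
    1), (11, 2), (13, 1), (14, 2), (16, 1), (17, 1), (18, 1), (19, 2), (21, 1), (22, 2), (24, 2), (26,
    1), (27, 1), (28, 1), (29, 1), (30, 1), (31, 1), (32, 1), (33, 1), (34, 2), (36, 2), (38, 2), (40,
    1), (41, 1), (42, 2), (44, 2), (46, 1), (47, 1), (48, 1), (49, 2), (51, 1), (52, 2), (54, 2), (56,
    1), (57, 1), (58, 1), (59, 1), (60, 1), (61, 1), (62, 1), (63, 1), (64, 2), (66, 2), (68, 2), (70,
    1), (71, 1), (72, 2), (74, 2), (76, 1), (77, 2), (79, 1), (80, 2), (82, 2), (84, 0), (75, 2), (77,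
    1), (78, 1), (79, 1), (74, 1), (75, 2), (77, 1), (73, 1), (51, 1), (52, 1), (53, 1), (54, 1), (50,
    1), (48, 2), (50, 2), (52, 1), (53, 1), (54, 2), (56, 1), (57, 1), (58, 1), (59, 1), (51, 1), (49,
    1), (47, 1), (48, 1), (49, 2), (51, 2), (53, 1), (54, 2), (56, 1), (57, 1), (45, 2), (47, 1), (48,
    1), (49, 1), (44, 1), (45, 2), (43, 1), (21, 1), (22, 1), (23, 1), (24, 1), (20, 1), (18, 2), (20,
    2), (22, 1), (23, 1), (24, 2), (26, 1), (27, 1), (28, 1), (29, 1), (21, 1), (19, 1), (17, 1), (18,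
    1), (19, 2), (21, 2), (23, 1), (24, 2), (26, 1), (27, 1), (15, 2), (17, 1), (18, 1), (19, 1), (14,
    1), (15, 2), (9, 2), (11, 1), (12, 1), (13, 1), (8, 1), (9, 2), (11, 1), (4, 1), (5, 1), (6, 1), (7,
    1), (8, 1), (9, 2), (11, 2), (13, 2), (15, 1), (16, 2), (18, 1), (19, 2), (21, 1), (22, 1), (23, 1),
    (24, 2), (26, 1), (27, 2), (29, 2), (31, 1), (32, 1), (33, 1), (34, 1), (35, 1), (36, 1), (37, 1),
    (38, 1), (39, 2), (41, 2), (43, 2), (45, 1), (46, 2), (48, 1), (49, 2), (51, 1), (52, 1), (53, 1),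
    (54, 2), (56, 1), (57, 2), (59, 2), (61, 1), (62, 1), (63, 1), (64, 1), (65, 1), (66, 1), (67, 1),
    (68, 1), (69, 2), (71, 2), (73, 2), (75, 1), (76, 1), (77, 2), (79, 2), (81, 1), (82, 1), (83, 2),
    (85, 1), (86, 0), (80, 1), (81, 2), (83, 1), (84, 1), (85, 1), (86, 1), (87, 2), (89, 1), (79, 1),
    (80, 1), (81, 2), (83, 1), (78, 2), (77, 1), (76, 1), (75, 1), (74, 1), (70, 1), (68, 2), (70, 2),
    (72, 1), (73, 1), (71, 1), (72, 1), (69, 1), (67, 1), (68, 1), (69, 2), (71, 1), (64, 1), (62, 2),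
    (64, 2), (66, 1), (67, 1), (65, 1), (66, 1), (63, 1), (60, 1), (61, 1), (62, 1), (63, 2), (65, 1),
    (56, 1), (57, 1), (58, 1), (55, 1), (53, 2), (55, 2), (57, 1), (58, 2), (60, 1), (61, 1), (59, 1),
    (60, 1), (56, 1), (57, 1), (51, 1), (50, 1), (51, 2), (53, 1), (54, 1), (55, 1), (56, 1), (57, 2),
    (59, 1), (55, 1), (53, 1), (54, 1), (49, 1), (50, 1), (51, 2), (53, 1), (48, 1), (47, 1), (48, 2),
    (46, 1), (47, 1), (46, 1), (45, 1), (44, 1), (40, 1), (38, 2), (40, 2), (42, 1), (43, 1), (41, 1),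
    (42, 1), (39, 1), (37, 1), (38, 1), (39, 2), (41, 1), (34, 1), (32, 2), (34, 2), (36, 1), (37, 1),
    (35, 1), (36, 1), (33, 1), (30, 1), (31, 1), (32, 1), (33, 2), (35, 1), (26, 1), (27, 1), (28, 1),
    (25, 1), (23, 2), (25, 2), (27, 1), (28, 2), (30, 1), (31, 1), (29, 1), (30, 1), (26, 1), (27, 1),
    (21, 1), (20, 1), (21, 2), (23, 1), (24, 1), (25, 1), (26, 1), (27, 2), (29, 1), (25, 1), (23, 1),
    (24, 1), (19, 1), (20, 1), (21, 2), (23, 1), (18, 1), (17, 1), (18, 2), (16, 1), (17, 1), (16, 1),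
    (15, 1), (14, 1), (10, 1), (8, 2), (10, 2), (12, 1), (13, 1), (11, 1), (12, 1), (9, 1), (7, 1), (8,
    1), (9, 2), (11, 1), (6, 1), (7, 1), (5, 1), (6, 1), (3, 2), (5, 1)] = true := by decide +kernel

theorem spider_move4 : sameWord (rep 10 spiderWord ++ [4]) (([4] ++ rep 10 spiderWord))
    []
    [(78, 1), (79, 1), (80, 1), (81, 1), (82, 1), (83, 1), (84, 1), (85, 2), (76, 2), (78, 1), (79, 1),
    (63, 1), (64, 1), (65, 1), (66, 1), (67, 1), (68, 1), (69, 1), (70, 2), (61, 2), (63, 1), (64, 1),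
    (48, 1), (49, 1), (50, 1), (51, 1), (52, 1), (53, 1), (54, 1), (55, 2), (46, 2), (48, 1), (49, 1),
    (33, 1), (34, 1), (35, 1), (36, 1), (37, 1), (38, 1), (39, 1), (40, 2), (31, 2), (33, 1), (34, 1),
    (18, 1), (19, 1), (20, 1), (21, 1), (22, 1), (23, 1), (24, 1), (25, 2), (16, 2), (18, 1), (19, 1),
    (3, 1), (4, 1), (5, 1), (6, 1), (7, 1), (8, 1), (9, 1), (10, 2), (1, 2), (3, 1), (4, 1), (0, 1), (1,
    2), (3, 1), (4, 2), (6, 1), (7, 1), (8, 2), (10, 1), (11, 2), (13, 1), (14, 1), (15, 1), (16, 2),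
    (18, 1), (19, 2), (21, 1), (22, 1), (23, 2), (25, 1), (26, 2), (28, 1), (29, 1), (30, 1), (31, 2),
    (33, 1), (34, 2), (36, 1), (37, 1), (38, 2), (40, 1), (41, 2), (43, 1), (44, 1), (45, 1), (46, 2),
    (48, 1), (49, 2), (51, 1), (52, 1), (53, 2), (55, 1), (56, 2), (58, 1), (59, 1), (60, 1), (61, 2),
    (63, 1), (64, 2), (66, 1), (67, 1), (68, 2), (70, 1), (71, 2), (73, 1), (74, 1), (75, 1), (76, 2),
    (78, 1), (79, 2), (81, 1), (82, 1), (83, 2), (85, 1), (86, 2), (88, 1), (89, 1), (84, 2), (83, 1),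
    (82, 1), (81, 1), (80, 1), (78, 1), (79, 1), (77, 1), (78, 1), (75, 2), (77, 1), (69, 2), (68, 1),
    (67, 1), (66, 1), (65, 1), (63, 1), (64, 1), (62, 1), (63, 1), (60, 2), (62, 1), (54, 2), (53, 1),
    (52, 1), (51, 1), (50, 1), (48, 1), (49, 1), (47, 1), (48, 1), (45, 2), (47, 1), (39, 2), (38, 1),
    (37, 1), (36, 1), (35, 1), (33, 1), (34, 1), (32, 1), (33, 1), (30, 2), (32, 1), (24, 2), (23, 1),
    (22, 1), (21, 1), (20, 1), (18, 1), (19, 1), (17, 1), (18, 1), (15, 2), (17, 1), (9, 2), (8, 1), (7,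
    1), (6, 1), (5, 1), (3, 1), (4, 1), (2, 1), (3, 1), (0, 2), (2, 1)] = true := by decide +kernel

theorem spider_move5 : sameWord (rep 10 spiderWord ++ [5]) (([4, 5, 3, 4, 2, 3, 1, 2] ++ rep 3 ([1] ++ farWord).reverse ++ ([4, 5, 3, 4, 2, 3, 1, 2] : List ℕ).reverse) ++ ([5] ++ rep 10 spiderWord))
    [(86, 1), (87, 1), (88, 1), (89, 0)]
    [(7, 0), (5, 1), (6, 0), (3, 1), (4, 1), (5, 1), (6, 0), (1, 1), (2, 1), (3, 1), (4, 1), (5, 0),
    (64, 2), (66, 0), (63, 1), (64, 2), (66, 0), (61, 1), (62, 1), (63, 1), (64, 2), (66, 0), (60, 1),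
    (61, 1), (62, 1), (63, 1), (64, 2), (66, 0), (65, 0), (63, 2), (65, 1), (66, 1), (62, 1), (63, 2),
    (65, 1), (66, 2), (68, 0), (67, 1), (68, 0), (60, 1), (61, 1), (59, 1), (58, 1), (59, 2), (61, 2),
    (63, 1), (64, 1), (65, 1), (66, 1), (67, 0), (53, 2), (55, 1), (56, 1), (57, 1), (58, 1), (59, 1),
    (52, 1), (53, 2), (55, 1), (56, 1), (51, 1), (52, 1), (53, 2), (55, 1), (56, 2), (58, 1), (59, 2),
    (61, 1), (62, 1), (63, 1), (64, 1), (65, 1), (66, 0), (55, 1), (56, 1), (57, 1), (58, 1), (59, 1),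
    (60, 1), (61, 2), (63, 1), (64, 1), (54, 1), (52, 2), (54, 2), (56, 1), (57, 1), (58, 1), (59, 2),
    (61, 1), (56, 1), (57, 1), (55, 1), (53, 1), (51, 1), (52, 1), (53, 2), (55, 2), (57, 2), (59, 1),
    (60, 1), (61, 2), (63, 1), (64, 2), (66, 0), (60, 1), (61, 1), (62, 1), (58, 2), (60, 1), (61, 1),
    (62, 2), (64, 1), (65, 0), (64, 0), (61, 1), (62, 1), (60, 1), (61, 1), (62, 2), (64, 0), (56, 1),
    (57, 1), (49, 2), (51, 1), (52, 1), (53, 1), (54, 2), (51, 1), (52, 1), (46, 1), (47, 1), (48, 1),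
    (49, 2), (51, 1), (52, 2), (54, 1), (55, 2), (57, 2), (59, 1), (60, 1), (61, 1), (62, 1), (63, 2),
    (65, 1), (66, 0), (60, 1), (61, 1), (58, 1), (59, 1), (53, 2), (55, 1), (56, 1), (57, 1), (46, 2),
    (48, 1), (49, 1), (50, 1), (51, 1), (45, 1), (46, 2), (48, 1), (49, 1), (50, 1), (51, 2), (53, 1),
    (54, 1), (55, 1), (56, 1), (57, 2), (59, 2), (61, 2), (63, 1), (64, 1), (65, 0), (60, 1), (54, 1),
    (42, 2), (44, 1), (45, 1), (46, 1), (47, 1), (48, 1), (43, 1), (44, 1), (41, 1), (42, 1), (39, 1),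
    (40, 1), (38, 1), (39, 1), (40, 2), (42, 2), (44, 2), (46, 1), (47, 1), (48, 2), (50, 1), (51, 1),
    (52, 1), (53, 1), (54, 2), (56, 1), (57, 1), (58, 2), (60, 2), (62, 1), (63, 1), (64, 1), (53, 1),
    (54, 1), (55, 1), (56, 1), (49, 1), (50, 1), (51, 2), (53, 1), (38, 1), (39, 1), (40, 1), (37, 1),
    (36, 1), (37, 2), (39, 1), (40, 2), (42, 1), (43, 1), (44, 2), (46, 1), (47, 1), (48, 1), (49, 2),
    (51, 1), (52, 1), (53, 2), (55, 1), (56, 2), (58, 1), (59, 1), (60, 2), (62, 1), (63, 1), (64, 2),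
    (66, 0), (65, 1), (66, 0), (46, 1), (47, 1), (48, 1), (49, 1), (50, 1), (51, 1), (52, 1), (53, 1),
    (54, 1), (45, 1), (46, 1), (47, 1), (44, 1), (45, 1), (42, 1), (43, 1), (39, 1), (40, 1), (41, 1),
    (42, 1), (43, 2), (45, 2), (47, 2), (49, 1), (50, 1), (36, 1), (37, 1), (38, 1), (39, 1), (40, 2),
    (42, 1), (43, 1), (34, 2), (36, 1), (37, 1), (38, 2), (40, 1), (36, 1), (33, 1), (34, 2), (36, 2),
    (38, 1), (39, 1), (40, 2), (42, 1), (43, 2), (45, 1), (46, 1), (47, 2), (49, 1), (50, 2), (52, 1),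
    (53, 1), (54, 2), (56, 1), (57, 1), (58, 1), (59, 1), (60, 2), (62, 1), (63, 1), (64, 1), (65, 0),
    (61, 1), (62, 1), (63, 1), (64, 0), (60, 1), (61, 1), (62, 1), (59, 1), (58, 1), (59, 2), (61, 1),
    (62, 2), (64, 1), (65, 1), (49, 1), (50, 1), (51, 1), (52, 1), (53, 1), (54, 1), (55, 1), (56, 2),
    (48, 1), (46, 2), (48, 2), (50, 1), (51, 1), (52, 1), (53, 1), (54, 2), (56, 1), (57, 2), (59, 1),
    (60, 1), (61, 1), (62, 2), (64, 1), (65, 2), (67, 1), (68, 1), (51, 1), (52, 1), (53, 1), (54, 1),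
    (55, 1), (56, 1), (57, 1), (58, 2), (60, 1), (50, 1), (51, 1), (49, 1), (47, 1), (32, 1), (33, 1),
    (31, 1), (29, 2), (31, 2), (33, 2), (35, 1), (36, 1), (37, 1), (38, 1), (39, 1), (40, 1), (41, 1),
    (42, 1), (43, 1), (44, 1), (45, 1), (46, 1), (47, 2), (49, 2), (51, 2), (53, 1), (54, 1), (55, 1),
    (56, 2), (58, 1), (50, 1), (43, 2), (45, 1), (46, 1), (47, 1), (48, 2), (50, 2), (52, 1), (53, 1),
    (54, 1), (45, 1), (46, 1), (34, 1), (32, 1), (27, 2), (29, 1), (30, 1), (31, 1), (32, 2), (34, 2),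
    (36, 1), (37, 1), (29, 1), (30, 1), (24, 1), (25, 1), (26, 1), (27, 2), (29, 1), (30, 2), (32, 1),
    (33, 1), (34, 2), (36, 1), (37, 2), (39, 1), (40, 1), (41, 1), (42, 1), (43, 2), (45, 1), (46, 2),
    (48, 1), (49, 1), (50, 2), (52, 1), (36, 1), (37, 1), (38, 1), (39, 1), (35, 1), (33, 2), (35, 2),
    (37, 1), (38, 1), (39, 2), (41, 1), (42, 1), (43, 1), (44, 1), (40, 1), (31, 2), (33, 1), (34, 1),
    (35, 2), (37, 1), (38, 1), (24, 2), (26, 1), (27, 1), (28, 1), (29, 1), (23, 1), (24, 2), (26, 1),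
    (27, 1), (28, 1), (29, 2), (31, 1), (32, 1), (33, 1), (34, 1), (35, 2), (37, 1), (38, 2), (40, 2),
    (42, 1), (43, 1), (44, 2), (46, 1), (47, 1), (48, 1), (49, 1), (50, 2), (52, 2), (54, 2), (56, 1),
    (57, 1), (58, 2), (60, 2), (62, 1), (63, 1), (64, 1), (65, 2), (67, 1), (68, 2), (70, 0), (69, 1),
    (70, 0), (51, 1), (49, 2), (51, 2), (53, 1), (54, 1), (55, 1), (56, 1), (57, 1), (58, 1), (59, 1),
    (60, 1), (61, 2), (63, 1), (52, 1), (50, 1), (48, 1), (49, 1), (50, 2), (52, 2), (54, 1), (55, 1),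
    (47, 1), (48, 1), (45, 2), (47, 1), (48, 2), (50, 1), (51, 1), (52, 2), (54, 1), (55, 2), (57, 1),
    (58, 1), (59, 2), (61, 1), (57, 1), (36, 1), (37, 1), (35, 1), (34, 1), (35, 2), (37, 2), (39, 1),
    (40, 1), (41, 1), (42, 1), (43, 1), (44, 1), (45, 1), (46, 1), (38, 1), (36, 1), (20, 2), (22, 1),
    (23, 1), (24, 1), (25, 1), (26, 1), (21, 1), (22, 1), (19, 1), (20, 1), (17, 1), (18, 1), (16, 1),
    (17, 1), (18, 2), (20, 2), (22, 2), (24, 1), (25, 1), (26, 2), (28, 1), (29, 1), (30, 1), (31, 1),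
    (32, 2), (34, 1), (35, 1), (36, 2), (38, 2), (40, 1), (41, 1), (42, 1), (31, 1), (32, 1), (33, 1),
    (34, 1), (27, 1), (28, 1), (29, 2), (31, 1), (16, 1), (17, 1), (18, 1), (15, 1), (14, 1), (15, 2),
    (17, 1), (18, 2), (20, 1), (21, 1), (22, 2), (24, 1), (25, 1), (26, 1), (27, 2), (29, 1), (30, 1),
    (31, 2), (33, 1), (34, 2), (36, 1), (37, 1), (38, 2), (40, 1), (41, 1), (42, 2), (44, 1), (45, 1),
    (46, 2), (48, 1), (49, 1), (50, 1), (51, 1), (52, 2), (54, 1), (55, 2), (57, 2), (59, 1), (60, 1),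
    (61, 2), (63, 2), (65, 1), (66, 1), (67, 1), (68, 1), (69, 0), (60, 1), (61, 1), (58, 2), (60, 1),
    (61, 2), (63, 1), (64, 1), (65, 1), (66, 1), (67, 1), (68, 0), (53, 1), (54, 1), (52, 1), (50, 2),
    (52, 2), (54, 2), (56, 1), (57, 1), (58, 1), (59, 1), (60, 1), (61, 1), (62, 1), (63, 2), (65, 1),
    (66, 1), (55, 1), (56, 1), (53, 1), (48, 2), (50, 1), (51, 1), (52, 1), (53, 2), (50, 1), (51, 1),
    (47, 1), (48, 2), (50, 1), (51, 2), (53, 1), (54, 2), (56, 2), (58, 1), (59, 1), (60, 1), (61, 2),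
    (63, 1), (58, 1), (59, 1), (57, 1), (55, 1), (45, 1), (46, 1), (47, 1), (48, 1), (49, 1), (44, 1),
    (45, 1), (43, 1), (24, 1), (25, 1), (26, 1), (27, 1), (28, 1), (29, 1), (30, 1), (31, 1), (32, 1),
    (23, 1), (24, 1), (25, 1), (22, 1), (23, 1), (20, 1), (21, 1), (17, 1), (18, 1), (19, 1), (20, 1),
    (21, 2), (23, 2), (25, 2), (27, 1), (28, 1), (14, 1), (15, 1), (16, 1), (17, 1), (18, 2), (20, 1),
    (21, 1), (12, 2), (14, 1), (15, 1), (16, 2), (18, 1), (14, 1), (11, 1), (12, 2), (14, 2), (16, 1),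
    (17, 1), (18, 2), (20, 1), (21, 2), (23, 1), (24, 1), (25, 2), (27, 1), (28, 2), (30, 1), (31, 1),
    (32, 2), (34, 1), (35, 1), (36, 1), (37, 1), (38, 2), (40, 1), (41, 1), (42, 1), (43, 2), (45, 2),
    (47, 1), (48, 1), (49, 2), (51, 1), (52, 1), (53, 1), (54, 1), (55, 2), (57, 2), (59, 2), (61, 1),
    (62, 1), (63, 2), (65, 1), (66, 2), (68, 0), (62, 1), (63, 1), (64, 1), (60, 2), (62, 1), (63, 1),
    (64, 2), (66, 1), (67, 0), (66, 0), (63, 1), (64, 1), (62, 1), (63, 1), (64, 2), (66, 0), (58, 1),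
    (59, 1), (51, 2), (53, 1), (54, 1), (55, 1), (56, 2), (53, 1), (54, 1), (50, 1), (51, 2), (53, 1),
    (54, 2), (56, 1), (57, 2), (59, 2), (61, 1), (62, 1), (63, 1), (64, 1), (65, 2), (67, 1), (68, 0),
    (60, 1), (58, 1), (48, 1), (49, 1), (50, 1), (51, 1), (52, 1), (47, 1), (48, 1), (46, 1), (44, 1),
    (45, 1), (46, 2), (48, 2), (50, 1), (51, 1), (52, 2), (54, 1), (55, 1), (56, 1), (57, 1), (58, 2),
    (60, 2), (62, 1), (63, 2), (65, 1), (66, 1), (67, 1), (68, 1), (69, 2), (71, 1), (72, 0), (66, 1),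
    (67, 1), (68, 1), (69, 1), (70, 1), (65, 1), (66, 1), (61, 1), (62, 1), (63, 2), (65, 1), (66, 2),
    (68, 1), (69, 1), (70, 2), (72, 0), (60, 1), (61, 2), (63, 1), (64, 1), (65, 1), (66, 2), (68, 1),
    (69, 1), (70, 2), (72, 1), (73, 1), (59, 1), (60, 1), (61, 1), (62, 2), (64, 1), (58, 1), (59, 1),
    (60, 2), (62, 1), (57, 1), (58, 1), (56, 1), (39, 1), (40, 1), (41, 1), (42, 1), (43, 1), (44, 1),
    (45, 1), (38, 1), (39, 1), (40, 1), (37, 1), (36, 1), (37, 2), (39, 1), (40, 2), (42, 1), (43, 1),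
    (27, 1), (28, 1), (29, 1), (30, 1), (31, 1), (32, 1), (33, 1), (34, 2), (26, 1), (24, 2), (26, 2),
    (28, 1), (29, 1), (30, 1), (31, 1), (32, 2), (34, 1), (35, 2), (37, 1), (38, 1), (39, 1), (40, 2),
    (42, 1), (43, 2), (45, 2), (47, 1), (48, 1), (49, 1), (50, 1), (51, 1), (52, 1), (53, 1), (54, 2),
    (56, 2), (58, 2), (60, 1), (61, 1), (62, 2), (64, 2), (66, 1), (67, 1), (68, 1), (69, 1), (70, 2),
    (72, 1), (73, 2), (75, 1), (76, 1), (77, 2), (79, 1), (80, 0), (72, 1), (73, 1), (74, 1), (75, 1),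
    (76, 1), (77, 1), (78, 1), (71, 1), (69, 2), (71, 2), (73, 1), (74, 1), (55, 1), (53, 2), (55, 2),
    (57, 1), (58, 1), (59, 1), (60, 1), (61, 1), (62, 1), (63, 1), (64, 1), (65, 2), (67, 1), (56, 1),
    (54, 1), (42, 1), (43, 1), (44, 1), (45, 1), (46, 1), (47, 1), (48, 2), (50, 1), (51, 1), (52, 1),
    (53, 1), (54, 2), (56, 2), (58, 1), (59, 1), (51, 1), (52, 1), (41, 1), (39, 2), (41, 2), (43, 1),
    (44, 1), (45, 1), (46, 2), (48, 1), (49, 1), (44, 1), (42, 1), (29, 1), (30, 1), (31, 1), (32, 1),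
    (33, 1), (34, 1), (35, 1), (36, 2), (28, 1), (29, 1), (27, 1), (25, 1), (10, 1), (11, 1), (9, 1),
    (7, 2), (9, 2), (11, 2), (13, 1), (14, 1), (15, 1), (16, 1), (17, 1), (18, 1), (19, 1), (20, 1),
    (21, 1), (22, 1), (23, 1), (24, 1), (25, 2), (27, 2), (29, 2), (31, 1), (32, 1), (33, 1), (34, 2),
    (36, 1), (37, 2), (39, 1), (40, 1), (41, 1), (42, 2), (44, 2), (46, 1), (47, 1), (48, 1), (49, 2),
    (51, 1), (52, 2), (54, 1), (55, 1), (56, 2), (58, 1), (59, 2), (61, 1), (62, 1), (63, 2), (65, 1),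
    (66, 1), (67, 2), (69, 1), (70, 1), (71, 2), (73, 1), (74, 2), (76, 1), (77, 1), (78, 2), (80, 0),
    (73, 1), (74, 1), (75, 1), (76, 1), (77, 1), (78, 1), (79, 1), (72, 1), (70, 2), (72, 2), (74, 1),
    (75, 1), (76, 1), (77, 1), (68, 2), (70, 1), (71, 1), (72, 2), (74, 1), (75, 1), (70, 1), (67, 1),
    (68, 2), (70, 2), (72, 1), (73, 1), (58, 1), (59, 1), (60, 1), (57, 1), (55, 2), (57, 2), (59, 1),
    (60, 2), (62, 1), (63, 1), (64, 1), (65, 1), (66, 1), (67, 1), (68, 1), (53, 2), (55, 1), (56, 1),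
    (57, 2), (59, 1), (60, 2), (62, 1), (63, 1), (64, 1), (65, 1), (55, 1), (52, 1), (53, 2), (55, 2),
    (57, 1), (58, 1), (59, 1), (60, 2), (62, 1), (63, 1), (57, 1), (58, 1), (56, 1), (54, 1), (48, 1),
    (49, 1), (50, 1), (51, 1), (52, 1), (53, 1), (54, 2), (56, 2), (58, 2), (60, 1), (61, 1), (47, 1),
    (48, 1), (49, 1), (45, 2), (47, 1), (48, 1), (49, 2), (51, 1), (52, 1), (53, 1), (54, 1), (55, 1),
    (56, 1), (44, 1), (45, 2), (47, 1), (48, 1), (49, 2), (51, 1), (52, 1), (53, 1), (41, 1), (42, 1),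
    (43, 1), (44, 1), (45, 2), (47, 1), (48, 1), (49, 2), (42, 1), (40, 2), (42, 2), (44, 1), (45, 1),
    (46, 1), (47, 1), (38, 2), (40, 1), (41, 1), (42, 2), (44, 1), (45, 1), (40, 1), (37, 1), (38, 2),
    (40, 2), (42, 1), (43, 1), (31, 2), (33, 1), (34, 1), (35, 1), (36, 1), (37, 1), (38, 1), (30, 1),
    (31, 2), (33, 1), (34, 1), (35, 1), (29, 1), (30, 1), (31, 2), (33, 1), (28, 1), (29, 1), (27, 1),
    (24, 1), (25, 1), (16, 1), (17, 1), (18, 1), (14, 2), (16, 1), (17, 1), (18, 2), (20, 1), (21, 1),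
    (22, 1), (23, 1), (24, 1), (25, 2), (27, 2), (29, 2), (31, 1), (32, 1), (33, 2), (35, 2), (37, 1),
    (38, 2), (40, 1), (41, 1), (42, 1), (43, 2), (45, 2), (47, 2), (49, 1), (50, 2), (52, 1), (53, 2),
    (55, 1), (56, 2), (58, 1), (59, 1), (60, 1), (61, 2), (63, 2), (65, 2), (67, 1), (68, 2), (70, 1),
    (71, 1), (72, 1), (73, 2), (75, 2), (77, 2), (79, 2), (81, 0), (78, 1), (60, 1), (61, 1), (62, 1),
    (63, 1), (64, 1), (65, 1), (59, 1), (60, 1), (57, 2), (59, 1), (60, 2), (62, 1), (63, 1), (56, 1),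
    (57, 2), (59, 1), (60, 2), (54, 2), (56, 1), (57, 1), (58, 1), (53, 1), (54, 2), (56, 1), (48, 2),
    (50, 1), (51, 1), (52, 1), (47, 1), (48, 2), (50, 1), (32, 1), (33, 1), (34, 1), (35, 1), (30, 2),
    (32, 1), (33, 1), (29, 1), (30, 2), (28, 1), (20, 2), (22, 1), (23, 1), (24, 1), (25, 1), (26, 2),
    (28, 2), (30, 1), (31, 2), (33, 2), (35, 2), (37, 1), (38, 1), (39, 1), (40, 1), (41, 1), (42, 1),
    (43, 1), (44, 1), (45, 1), (46, 1), (47, 1), (48, 2), (50, 2), (52, 2), (54, 1), (55, 1), (56, 2),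
    (58, 2), (60, 1), (61, 2), (63, 2), (65, 2), (67, 1), (68, 1), (69, 1), (70, 1), (71, 1), (72, 1),
    (73, 1), (74, 1), (75, 1), (76, 2), (78, 2), (80, 0), (71, 1), (72, 1), (73, 1), (74, 1), (75, 1),
    (76, 1), (77, 1), (78, 1), (70, 1), (71, 1), (68, 2), (70, 1), (71, 2), (73, 1), (74, 1), (75, 1),
    (67, 1), (68, 2), (70, 1), (71, 2), (64, 1), (65, 2), (67, 1), (68, 1), (69, 1), (62, 1), (63, 1),
    (64, 1), (65, 2), (67, 1), (59, 2), (61, 1), (62, 1), (63, 1), (57, 1), (58, 1), (59, 2), (61, 1),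
    (41, 1), (42, 1), (43, 1), (44, 1), (40, 1), (41, 1), (38, 2), (40, 1), (41, 2), (43, 1), (44, 2),
    (46, 1), (47, 1), (48, 1), (49, 1), (50, 1), (37, 1), (38, 2), (40, 1), (41, 2), (43, 1), (44, 2),
    (46, 1), (47, 1), (34, 1), (35, 2), (37, 1), (38, 1), (39, 1), (32, 1), (33, 1), (34, 1), (35, 2),
    (37, 1), (29, 2), (31, 1), (32, 1), (33, 1), (27, 1), (28, 1), (29, 2), (31, 1), (17, 1), (18, 1),
    (16, 1), (17, 1), (18, 2), (20, 1), (21, 1), (22, 1), (23, 1), (24, 1), (25, 1), (26, 1), (27, 1),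
    (28, 1), (29, 2), (31, 2), (33, 2), (35, 1), (36, 1), (37, 2), (39, 2), (41, 1), (42, 1), (43, 1),
    (44, 2), (46, 1), (47, 2), (49, 1), (50, 2), (52, 1), (53, 1), (54, 1), (55, 1), (56, 1), (57, 1),
    (58, 1), (59, 2), (61, 2), (63, 2), (65, 1), (66, 1), (67, 2), (69, 2), (71, 1), (72, 2), (74, 1),
    (75, 2), (77, 1), (78, 2), (80, 0), (70, 2), (72, 1), (73, 1), (74, 1), (69, 1), (70, 2), (72, 1),
    (68, 1), (46, 1), (47, 1), (45, 1), (43, 2), (45, 2), (47, 2), (49, 1), (50, 1), (51, 1), (52, 1),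
    (53, 1), (54, 1), (48, 1), (49, 1), (46, 1), (47, 1), (44, 1), (45, 1), (42, 1), (43, 1), (44, 1),
    (45, 2), (47, 2), (49, 2), (51, 1), (52, 1), (40, 2), (42, 1), (43, 1), (44, 1), (45, 1), (39, 1),
    (40, 2), (42, 1), (38, 1), (24, 1), (12, 1), (13, 1), (10, 1), (5, 2), (7, 1), (8, 1), (9, 1), (10,
    2), (7, 1), (8, 1), (4, 1), (5, 2), (7, 1), (8, 2), (10, 1), (11, 2), (13, 2), (15, 1), (16, 1),
    (17, 1), (18, 1), (19, 2), (21, 1), (22, 2), (24, 2), (26, 1), (27, 1), (28, 1), (29, 1), (30, 1),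
    (31, 1), (32, 1), (33, 1), (34, 2), (36, 2), (38, 2), (40, 1), (41, 1), (42, 2), (44, 1), (45, 2),
    (47, 1), (48, 1), (49, 2), (51, 1), (52, 2), (54, 2), (56, 1), (57, 1), (58, 1), (59, 1), (60, 1),
    (61, 1), (62, 1), (63, 1), (64, 2), (66, 2), (68, 2), (70, 1), (71, 1), (72, 2), (74, 2), (76, 1),
    (77, 1), (78, 1), (79, 2), (81, 1), (82, 0), (59, 1), (57, 2), (59, 2), (61, 1), (62, 1), (63, 1),
    (64, 1), (65, 1), (66, 1), (67, 1), (68, 1), (69, 2), (60, 1), (58, 1), (56, 1), (57, 1), (58, 2),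
    (60, 2), (62, 1), (63, 1), (55, 1), (56, 1), (53, 1), (47, 1), (29, 1), (27, 2), (29, 2), (31, 1),
    (32, 1), (33, 1), (34, 1), (35, 1), (36, 1), (37, 1), (38, 1), (39, 2), (30, 1), (28, 1), (26, 1),
    (27, 1), (28, 2), (30, 2), (32, 1), (33, 1), (25, 1), (26, 1), (23, 1), (14, 1), (12, 1), (3, 1),
    (4, 1), (5, 1), (6, 1), (2, 1), (0, 2), (2, 2), (4, 1), (5, 1), (6, 2), (8, 1), (9, 1), (10, 1),
    (11, 1), (12, 2), (14, 2), (16, 1), (17, 2), (19, 1), (20, 1), (21, 1), (22, 1), (23, 2), (25, 1),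
    (26, 2), (28, 1), (29, 1), (30, 2), (32, 1), (33, 2), (35, 1), (36, 1), (37, 2), (39, 1), (40, 2),
    (42, 1), (43, 1), (44, 1), (45, 2), (47, 2), (49, 1), (50, 1), (51, 1), (52, 1), (53, 2), (55, 1),
    (56, 2), (58, 1), (59, 1), (60, 2), (62, 1), (63, 2), (65, 1), (66, 1), (67, 2), (69, 1), (70, 2),
    (72, 1), (73, 1), (74, 2), (76, 1), (77, 2), (79, 1), (80, 1), (81, 1), (82, 1), (83, 2), (85, 1),
    (86, 0), (80, 1), (81, 1), (82, 1), (83, 1), (84, 1), (79, 1), (80, 1), (75, 1), (76, 1), (77, 2),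
    (79, 1), (80, 2), (82, 1), (83, 1), (84, 2), (86, 0), (74, 1), (75, 2), (77, 1), (78, 1), (79, 1),
    (80, 2), (82, 1), (83, 1), (82, 1), (81, 1), (80, 1), (78, 1), (79, 1), (77, 1), (78, 1), (73, 1),
    (74, 1), (75, 2), (77, 1), (72, 2), (71, 1), (68, 2), (70, 1), (69, 1), (67, 1), (68, 1), (62, 1),
    (63, 1), (61, 1), (59, 2), (61, 2), (63, 2), (65, 1), (66, 1), (67, 1), (64, 1), (65, 1), (66, 1),
    (62, 1), (57, 2), (59, 1), (60, 1), (61, 1), (62, 2), (64, 1), (65, 1), (63, 1), (62, 1), (59, 1),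
    (60, 1), (56, 1), (57, 2), (59, 1), (50, 1), (51, 1), (52, 1), (53, 1), (54, 1), (49, 1), (50, 1),
    (46, 1), (47, 2), (49, 1), (50, 2), (52, 1), (53, 1), (54, 2), (45, 2), (47, 1), (48, 1), (49, 1),
    (50, 2), (52, 1), (53, 1), (52, 1), (51, 1), (50, 1), (48, 1), (49, 1), (47, 1), (48, 1), (44, 1),
    (45, 2), (47, 1), (42, 2), (41, 1), (38, 2), (40, 1), (39, 1), (37, 1), (38, 1), (32, 1), (33, 1),
    (31, 1), (29, 2), (31, 2), (33, 2), (35, 1), (36, 1), (37, 1), (34, 1), (35, 1), (36, 1), (32, 1),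
    (27, 2), (29, 1), (30, 1), (31, 1), (32, 2), (34, 1), (35, 1), (33, 1), (32, 1), (29, 1), (30, 1),
    (26, 1), (27, 2), (29, 1), (20, 1), (21, 1), (22, 1), (23, 1), (24, 1), (19, 1), (20, 1), (15, 1),
    (16, 1), (17, 2), (19, 1), (20, 2), (22, 1), (23, 1), (24, 2), (14, 1), (15, 2), (17, 1), (18, 1),
    (19, 1), (20, 2), (22, 1), (23, 1), (22, 1), (21, 1), (20, 1), (18, 1), (19, 1), (17, 1), (18, 1),
    (11, 1), (12, 1), (13, 1), (14, 1), (15, 2), (17, 1), (8, 2), (10, 1), (11, 1), (12, 2), (7, 1), (8,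
    2), (10, 1), (11, 1), (10, 1), (9, 1), (8, 1), (5, 1), (6, 1), (7, 1), (4, 1), (5, 1), (6, 1), (3,
    1), (1, 1), (2, 1), (3, 2), (5, 1)] = true := by decide +kernel

theorem spider_move7 : sameWord (rep 10 spiderWord ++ [7]) (([3, 7, 2, 3, 1, 2] ++ rep 3 ([1] ++ farWord).reverse ++ ([3, 7, 2, 3, 1, 2] : List ℕ).reverse) ++ ([7] ++ rep 10 spiderWord))
    [(80, 1), (81, 1), (82, 1), (83, 1), (84, 1), (85, 1), (86, 1), (87, 2), (89, 0)]
    [(5, 0), (3, 1), (4, 0), (1, 1), (2, 1), (3, 0), (64, 2), (66, 0), (63, 1), (64, 2), (66, 0), (62,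
    1), (63, 1), (64, 2), (66, 0), (65, 0), (64, 0), (63, 0), (62, 0), (59, 1), (60, 2), (62, 0), (58,
    2), (60, 1), (61, 0), (60, 0), (53, 2), (55, 1), (56, 1), (57, 1), (58, 1), (52, 1), (53, 2), (55,
    1), (56, 1), (57, 1), (58, 2), (60, 0), (55, 1), (56, 1), (57, 1), (58, 1), (59, 2), (61, 1), (62,
    0), (56, 1), (57, 1), (54, 1), (55, 1), (53, 1), (52, 1), (53, 2), (55, 2), (57, 2), (59, 1), (60,
    1), (61, 0), (56, 1), (50, 1), (48, 1), (49, 1), (50, 2), (52, 1), (53, 1), (54, 2), (56, 2), (58,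
    1), (59, 1), (60, 1), (49, 1), (50, 1), (51, 1), (52, 1), (47, 2), (49, 1), (45, 2), (47, 1), (48,
    1), (49, 2), (51, 1), (52, 2), (54, 1), (55, 1), (56, 2), (58, 1), (59, 1), (60, 2), (62, 0), (61,
    1), (62, 0), (42, 2), (44, 1), (45, 1), (46, 1), (47, 1), (48, 1), (49, 1), (50, 1), (43, 1), (41,
    1), (40, 1), (41, 2), (43, 2), (45, 1), (46, 1), (39, 1), (37, 1), (38, 1), (39, 2), (41, 1), (42,
    1), (43, 2), (45, 1), (46, 2), (48, 1), (49, 1), (50, 2), (52, 1), (53, 1), (54, 1), (55, 1), (56,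
    2), (58, 1), (59, 1), (60, 1), (61, 0), (57, 1), (58, 1), (59, 1), (60, 0), (56, 1), (57, 1), (58,
    1), (55, 1), (54, 1), (55, 2), (57, 1), (58, 2), (60, 1), (61, 1), (45, 1), (46, 1), (47, 1), (48,
    1), (49, 1), (50, 1), (51, 1), (52, 2), (44, 1), (42, 2), (44, 2), (46, 1), (47, 1), (48, 1), (49,
    1), (50, 2), (52, 1), (53, 2), (55, 1), (56, 1), (57, 1), (58, 2), (60, 1), (61, 2), (63, 1), (64,
    1), (47, 1), (48, 1), (49, 1), (50, 1), (51, 1), (52, 1), (53, 1), (54, 2), (56, 1), (46, 1), (47,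
    1), (45, 1), (43, 1), (38, 1), (39, 1), (40, 1), (41, 1), (42, 1), (43, 2), (45, 2), (47, 2), (49,
    1), (50, 1), (51, 1), (52, 2), (54, 1), (46, 1), (39, 2), (41, 1), (42, 1), (43, 1), (44, 2), (46,
    2), (48, 1), (49, 1), (50, 1), (41, 1), (42, 1), (35, 1), (36, 1), (37, 1), (38, 1), (39, 2), (41,
    1), (42, 2), (44, 1), (45, 1), (46, 2), (48, 1), (35, 2), (37, 1), (38, 1), (39, 1), (40, 1), (36,
    1), (34, 1), (33, 1), (34, 2), (36, 2), (38, 1), (39, 1), (40, 2), (42, 1), (43, 1), (44, 1), (45,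
    1), (46, 2), (48, 2), (50, 2), (52, 1), (53, 1), (54, 2), (56, 2), (58, 1), (59, 1), (60, 1), (61,
    2), (63, 1), (64, 2), (66, 0), (65, 1), (66, 0), (47, 1), (45, 2), (47, 2), (49, 1), (50, 1), (51,
    1), (52, 1), (53, 1), (54, 1), (55, 1), (56, 1), (57, 2), (59, 1), (48, 1), (46, 1), (44, 1), (45,
    1), (46, 2), (48, 2), (50, 1), (51, 1), (43, 1), (44, 1), (41, 2), (43, 1), (44, 2), (46, 1), (47,
    1), (48, 2), (50, 1), (51, 2), (53, 1), (54, 1), (55, 2), (57, 1), (53, 1), (32, 1), (33, 1), (31,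
    1), (30, 1), (31, 2), (33, 2), (35, 1), (36, 1), (37, 1), (38, 1), (39, 1), (40, 1), (41, 1), (42,
    1), (34, 1), (32, 1), (28, 1), (26, 1), (27, 1), (28, 2), (30, 1), (31, 1), (32, 2), (34, 2), (36,
    1), (37, 1), (38, 1), (27, 1), (28, 1), (29, 1), (30, 1), (25, 2), (27, 1), (23, 2), (25, 1), (26,
    1), (27, 2), (29, 1), (30, 2), (32, 1), (33, 1), (34, 2), (36, 1), (37, 1), (38, 2), (40, 1), (41,
    1), (42, 2), (44, 1), (45, 1), (46, 1), (47, 1), (48, 2), (50, 1), (51, 2), (53, 2), (55, 1), (56,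
    1), (57, 2), (59, 2), (61, 1), (62, 1), (63, 1), (64, 1), (65, 0), (56, 1), (57, 1), (54, 2), (56,
    1), (57, 2), (59, 1), (60, 1), (61, 1), (62, 1), (63, 1), (64, 0), (49, 1), (50, 1), (48, 1), (46,
    2), (48, 2), (50, 2), (52, 1), (53, 1), (54, 1), (55, 1), (56, 1), (57, 1), (58, 1), (59, 2), (61,
    1), (62, 1), (51, 1), (52, 1), (49, 1), (44, 2), (46, 1), (47, 1), (48, 1), (49, 2), (46, 1), (47,
    1), (43, 1), (44, 2), (46, 1), (47, 2), (49, 1), (50, 2), (52, 2), (54, 1), (55, 1), (56, 1), (57,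
    2), (59, 1), (54, 1), (55, 1), (53, 1), (51, 1), (41, 1), (42, 1), (43, 1), (44, 1), (45, 1), (40,
    1), (41, 1), (39, 1), (20, 2), (22, 1), (23, 1), (24, 1), (25, 1), (26, 1), (27, 1), (28, 1), (21,
    1), (19, 1), (18, 1), (19, 2), (21, 2), (23, 1), (24, 1), (17, 1), (15, 1), (16, 1), (17, 2), (19,
    1), (20, 1), (21, 2), (23, 1), (24, 2), (26, 1), (27, 1), (28, 2), (30, 1), (31, 1), (32, 1), (33,
    1), (34, 2), (36, 1), (37, 1), (38, 1), (39, 2), (41, 2), (43, 1), (44, 1), (45, 2), (47, 1), (48,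
    1), (49, 1), (50, 1), (51, 2), (53, 2), (55, 2), (57, 1), (58, 1), (59, 2), (61, 1), (62, 2), (64,
    0), (58, 1), (59, 1), (60, 1), (56, 2), (58, 1), (59, 1), (60, 2), (62, 1), (63, 0), (62, 0), (59,
    1), (60, 1), (58, 1), (59, 1), (60, 2), (62, 0), (54, 1), (55, 1), (47, 2), (49, 1), (50, 1), (51,
    1), (52, 2), (49, 1), (50, 1), (46, 1), (47, 2), (49, 1), (50, 2), (52, 1), (53, 2), (55, 2), (57,
    1), (58, 1), (59, 1), (60, 1), (61, 2), (63, 1), (64, 0), (58, 1), (59, 1), (56, 1), (57, 1), (51,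
    2), (53, 1), (54, 1), (55, 1), (35, 1), (36, 1), (37, 1), (38, 1), (34, 1), (35, 1), (36, 1), (33,
    1), (32, 1), (33, 2), (35, 1), (36, 2), (38, 2), (40, 1), (41, 1), (42, 1), (43, 1), (44, 1), (39,
    1), (37, 1), (23, 1), (24, 1), (25, 1), (26, 1), (27, 1), (28, 1), (29, 1), (30, 2), (22, 1), (20,
    2), (22, 2), (24, 1), (25, 1), (26, 1), (27, 1), (28, 2), (30, 1), (31, 2), (33, 1), (34, 1), (35,
    1), (36, 1), (37, 2), (39, 2), (41, 1), (42, 1), (43, 1), (44, 2), (46, 1), (47, 1), (48, 1), (49,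
    1), (25, 1), (26, 1), (27, 1), (28, 1), (29, 1), (30, 1), (31, 1), (32, 2), (34, 1), (35, 1), (24,
    1), (25, 1), (23, 1), (21, 1), (16, 1), (17, 1), (18, 1), (19, 1), (20, 1), (21, 2), (23, 2), (25,
    2), (27, 1), (28, 1), (29, 1), (30, 2), (32, 1), (24, 1), (17, 2), (19, 1), (20, 1), (21, 1), (22,
    2), (24, 2), (26, 1), (27, 1), (28, 1), (19, 1), (20, 1), (13, 1), (14, 1), (15, 1), (16, 1), (17,
    2), (19, 1), (20, 2), (22, 1), (23, 1), (24, 2), (26, 1), (13, 2), (15, 1), (16, 1), (17, 1), (18,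
    1), (14, 1), (12, 1), (11, 1), (12, 2), (14, 2), (16, 1), (17, 1), (18, 2), (20, 1), (21, 1), (22,
    1), (23, 1), (24, 2), (26, 2), (28, 2), (30, 1), (31, 1), (32, 2), (34, 1), (35, 2), (37, 1), (38,
    1), (39, 2), (41, 1), (42, 1), (43, 1), (44, 2), (46, 1), (47, 1), (48, 1), (49, 2), (51, 1), (52,
    1), (53, 1), (54, 1), (55, 2), (57, 2), (59, 2), (61, 1), (62, 1), (63, 0), (58, 1), (52, 1), (41,
    1), (42, 1), (43, 1), (44, 1), (45, 1), (46, 1), (40, 1), (41, 1), (42, 1), (39, 1), (40, 1), (38,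
    1), (34, 1), (35, 1), (36, 1), (37, 1), (38, 2), (40, 2), (42, 2), (44, 1), (45, 1), (46, 2), (48,
    1), (49, 1), (50, 1), (51, 1), (52, 2), (54, 1), (55, 1), (56, 2), (58, 2), (60, 1), (61, 1), (62,
    1), (63, 2), (65, 1), (66, 0), (61, 1), (62, 1), (63, 1), (64, 1), (60, 1), (59, 1), (60, 2), (62,
    1), (63, 1), (64, 2), (66, 0), (58, 1), (59, 1), (60, 2), (62, 1), (63, 1), (64, 2), (66, 1), (67,
    1), (53, 1), (54, 1), (55, 1), (56, 2), (58, 1), (52, 1), (53, 1), (54, 2), (56, 1), (51, 1), (52,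
    1), (49, 2), (51, 1), (52, 2), (54, 1), (55, 1), (56, 2), (58, 2), (60, 1), (61, 1), (62, 1), (63,
    1), (64, 2), (66, 1), (67, 2), (69, 1), (70, 1), (71, 2), (73, 1), (74, 0), (66, 1), (67, 1), (68,
    1), (69, 1), (70, 1), (71, 1), (72, 1), (65, 1), (63, 2), (65, 2), (67, 1), (68, 1), (51, 1), (52,
    1), (53, 1), (54, 1), (55, 1), (56, 1), (57, 1), (58, 1), (59, 2), (61, 1), (50, 1), (37, 1), (38,
    1), (39, 1), (40, 1), (41, 1), (42, 1), (43, 2), (45, 1), (46, 1), (47, 1), (48, 2), (50, 2), (52,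
    1), (53, 1), (46, 1), (36, 1), (37, 1), (33, 1), (34, 2), (36, 1), (37, 2), (39, 1), (40, 1), (41,
    2), (43, 1), (44, 1), (45, 1), (46, 2), (48, 1), (49, 1), (50, 2), (52, 1), (53, 2), (55, 1), (56,
    1), (57, 2), (59, 1), (60, 1), (61, 2), (63, 1), (64, 1), (65, 2), (67, 1), (68, 2), (70, 1), (71,
    1), (72, 2), (74, 0), (67, 1), (68, 1), (69, 1), (70, 1), (71, 1), (72, 1), (73, 1), (66, 1), (64,
    2), (66, 2), (68, 1), (69, 1), (70, 1), (71, 1), (62, 2), (64, 1), (65, 1), (66, 2), (68, 1), (69,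
    1), (64, 1), (61, 1), (62, 2), (64, 2), (66, 1), (67, 1), (52, 1), (53, 1), (54, 1), (51, 1), (49,
    2), (51, 2), (53, 1), (54, 2), (56, 1), (57, 1), (58, 1), (59, 1), (60, 1), (61, 1), (62, 1), (47,
    2), (49, 1), (50, 1), (51, 2), (53, 1), (54, 2), (56, 1), (57, 1), (58, 1), (59, 1), (49, 1), (46,
    1), (47, 2), (49, 2), (51, 1), (52, 1), (53, 1), (54, 2), (56, 1), (57, 1), (51, 1), (52, 1), (50,
    1), (48, 1), (44, 1), (45, 1), (46, 1), (47, 1), (48, 2), (50, 2), (52, 2), (54, 1), (55, 1), (43,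
    1), (42, 1), (43, 2), (45, 1), (46, 1), (47, 1), (48, 1), (49, 1), (50, 1), (41, 1), (42, 1), (43,
    2), (45, 1), (46, 1), (47, 1), (39, 1), (36, 1), (37, 1), (38, 1), (39, 2), (41, 1), (42, 1), (43,
    2), (38, 1), (39, 1), (40, 1), (41, 1), (35, 1), (36, 2), (38, 1), (39, 1), (34, 2), (36, 1), (37,
    1), (25, 1), (23, 2), (25, 2), (27, 1), (28, 1), (29, 1), (30, 1), (31, 1), (32, 1), (26, 1), (24,
    1), (22, 1), (23, 1), (24, 2), (26, 2), (28, 1), (29, 1), (21, 1), (22, 1), (19, 2), (21, 1), (22,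
    2), (24, 1), (25, 1), (26, 2), (28, 1), (29, 2), (31, 1), (32, 2), (34, 1), (35, 1), (36, 1), (37,
    2), (39, 2), (41, 2), (43, 1), (44, 2), (46, 1), (47, 2), (49, 1), (50, 2), (52, 1), (53, 1), (54,
    1), (55, 2), (57, 2), (59, 2), (61, 1), (62, 2), (64, 1), (65, 1), (66, 1), (67, 2), (69, 2), (71,
    2), (73, 2), (75, 0), (72, 1), (54, 1), (55, 1), (56, 1), (57, 1), (58, 1), (59, 1), (53, 1), (54,
    1), (51, 2), (53, 1), (54, 2), (56, 1), (57, 1), (50, 1), (51, 2), (53, 1), (54, 2), (48, 2), (50,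
    1), (51, 1), (52, 1), (47, 1), (48, 2), (50, 1), (42, 2), (44, 1), (45, 1), (46, 1), (41, 1), (42,
    2), (44, 1), (28, 1), (29, 1), (27, 1), (25, 2), (27, 2), (29, 2), (31, 1), (32, 1), (33, 1), (34,
    1), (35, 1), (36, 1), (37, 1), (38, 1), (39, 1), (40, 1), (41, 1), (42, 2), (44, 2), (46, 2), (48,
    1), (49, 1), (50, 2), (52, 2), (54, 1), (55, 2), (57, 2), (59, 2), (61, 1), (62, 1), (63, 1), (64,
    1), (65, 1), (66, 1), (67, 1), (68, 1), (69, 1), (70, 2), (72, 2), (74, 0), (65, 1), (66, 1), (67,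
    1), (68, 1), (69, 1), (70, 1), (71, 1), (72, 1), (64, 1), (65, 1), (62, 2), (64, 1), (65, 2), (67,
    1), (68, 1), (69, 1), (61, 1), (62, 2), (64, 1), (65, 2), (58, 1), (59, 2), (61, 1), (62, 1), (63,
    1), (56, 1), (57, 1), (58, 1), (59, 2), (61, 1), (53, 2), (55, 1), (56, 1), (57, 1), (51, 1), (52,
    1), (53, 2), (55, 1), (35, 1), (36, 1), (37, 1), (38, 1), (34, 1), (35, 1), (32, 2), (34, 1), (35,
    2), (37, 1), (38, 2), (40, 1), (41, 1), (42, 1), (43, 1), (44, 1), (31, 1), (32, 2), (34, 1), (35,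
    2), (37, 1), (38, 2), (40, 1), (41, 1), (28, 1), (29, 2), (31, 1), (32, 1), (33, 1), (26, 1), (27,
    1), (28, 1), (29, 2), (31, 1), (23, 2), (25, 1), (26, 1), (27, 1), (22, 1), (23, 2), (25, 1), (10,
    1), (11, 1), (9, 1), (8, 1), (9, 2), (11, 2), (13, 1), (14, 1), (15, 1), (16, 1), (17, 1), (18, 1),
    (19, 1), (20, 1), (21, 1), (22, 1), (23, 2), (25, 2), (27, 2), (29, 1), (30, 1), (31, 2), (33, 2),
    (35, 1), (36, 1), (37, 1), (38, 2), (40, 1), (41, 2), (43, 1), (44, 2), (46, 1), (47, 1), (48, 1),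
    (49, 1), (50, 1), (51, 1), (52, 1), (53, 2), (55, 2), (57, 2), (59, 1), (60, 1), (61, 2), (63, 2),
    (65, 1), (66, 2), (68, 1), (69, 2), (71, 1), (72, 2), (74, 0), (64, 2), (66, 1), (67, 1), (68, 1),
    (63, 1), (64, 2), (66, 1), (62, 1), (40, 1), (41, 1), (39, 1), (37, 2), (39, 2), (41, 2), (43, 1),
    (44, 1), (45, 1), (46, 1), (47, 1), (48, 1), (42, 1), (43, 1), (40, 1), (41, 1), (38, 1), (39, 1),
    (36, 1), (37, 1), (38, 1), (39, 2), (41, 2), (43, 2), (45, 1), (46, 1), (34, 2), (36, 1), (37, 1),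
    (38, 1), (39, 1), (33, 1), (34, 2), (36, 1), (32, 1), (20, 1), (21, 1), (22, 1), (23, 1), (24, 1),
    (25, 1), (26, 1), (27, 1), (28, 2), (30, 2), (32, 2), (34, 1), (35, 1), (36, 2), (38, 1), (39, 2),
    (41, 1), (42, 1), (43, 2), (45, 1), (46, 2), (48, 2), (50, 1), (51, 1), (52, 1), (53, 1), (54, 1),
    (55, 1), (56, 1), (57, 1), (58, 2), (60, 2), (62, 2), (64, 1), (65, 1), (66, 2), (68, 2), (70, 1),
    (71, 1), (72, 1), (73, 2), (75, 1), (76, 0), (53, 1), (51, 2), (53, 2), (55, 1), (56, 1), (57, 1),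
    (58, 1), (59, 1), (60, 1), (61, 1), (62, 1), (63, 2), (54, 1), (52, 1), (50, 1), (51, 1), (52, 2),
    (54, 2), (56, 1), (57, 1), (49, 1), (50, 1), (47, 1), (41, 1), (23, 1), (21, 2), (23, 2), (25, 1),
    (26, 1), (27, 1), (28, 1), (29, 1), (30, 1), (31, 1), (32, 1), (33, 2), (24, 1), (22, 1), (20, 1),
    (21, 1), (22, 2), (24, 2), (26, 1), (27, 1), (19, 1), (20, 1), (12, 1), (10, 1), (6, 1), (4, 1), (5,
    1), (6, 2), (8, 1), (9, 1), (10, 2), (12, 2), (14, 1), (15, 1), (16, 1), (17, 2), (19, 1), (20, 2),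
    (22, 1), (23, 1), (24, 2), (26, 1), (27, 2), (29, 1), (30, 1), (31, 2), (33, 1), (34, 2), (36, 1),
    (37, 1), (38, 1), (39, 2), (41, 2), (43, 1), (44, 1), (45, 1), (46, 1), (47, 2), (49, 1), (50, 2),
    (52, 1), (53, 1), (54, 2), (56, 1), (57, 2), (59, 1), (60, 1), (61, 2), (63, 1), (64, 2), (66, 1),
    (67, 1), (68, 2), (70, 1), (71, 2), (73, 1), (74, 1), (75, 1), (76, 1), (77, 2), (79, 1), (80, 0),
    (74, 1), (75, 1), (76, 1), (77, 1), (78, 1), (73, 1), (74, 1), (69, 1), (70, 1), (71, 2), (73, 1),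
    (74, 2), (76, 1), (77, 1), (78, 2), (80, 0), (68, 1), (69, 2), (71, 1), (72, 1), (73, 1), (74, 2),
    (76, 1), (77, 1), (76, 1), (75, 1), (74, 1), (72, 1), (73, 1), (71, 1), (72, 1), (67, 1), (68, 1),
    (69, 2), (71, 1), (66, 2), (65, 1), (62, 2), (64, 1), (63, 1), (61, 1), (62, 1), (56, 1), (57, 1),
    (55, 1), (53, 2), (55, 2), (57, 2), (59, 1), (60, 1), (61, 1), (58, 1), (59, 1), (60, 1), (56, 1),
    (51, 2), (53, 1), (54, 1), (55, 1), (56, 2), (58, 1), (59, 1), (57, 1), (56, 1), (53, 1), (54, 1),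
    (50, 1), (51, 2), (53, 1), (44, 1), (45, 1), (46, 1), (47, 1), (48, 1), (43, 1), (44, 1), (40, 1),
    (41, 2), (43, 1), (44, 2), (46, 1), (47, 1), (48, 2), (39, 2), (41, 1), (42, 1), (43, 1), (44, 2),
    (46, 1), (47, 1), (46, 1), (45, 1), (44, 1), (42, 1), (43, 1), (41, 1), (42, 1), (38, 1), (39, 2),
    (41, 1), (36, 2), (35, 1), (32, 2), (34, 1), (33, 1), (31, 1), (32, 1), (26, 1), (27, 1), (25, 1),
    (23, 2), (25, 2), (27, 2), (29, 1), (30, 1), (31, 1), (28, 1), (29, 1), (30, 1), (26, 1), (21, 2),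
    (23, 1), (24, 1), (25, 1), (26, 2), (28, 1), (29, 1), (27, 1), (26, 1), (23, 1), (24, 1), (20, 1),
    (21, 2), (23, 1), (15, 1), (16, 1), (17, 1), (18, 1), (14, 1), (13, 1), (14, 2), (16, 1), (17, 1),
    (18, 2), (12, 1), (13, 1), (14, 2), (16, 1), (17, 1), (16, 1), (15, 1), (14, 1), (12, 1), (13, 1),
    (11, 1), (12, 1), (5, 1), (6, 1), (7, 1), (8, 1), (9, 2), (11, 1), (3, 2), (5, 1)] = true := by decide +kernel

theorem spider_move8 : sameWord (rep 10 spiderWord ++ [8]) (([7, 8, 3, 7, 2, 3, 1, 2] ++ rep 3 ([1] ++ farWord).reverse ++ ([7, 8, 3, 7, 2, 3, 1, 2] : List ℕ).reverse) ++ ([8] ++ rep 10 spiderWord))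
    [(89, 0)]
    [(7, 0), (5, 1), (6, 0), (3, 1), (4, 1), (5, 0), (1, 1), (2, 1), (3, 1), (4, 1), (5, 1), (6, 1), (7,
    1), (8, 1), (9, 1), (10, 2), (12, 0), (64, 2), (66, 0), (63, 1), (64, 2), (66, 0), (62, 1), (63, 1),
    (64, 2), (66, 0), (53, 2), (55, 1), (56, 1), (57, 1), (58, 1), (59, 1), (60, 1), (61, 1), (62, 1),
    (63, 1), (64, 2), (66, 0), (65, 0), (63, 2), (65, 1), (66, 1), (62, 1), (63, 2), (65, 1), (66, 2),
    (68, 1), (69, 1), (60, 1), (61, 1), (58, 1), (59, 1), (52, 1), (53, 2), (55, 1), (56, 1), (57, 1),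
    (58, 1), (59, 2), (61, 2), (63, 1), (64, 1), (65, 1), (66, 2), (68, 1), (69, 2), (71, 0), (70, 1),
    (71, 0), (58, 1), (59, 1), (60, 1), (61, 1), (62, 2), (64, 1), (55, 1), (56, 1), (50, 1), (51, 1),
    (52, 1), (53, 2), (55, 1), (56, 2), (58, 1), (59, 1), (60, 2), (62, 1), (58, 1), (48, 1), (49, 1),
    (50, 1), (51, 1), (52, 1), (53, 2), (55, 1), (56, 2), (58, 2), (60, 1), (61, 1), (62, 2), (64, 2),
    (66, 1), (67, 1), (68, 1), (69, 1), (70, 0), (61, 1), (62, 1), (59, 2), (61, 1), (62, 2), (64, 1),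
    (65, 1), (66, 1), (67, 1), (68, 1), (69, 0), (54, 1), (55, 1), (53, 1), (49, 1), (50, 1), (51, 2),
    (53, 2), (55, 2), (57, 1), (58, 1), (59, 1), (60, 1), (61, 1), (62, 1), (63, 1), (64, 2), (66, 1),
    (67, 1), (56, 1), (57, 1), (54, 1), (48, 1), (49, 2), (51, 1), (52, 1), (53, 1), (54, 2), (51, 1),
    (52, 1), (47, 1), (48, 1), (49, 2), (51, 1), (52, 2), (54, 1), (55, 2), (57, 2), (59, 1), (60, 1),
    (61, 1), (62, 2), (64, 1), (59, 1), (60, 1), (58, 1), (56, 1), (42, 2), (44, 1), (45, 1), (46, 1),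
    (47, 1), (48, 1), (49, 1), (50, 1), (41, 1), (42, 2), (44, 1), (45, 1), (46, 1), (40, 1), (41, 1),
    (42, 2), (44, 1), (31, 2), (33, 1), (34, 1), (35, 1), (36, 1), (37, 1), (38, 1), (39, 1), (40, 1),
    (41, 1), (42, 2), (44, 2), (46, 2), (48, 1), (49, 1), (50, 2), (52, 1), (53, 1), (54, 1), (55, 1),
    (56, 2), (58, 2), (60, 2), (62, 1), (63, 1), (64, 2), (66, 1), (67, 2), (69, 0), (63, 1), (64, 1),
    (65, 1), (61, 2), (63, 1), (64, 1), (65, 2), (67, 1), (68, 0), (67, 0), (64, 1), (65, 1), (63, 1),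
    (64, 1), (65, 2), (67, 0), (59, 1), (60, 1), (52, 2), (54, 1), (55, 1), (56, 1), (57, 2), (54, 1),
    (55, 1), (51, 1), (52, 2), (54, 1), (55, 2), (57, 1), (58, 2), (60, 2), (62, 1), (63, 1), (64, 1),
    (65, 1), (66, 2), (68, 1), (69, 0), (63, 1), (64, 1), (61, 1), (62, 1), (56, 2), (58, 1), (59, 1),
    (60, 1), (43, 1), (41, 2), (43, 2), (45, 1), (46, 1), (47, 1), (48, 1), (49, 1), (44, 1), (42, 1),
    (40, 1), (41, 1), (42, 2), (44, 2), (46, 1), (47, 1), (48, 1), (49, 2), (51, 1), (52, 1), (53, 1),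
    (54, 1), (38, 1), (39, 1), (40, 1), (36, 1), (37, 1), (30, 1), (31, 2), (33, 1), (34, 1), (35, 1),
    (36, 1), (37, 2), (39, 1), (40, 2), (42, 1), (43, 1), (44, 2), (46, 1), (47, 1), (48, 1), (49, 2),
    (51, 1), (52, 1), (53, 1), (54, 2), (56, 1), (57, 1), (58, 1), (59, 1), (60, 2), (62, 2), (64, 2),
    (66, 1), (67, 1), (68, 0), (63, 1), (57, 1), (46, 1), (47, 1), (48, 1), (49, 1), (50, 1), (51, 1),
    (45, 1), (46, 1), (47, 1), (44, 1), (45, 1), (43, 1), (39, 1), (40, 1), (41, 1), (42, 1), (43, 2),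
    (45, 2), (47, 2), (49, 1), (50, 1), (51, 2), (53, 1), (54, 1), (55, 1), (56, 1), (57, 2), (59, 1),
    (60, 1), (61, 2), (63, 2), (65, 1), (66, 1), (67, 1), (56, 1), (57, 1), (58, 1), (59, 1), (52, 1),
    (53, 1), (54, 2), (56, 1), (36, 1), (37, 1), (38, 1), (39, 1), (40, 2), (42, 1), (43, 1), (33, 1),
    (34, 1), (28, 1), (29, 1), (30, 1), (31, 2), (33, 1), (34, 2), (36, 1), (37, 1), (38, 2), (40, 1),
    (36, 1), (26, 1), (27, 1), (28, 1), (29, 1), (30, 1), (31, 2), (33, 1), (34, 2), (36, 2), (38, 1),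
    (39, 1), (40, 2), (42, 1), (43, 2), (45, 1), (46, 1), (47, 2), (49, 1), (50, 1), (51, 1), (52, 2),
    (54, 1), (55, 1), (56, 2), (58, 1), (59, 2), (61, 1), (62, 1), (63, 2), (65, 1), (66, 1), (67, 2),
    (69, 0), (68, 1), (69, 0), (49, 1), (50, 1), (51, 1), (52, 1), (53, 1), (54, 1), (55, 1), (56, 1),
    (57, 1), (48, 1), (49, 1), (50, 1), (47, 1), (48, 1), (45, 1), (46, 1), (42, 1), (43, 1), (44, 1),
    (45, 1), (46, 2), (48, 2), (50, 2), (52, 1), (53, 1), (32, 1), (33, 1), (31, 1), (27, 1), (28, 1),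
    (29, 2), (31, 2), (33, 2), (35, 1), (36, 1), (37, 1), (38, 1), (39, 1), (40, 1), (41, 1), (42, 1),
    (43, 2), (45, 1), (46, 1), (34, 1), (32, 1), (26, 1), (27, 2), (29, 1), (30, 1), (31, 1), (32, 2),
    (34, 2), (36, 1), (37, 1), (29, 1), (30, 1), (25, 1), (26, 1), (27, 2), (29, 1), (30, 2), (32, 1),
    (33, 1), (34, 2), (36, 1), (37, 2), (39, 1), (40, 1), (41, 2), (43, 1), (39, 1), (20, 2), (22, 1),
    (23, 1), (24, 1), (25, 1), (26, 1), (27, 1), (28, 1), (19, 1), (20, 2), (22, 1), (23, 1), (24, 1),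
    (18, 1), (19, 1), (20, 2), (22, 1), (11, 1), (12, 1), (13, 1), (14, 1), (15, 1), (16, 1), (17, 1),
    (18, 1), (19, 1), (20, 2), (22, 2), (24, 2), (26, 1), (27, 1), (28, 2), (30, 1), (31, 1), (32, 1),
    (33, 1), (34, 2), (36, 1), (37, 2), (39, 2), (41, 1), (42, 1), (43, 2), (45, 1), (46, 2), (48, 1),
    (49, 1), (50, 2), (52, 1), (53, 2), (55, 1), (56, 1), (57, 2), (59, 1), (60, 1), (61, 1), (62, 1),
    (63, 2), (65, 1), (66, 1), (67, 1), (68, 0), (64, 1), (65, 1), (66, 1), (67, 0), (63, 1), (64, 1),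
    (65, 1), (62, 1), (61, 1), (62, 2), (64, 1), (65, 2), (67, 1), (68, 1), (52, 1), (53, 1), (54, 1),
    (55, 1), (56, 1), (57, 1), (58, 1), (59, 2), (51, 1), (49, 2), (51, 2), (53, 1), (54, 1), (55, 1),
    (56, 1), (57, 2), (59, 1), (60, 2), (62, 1), (63, 1), (64, 1), (65, 2), (67, 1), (68, 2), (70, 1),
    (71, 1), (54, 1), (55, 1), (56, 1), (57, 1), (58, 1), (59, 1), (60, 1), (61, 2), (63, 1), (53, 1),
    (54, 1), (52, 1), (50, 1), (35, 1), (36, 1), (34, 1), (32, 2), (34, 2), (36, 2), (38, 1), (39, 1),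
    (40, 1), (41, 1), (42, 1), (43, 1), (44, 1), (45, 1), (46, 1), (47, 1), (48, 1), (49, 1), (50, 2),
    (52, 2), (54, 2), (56, 1), (57, 1), (58, 1), (59, 2), (61, 1), (53, 1), (46, 2), (48, 1), (49, 1),
    (50, 1), (51, 2), (53, 2), (55, 1), (56, 1), (57, 1), (48, 1), (49, 1), (37, 1), (35, 1), (30, 2),
    (32, 1), (33, 1), (34, 1), (35, 2), (37, 2), (39, 1), (40, 1), (32, 1), (33, 1), (29, 1), (30, 2),
    (32, 1), (33, 2), (35, 1), (36, 1), (37, 2), (39, 1), (40, 2), (42, 1), (43, 1), (44, 1), (45, 1),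
    (46, 2), (48, 1), (49, 2), (51, 1), (52, 1), (53, 2), (55, 1), (39, 1), (40, 1), (41, 1), (42, 1),
    (38, 1), (36, 2), (38, 2), (40, 1), (41, 1), (42, 2), (44, 1), (45, 1), (46, 1), (47, 1), (43, 1),
    (34, 2), (36, 1), (37, 1), (38, 2), (40, 1), (41, 1), (21, 1), (19, 2), (21, 2), (23, 1), (24, 1),
    (25, 1), (26, 1), (27, 1), (22, 1), (20, 1), (18, 1), (19, 1), (20, 2), (22, 2), (24, 1), (25, 1),
    (26, 1), (27, 2), (29, 1), (30, 1), (31, 1), (32, 1), (16, 1), (17, 1), (18, 1), (14, 1), (15, 1),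
    (9, 2), (11, 1), (12, 1), (13, 1), (14, 1), (15, 2), (17, 1), (18, 2), (20, 1), (21, 1), (22, 2),
    (24, 1), (25, 1), (26, 1), (27, 2), (29, 1), (30, 1), (31, 1), (32, 2), (34, 1), (35, 1), (36, 1),
    (37, 1), (38, 2), (40, 1), (41, 2), (43, 2), (45, 1), (46, 1), (47, 2), (49, 1), (50, 1), (51, 1),
    (52, 1), (53, 2), (55, 2), (57, 2), (59, 1), (60, 1), (61, 2), (63, 2), (65, 1), (66, 1), (67, 1),
    (68, 2), (70, 1), (71, 2), (73, 0), (72, 1), (73, 0), (54, 1), (52, 2), (54, 2), (56, 1), (57, 1),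
    (58, 1), (59, 1), (60, 1), (61, 1), (62, 1), (63, 1), (64, 2), (66, 1), (55, 1), (53, 1), (51, 1),
    (52, 1), (53, 2), (55, 2), (57, 1), (58, 1), (50, 1), (51, 1), (48, 2), (50, 1), (51, 2), (53, 1),
    (54, 1), (55, 2), (57, 1), (58, 2), (60, 1), (61, 1), (62, 2), (64, 1), (60, 1), (39, 1), (40, 1),
    (38, 1), (37, 1), (38, 2), (40, 2), (42, 1), (43, 1), (44, 1), (45, 1), (46, 1), (47, 1), (48, 1),
    (49, 1), (41, 1), (39, 1), (24, 1), (25, 1), (26, 1), (27, 1), (28, 1), (29, 1), (23, 1), (24, 1),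
    (25, 1), (22, 1), (23, 1), (21, 1), (17, 1), (18, 1), (19, 1), (20, 1), (21, 2), (23, 2), (25, 2),
    (27, 1), (28, 1), (29, 2), (31, 1), (32, 1), (33, 1), (34, 1), (35, 2), (37, 1), (38, 1), (39, 2),
    (41, 2), (43, 1), (44, 1), (45, 1), (34, 1), (35, 1), (36, 1), (37, 1), (30, 1), (31, 1), (32, 2),
    (34, 1), (14, 1), (15, 1), (16, 1), (17, 1), (18, 2), (20, 1), (21, 1), (11, 1), (12, 1), (7, 1),
    (8, 1), (9, 2), (11, 1), (12, 2), (14, 1), (15, 1), (16, 2), (18, 1), (14, 1), (5, 1), (6, 1), (7,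
    1), (8, 1), (9, 2), (11, 1), (12, 2), (14, 2), (16, 1), (17, 1), (18, 2), (20, 1), (21, 2), (23, 1),
    (24, 1), (25, 2), (27, 1), (28, 1), (29, 1), (30, 2), (32, 1), (33, 1), (34, 2), (36, 1), (37, 2),
    (39, 1), (40, 1), (41, 2), (43, 1), (44, 1), (45, 2), (47, 1), (48, 1), (49, 2), (51, 1), (52, 1),
    (53, 1), (54, 1), (55, 2), (57, 1), (58, 2), (60, 2), (62, 1), (63, 1), (64, 2), (66, 2), (68, 1),
    (69, 1), (70, 1), (71, 1), (72, 0), (63, 1), (64, 1), (61, 2), (63, 1), (64, 2), (66, 1), (67, 1),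
    (68, 1), (69, 1), (70, 1), (71, 0), (56, 1), (57, 1), (55, 1), (53, 2), (55, 2), (57, 2), (59, 1),
    (60, 1), (61, 1), (62, 1), (63, 1), (64, 1), (65, 1), (66, 2), (68, 1), (69, 1), (58, 1), (59, 1),
    (56, 1), (51, 2), (53, 1), (54, 1), (55, 1), (56, 2), (53, 1), (54, 1), (50, 1), (51, 2), (53, 1),
    (54, 2), (56, 1), (57, 2), (59, 2), (61, 1), (62, 1), (63, 1), (64, 2), (66, 1), (61, 1), (62, 1),
    (60, 1), (58, 1), (48, 1), (49, 1), (50, 1), (51, 1), (52, 1), (47, 1), (48, 1), (46, 1), (27, 1),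
    (28, 1), (29, 1), (30, 1), (31, 1), (32, 1), (33, 1), (34, 1), (35, 1), (26, 1), (27, 1), (28, 1),
    (25, 1), (26, 1), (23, 1), (24, 1), (20, 1), (21, 1), (22, 1), (23, 1), (24, 2), (26, 2), (28, 2),
    (30, 1), (31, 1), (10, 1), (11, 1), (9, 1), (6, 1), (7, 2), (9, 2), (11, 2), (13, 1), (14, 1), (15,
    1), (16, 1), (17, 1), (18, 1), (19, 1), (20, 1), (21, 2), (23, 1), (24, 1), (12, 1), (10, 1), (5,
    2), (7, 1), (8, 1), (9, 1), (10, 2), (12, 2), (14, 1), (15, 1), (7, 1), (8, 1), (4, 1), (5, 2), (7,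
    1), (8, 2), (10, 1), (11, 1), (12, 2), (14, 1), (15, 2), (17, 1), (18, 1), (19, 2), (21, 1), (17,
    1), (3, 1), (4, 1), (5, 1), (6, 1), (2, 1), (0, 2), (2, 2), (4, 1), (5, 1), (6, 2), (8, 1), (9, 1),
    (10, 1), (11, 1), (12, 2), (14, 1), (15, 2), (17, 2), (19, 1), (20, 1), (21, 2), (23, 1), (24, 2),
    (26, 1), (27, 1), (28, 2), (30, 1), (31, 2), (33, 1), (34, 1), (35, 2), (37, 1), (38, 1), (39, 1),
    (40, 1), (41, 2), (43, 1), (44, 1), (45, 1), (46, 2), (48, 2), (50, 1), (51, 1), (52, 2), (54, 1),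
    (55, 1), (56, 1), (57, 1), (58, 2), (60, 2), (62, 2), (64, 1), (65, 1), (66, 2), (68, 1), (69, 2),
    (71, 0), (65, 1), (66, 1), (67, 1), (63, 2), (65, 1), (66, 1), (67, 2), (69, 1), (70, 0), (69, 0),
    (66, 1), (67, 1), (65, 1), (66, 1), (67, 2), (69, 0), (61, 1), (62, 1), (54, 2), (56, 1), (57, 1),
    (58, 1), (59, 2), (56, 1), (57, 1), (53, 1), (54, 2), (56, 1), (57, 2), (59, 1), (60, 2), (62, 2),
    (64, 1), (65, 1), (66, 1), (67, 1), (68, 2), (70, 1), (71, 0), (63, 1), (61, 1), (51, 1), (52, 1),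
    (53, 1), (54, 1), (55, 1), (50, 1), (51, 1), (49, 1), (47, 1), (48, 1), (49, 2), (51, 2), (53, 1),
    (54, 1), (55, 2), (57, 1), (58, 1), (59, 1), (60, 1), (61, 2), (63, 2), (65, 1), (66, 2), (68, 1),
    (69, 1), (70, 1), (71, 1), (72, 2), (74, 1), (75, 0), (69, 1), (70, 1), (71, 1), (72, 1), (73, 1),
    (68, 1), (69, 1), (64, 1), (65, 1), (66, 2), (68, 1), (69, 2), (71, 1), (72, 1), (73, 2), (75, 0),
    (63, 1), (64, 2), (66, 1), (67, 1), (68, 1), (69, 2), (71, 1), (72, 1), (73, 2), (75, 1), (76, 1),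
    (62, 1), (63, 1), (64, 1), (65, 2), (67, 1), (61, 1), (62, 1), (63, 2), (65, 1), (60, 1), (61, 1),
    (59, 1), (42, 1), (43, 1), (44, 1), (45, 1), (46, 1), (47, 1), (48, 1), (41, 1), (42, 1), (43, 1),
    (40, 1), (39, 1), (40, 2), (42, 1), (43, 2), (45, 1), (46, 1), (30, 1), (31, 1), (32, 1), (33, 1),
    (34, 1), (35, 1), (36, 1), (37, 2), (29, 1), (27, 2), (29, 2), (31, 1), (32, 1), (33, 1), (34, 1),
    (35, 2), (37, 1), (38, 2), (40, 1), (41, 1), (42, 1), (43, 2), (45, 1), (46, 2), (48, 2), (50, 1),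
    (51, 1), (52, 1), (53, 1), (54, 1), (55, 1), (56, 1), (57, 2), (59, 2), (61, 2), (63, 1), (64, 1),
    (65, 2), (67, 2), (69, 1), (70, 1), (71, 1), (72, 1), (73, 2), (75, 1), (76, 2), (78, 1), (79, 1),
    (80, 2), (82, 1), (83, 0), (75, 1), (76, 1), (77, 1), (78, 1), (79, 1), (80, 1), (81, 1), (74, 1),
    (72, 2), (74, 2), (76, 1), (77, 1), (58, 1), (56, 2), (58, 2), (60, 1), (61, 1), (62, 1), (63, 1),
    (64, 1), (65, 1), (66, 1), (67, 1), (68, 2), (70, 1), (59, 1), (57, 1), (45, 1), (46, 1), (47, 1),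
    (48, 1), (49, 1), (50, 1), (51, 2), (53, 1), (54, 1), (55, 1), (56, 1), (57, 2), (59, 2), (61, 1),
    (62, 1), (54, 1), (55, 1), (44, 1), (42, 2), (44, 2), (46, 1), (47, 1), (48, 1), (49, 2), (51, 1),
    (52, 1), (47, 1), (45, 1), (32, 1), (33, 1), (34, 1), (35, 1), (36, 1), (37, 1), (38, 1), (39, 2),
    (31, 1), (32, 1), (30, 1), (28, 1), (13, 1), (14, 1), (12, 1), (10, 2), (12, 2), (14, 2), (16, 1),
    (17, 1), (18, 1), (19, 1), (20, 1), (21, 1), (22, 1), (23, 1), (24, 1), (25, 1), (26, 1), (27, 1),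
    (28, 2), (30, 2), (32, 2), (34, 1), (35, 1), (36, 1), (37, 2), (39, 1), (40, 2), (42, 1), (43, 1),
    (44, 1), (45, 2), (47, 2), (49, 1), (50, 1), (51, 1), (52, 2), (54, 1), (55, 2), (57, 1), (58, 1),
    (59, 2), (61, 1), (62, 2), (64, 1), (65, 1), (66, 2), (68, 1), (69, 1), (70, 2), (72, 1), (73, 1),
    (74, 2), (76, 1), (77, 2), (79, 1), (80, 1), (81, 2), (83, 0), (76, 1), (77, 1), (78, 1), (79, 1),
    (80, 1), (81, 1), (82, 1), (75, 1), (73, 2), (75, 2), (77, 1), (78, 1), (79, 1), (80, 1), (71, 2),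
    (73, 1), (74, 1), (75, 2), (77, 1), (78, 1), (73, 1), (70, 1), (71, 2), (73, 2), (75, 1), (76, 1),
    (61, 1), (62, 1), (63, 1), (60, 1), (58, 2), (60, 2), (62, 1), (63, 2), (65, 1), (66, 1), (67, 1),
    (68, 1), (69, 1), (70, 1), (71, 1), (56, 2), (58, 1), (59, 1), (60, 2), (62, 1), (63, 2), (65, 1),
    (66, 1), (67, 1), (68, 1), (58, 1), (55, 1), (56, 2), (58, 2), (60, 1), (61, 1), (62, 1), (63, 2),
    (65, 1), (66, 1), (60, 1), (61, 1), (59, 1), (57, 1), (51, 1), (52, 1), (53, 1), (54, 1), (55, 1),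
    (56, 1), (57, 2), (59, 2), (61, 2), (63, 1), (64, 1), (50, 1), (51, 1), (52, 1), (48, 2), (50, 1),
    (51, 1), (52, 2), (54, 1), (55, 1), (56, 1), (57, 1), (58, 1), (59, 1), (47, 1), (48, 2), (50, 1),
    (51, 1), (52, 2), (54, 1), (55, 1), (56, 1), (44, 1), (45, 1), (46, 1), (47, 1), (48, 2), (50, 1),
    (51, 1), (52, 2), (45, 1), (43, 2), (45, 2), (47, 1), (48, 1), (49, 1), (50, 1), (41, 2), (43, 1),
    (44, 1), (45, 2), (47, 1), (48, 1), (43, 1), (40, 1), (41, 2), (43, 2), (45, 1), (46, 1), (34, 2),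
    (36, 1), (37, 1), (38, 1), (39, 1), (40, 1), (41, 1), (33, 1), (34, 2), (36, 1), (37, 1), (38, 1),
    (32, 1), (33, 1), (34, 2), (36, 1), (31, 1), (32, 1), (30, 1), (27, 1), (28, 1), (19, 1), (20, 1),
    (21, 1), (17, 2), (19, 1), (20, 1), (21, 2), (23, 1), (24, 1), (25, 1), (26, 1), (27, 1), (28, 2),
    (30, 2), (32, 2), (34, 1), (35, 1), (36, 2), (38, 2), (40, 1), (41, 2), (43, 1), (44, 1), (45, 1),
    (46, 2), (48, 2), (50, 2), (52, 1), (53, 2), (55, 1), (56, 2), (58, 1), (59, 2), (61, 1), (62, 1),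
    (63, 1), (64, 2), (66, 2), (68, 2), (70, 1), (71, 2), (73, 1), (74, 1), (75, 1), (76, 2), (78, 2),
    (80, 2), (82, 2), (84, 0), (81, 1), (63, 1), (64, 1), (65, 1), (66, 1), (67, 1), (68, 1), (62, 1),
    (63, 1), (60, 2), (62, 1), (63, 2), (65, 1), (66, 1), (59, 1), (60, 2), (62, 1), (63, 2), (57, 2),
    (59, 1), (60, 1), (61, 1), (56, 1), (57, 2), (59, 1), (51, 2), (53, 1), (54, 1), (55, 1), (50, 1),
    (51, 2), (53, 1), (35, 1), (36, 1), (37, 1), (38, 1), (33, 2), (35, 1), (36, 1), (32, 1), (33, 2),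
    (31, 1), (23, 2), (25, 1), (26, 1), (27, 1), (28, 1), (29, 2), (31, 2), (33, 1), (34, 2), (36, 2),
    (38, 2), (40, 1), (41, 1), (42, 1), (43, 1), (44, 1), (45, 1), (46, 1), (47, 1), (48, 1), (49, 1),
    (50, 1), (51, 2), (53, 2), (55, 2), (57, 1), (58, 1), (59, 2), (61, 2), (63, 1), (64, 2), (66, 2),
    (68, 2), (70, 1), (71, 1), (72, 1), (73, 1), (74, 1), (75, 1), (76, 1), (77, 1), (78, 1), (79, 2),
    (81, 2), (83, 0), (74, 1), (75, 1), (76, 1), (77, 1), (78, 1), (79, 1), (80, 1), (81, 1), (73, 1),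
    (74, 1), (71, 2), (73, 1), (74, 2), (76, 1), (77, 1), (78, 1), (70, 1), (71, 2), (73, 1), (74, 2),
    (67, 1), (68, 2), (70, 1), (71, 1), (72, 1), (65, 1), (66, 1), (67, 1), (68, 2), (70, 1), (62, 2),
    (64, 1), (65, 1), (66, 1), (60, 1), (61, 1), (62, 2), (64, 1), (44, 1), (45, 1), (46, 1), (47, 1),
    (43, 1), (44, 1), (41, 2), (43, 1), (44, 2), (46, 1), (47, 2), (49, 1), (50, 1), (51, 1), (52, 1),
    (53, 1), (40, 1), (41, 2), (43, 1), (44, 2), (46, 1), (47, 2), (49, 1), (50, 1), (37, 1), (38, 2),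
    (40, 1), (41, 1), (42, 1), (35, 1), (36, 1), (37, 1), (38, 2), (40, 1), (32, 2), (34, 1), (35, 1),
    (36, 1), (30, 1), (31, 1), (32, 2), (34, 1), (20, 1), (21, 1), (19, 1), (20, 1), (21, 2), (23, 1),
    (24, 1), (25, 1), (26, 1), (27, 1), (28, 1), (29, 1), (30, 1), (31, 1), (32, 2), (34, 2), (36, 2),
    (38, 1), (39, 1), (40, 2), (42, 2), (44, 1), (45, 1), (46, 1), (47, 2), (49, 1), (50, 2), (52, 1),
    (53, 2), (55, 1), (56, 1), (57, 1), (58, 1), (59, 1), (60, 1), (61, 1), (62, 2), (64, 2), (66, 2),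
    (68, 1), (69, 1), (70, 2), (72, 2), (74, 1), (75, 2), (77, 1), (78, 2), (80, 1), (81, 2), (83, 0),
    (73, 2), (75, 1), (76, 1), (77, 1), (72, 1), (73, 2), (75, 1), (71, 1), (49, 1), (50, 1), (48, 1),
    (46, 2), (48, 2), (50, 2), (52, 1), (53, 1), (54, 1), (55, 1), (56, 1), (57, 1), (51, 1), (52, 1),
    (49, 1), (50, 1), (47, 1), (48, 1), (45, 1), (46, 1), (47, 1), (48, 2), (50, 2), (52, 2), (54, 1),
    (55, 1), (43, 2), (45, 1), (46, 1), (47, 1), (48, 1), (42, 1), (43, 2), (45, 1), (41, 1), (27, 1),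
    (15, 1), (16, 1), (13, 1), (8, 2), (10, 1), (11, 1), (12, 1), (13, 2), (10, 1), (11, 1), (7, 1), (8,
    2), (10, 1), (11, 2), (13, 1), (14, 2), (16, 2), (18, 1), (19, 1), (20, 1), (21, 1), (22, 2), (24,
    1), (25, 2), (27, 2), (29, 1), (30, 1), (31, 1), (32, 1), (33, 1), (34, 1), (35, 1), (36, 1), (37,
    2), (39, 2), (41, 2), (43, 1), (44, 1), (45, 2), (47, 1), (48, 2), (50, 1), (51, 1), (52, 2), (54,
    1), (55, 2), (57, 2), (59, 1), (60, 1), (61, 1), (62, 1), (63, 1), (64, 1), (65, 1), (66, 1), (67,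
    2), (69, 2), (71, 2), (73, 1), (74, 1), (75, 2), (77, 2), (79, 1), (80, 1), (81, 1), (82, 2), (84,
    1), (85, 0), (62, 1), (60, 2), (62, 2), (64, 1), (65, 1), (66, 1), (67, 1), (68, 1), (69, 1), (70,
    1), (71, 1), (72, 2), (63, 1), (61, 1), (59, 1), (60, 1), (61, 2), (63, 2), (65, 1), (66, 1), (58,
    1), (59, 1), (56, 1), (50, 1), (32, 1), (30, 2), (32, 2), (34, 1), (35, 1), (36, 1), (37, 1), (38,
    1), (39, 1), (40, 1), (41, 1), (42, 2), (33, 1), (31, 1), (29, 1), (30, 1), (31, 2), (33, 2), (35,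
    1), (36, 1), (28, 1), (29, 1), (26, 1), (17, 1), (15, 1), (5, 1), (6, 1), (7, 1), (8, 1), (9, 1),
    (4, 1), (5, 1), (3, 1), (1, 1), (2, 1), (3, 2), (5, 2), (7, 1), (8, 1), (9, 2), (11, 1), (12, 1),
    (13, 1), (14, 1), (15, 2), (17, 2), (19, 1), (20, 2), (22, 1), (23, 1), (24, 1), (25, 1), (26, 2),
    (28, 1), (29, 2), (31, 1), (32, 1), (33, 2), (35, 1), (36, 2), (38, 1), (39, 1), (40, 2), (42, 1),
    (43, 2), (45, 1), (46, 1), (47, 1), (48, 2), (50, 2), (52, 1), (53, 1), (54, 1), (55, 1), (56, 2),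
    (58, 1), (59, 2), (61, 1), (62, 1), (63, 2), (65, 1), (66, 2), (68, 1), (69, 1), (70, 2), (72, 1),
    (73, 2), (75, 1), (76, 1), (77, 2), (79, 1), (80, 2), (82, 1), (83, 1), (84, 1), (85, 1), (86, 2),
    (88, 1), (89, 0), (83, 1), (84, 1), (85, 1), (86, 1), (87, 1), (82, 1), (83, 1), (78, 1), (79, 1),
    (80, 2), (82, 1), (83, 2), (85, 1), (86, 1), (87, 2), (89, 0), (77, 1), (78, 2), (80, 1), (81, 1),
    (82, 1), (83, 2), (85, 1), (86, 1), (85, 1), (84, 1), (83, 1), (81, 1), (82, 1), (80, 1), (81, 1),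
    (76, 1), (77, 1), (78, 2), (80, 1), (75, 2), (74, 1), (71, 2), (73, 1), (72, 1), (70, 1), (71, 1),
    (65, 1), (66, 1), (64, 1), (62, 2), (64, 2), (66, 2), (68, 1), (69, 1), (70, 1), (67, 1), (68, 1),
    (69, 1), (65, 1), (60, 2), (62, 1), (63, 1), (64, 1), (65, 2), (67, 1), (68, 1), (66, 1), (65, 1),
    (62, 1), (63, 1), (59, 1), (60, 2), (62, 1), (53, 1), (54, 1), (55, 1), (56, 1), (57, 1), (52, 1),
    (53, 1), (49, 1), (50, 2), (52, 1), (53, 2), (55, 1), (56, 1), (57, 2), (48, 2), (50, 1), (51, 1),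
    (52, 1), (53, 2), (55, 1), (56, 1), (55, 1), (54, 1), (53, 1), (51, 1), (52, 1), (50, 1), (51, 1),
    (47, 1), (48, 2), (50, 1), (45, 2), (44, 1), (41, 2), (43, 1), (42, 1), (40, 1), (41, 1), (35, 1),
    (36, 1), (34, 1), (32, 2), (34, 2), (36, 2), (38, 1), (39, 1), (40, 1), (37, 1), (38, 1), (39, 1),
    (35, 1), (30, 2), (32, 1), (33, 1), (34, 1), (35, 2), (37, 1), (38, 1), (36, 1), (35, 1), (32, 1),
    (33, 1), (29, 1), (30, 2), (32, 1), (23, 1), (24, 1), (25, 1), (26, 1), (27, 1), (22, 1), (23, 1),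
    (18, 1), (19, 1), (20, 2), (22, 1), (23, 2), (25, 1), (26, 1), (27, 2), (17, 1), (18, 2), (20, 1),
    (21, 1), (22, 1), (23, 2), (25, 1), (26, 1), (25, 1), (24, 1), (23, 1), (21, 1), (22, 1), (20, 1),
    (21, 1), (14, 1), (15, 1), (16, 1), (17, 1), (18, 2), (20, 1), (11, 2), (13, 1), (14, 1), (15, 2),
    (10, 1), (11, 2), (13, 1), (14, 1), (13, 1), (12, 1), (11, 1), (8, 1), (9, 1), (10, 1), (7, 1), (8,
    1), (9, 1), (6, 1), (4, 1), (5, 1), (6, 2), (8, 1)] = true := by decide +kernel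

end CfsgLib.Sporadic.FiTransfer.Uniq
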