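import Cfsg.Agent.Lib.Sporadic.FiTransfer.Uniq.Local
import Cfsg.Agent.Lib.Sporadic.FiTransfer.Uniq.WordData

/-!
# The three relators commute with the nine generators
-/

set_option autoImplicit false
set_option linter.unusedSectionVars false

namespace CfsgLib.Sporadic.FiTransfer.Uniq

open CfsgLib.Sporadic.MTwentyTwo (Ctx)

variable {G : Type*} [Group G] [Finite G] {D : Set G} (ctx : Ctx D) {v : ℕ → G}

theorem ev_rep (v : ℕ → G) (k : ℕ) (w : List ℕ) : ev v (rep k w) = ev v w ^ k := by
  induction k with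
  | zero => simp [rep, ev]
  | succ k ih =>
    rw [show rep (k + 1) w = w ++ rep k w by simp [rep, List.replicate_succ], ev_append, ih, ← pow_succ']

include ctx

theorem Diag.rels (hv : Diag D v) : Rels v where
  sq i := by
    rcases lt_or_ge i 9 with h | h
    · exact FischerTransitivity.sq ctx.hD (hv.mem i h)
    · rw [hv.out i h, mul_one]
  comm i hi j hj h := (hv.commute ctx hi hj h).eq
  braid i hi j hj h := ThreeTransp.Basic.braid ctx.hD.1 (hv.mem i hi) (hv.mem j hj) (hv.noncomm ctx hi hj h)

/-- The diagram turned about its axis. -/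
def turn (i : ℕ) : ℕ := [6, 5, 4, 3, 2, 1, 0, 7, 8].getD i i

theorem Diag.turned (hv : Diag D v) : Diag D (v ∘ turn) where
  mem i hi := hv.mem _ (by revert i; decide)
  out i hi := by
    have h : turn i = i := List.getD_eq_default _ _ (by simpa using hi)
    rw [Function.comp_apply, h, hv.out i hi]
  adj i hi j hj hij := by
    have h : ∀ i < 9, ∀ j < 9, turn i < 9 ∧ (i ≠ j → turn i ≠ turn j) ∧ joined (turn i) (turn j) = joined i j := by
      decide
    obtain ⟨h1, h2, h3⟩ := h i hi j hj
    rw [Function.comp_apply, Function.comp_apply,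
      hv.adj _ h1 _ (h j hj i hi).1 (h2 hij), h3]

/-- The first E7 element. -/
def sevenElt (v : ℕ → G) : G := ev v sevenWord ^ 9

/-- The spider element. -/
def spiderElt (v : ℕ → G) : G := ev v spiderWord ^ 10

theorem commute_of_move (hv : Diag D v) {x : G} {w : List ℕ} (hw : ev v w = x) {s : ℕ}
    {m₁ m₂ : List (ℕ × ℕ)} (h : sameWord (w ++ [s]) ([s] ++ w) m₁ m₂ = true) : Commute x (v s) := by
  have := ev_eq (hv.rels ctx) h
  rw [ev_append, ev_append, ev_singleton, hw] at this
  exact this

theorem seven_commute (hv : Diag D v) {i : ℕ} (hi : i < 9) : Commute (sevenElt v) (v i) := by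
  set X := sevenElt v
  have hX : ev v (rep 9 sevenWord) = X := ev_rep v 9 sevenWord
  have h0 := commute_of_move ctx hv hX seven_move0
  have h1 := commute_of_move ctx hv hX seven_move1
  have h2 := commute_of_move ctx hv hX seven_move2
  have h3 := commute_of_move ctx hv hX seven_move3
  have h4 := commute_of_move ctx hv hX seven_move4
  have h5 := commute_of_move ctx hv hX seven_move5
  have h7 := commute_of_move ctx hv hX seven_move7
  have key : ∀ {j k : ℕ}, Commute X (v j) → j < 9 → k < 9 →
      (Commute (v j) (X * v k * X⁻¹) ↔ Commute (v j) (v k)) := fun {j k} h _ _ => by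
    have hf : X * v j * X⁻¹ = v j := by rw [h.eq, mul_inv_cancel_right]
    exact ⟨fun hc => (Commute.conj_iff X).1 (hf.symm ▸ hc), fun hc => hf ▸ (Commute.conj_iff X).2 hc⟩
  have cm : ∀ j k, j < 9 → k < 9 → Commute X (v j) → joined j k = false → Commute (v j) (X * v k * X⁻¹) :=
    fun j k hj hk h hjk => (key h hj hk).2 (hv.commute ctx hj hk hjk)
  have h8 : Commute X (v 8) := by
    have e := (unique_from_a ctx hv (ctx.hD.2.1 X _ (hv.mem 8 (by norm_num))) (cm 0 8 (by norm_num) (by norm_num) h0 (by decide))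
      (cm 1 8 (by norm_num) (by norm_num) h1 (by decide)) (cm 2 8 (by norm_num) (by norm_num) h2 (by decide))
      (cm 3 8 (by norm_num) (by norm_num) h3 (by decide)) (cm 4 8 (by norm_num) (by norm_num) h4 (by decide))).1
      (cm 5 8 (by norm_num) (by norm_num) h5 (by decide))
      (fun hc => hv.noncomm ctx (i := 7) (j := 8) (by norm_num) (by norm_num) (by decide)
        ((key h7 (by norm_num) (by norm_num)).1 hc))
    exact mul_inv_eq_iff_eq_mul.1 e
  have h6 : Commute X (v 6) := by
    have e := (unique_from_a ctx hv (ctx.hD.2.1 X _ (hv.mem 6 (by norm_num))) (cm 0 6 (by norm_num) (by norm_num) h0 (by decide))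
      (cm 1 6 (by norm_num) (by norm_num) h1 (by decide)) (cm 2 6 (by norm_num) (by norm_num) h2 (by decide))
      (cm 3 6 (by norm_num) (by norm_num) h3 (by decide)) (cm 4 6 (by norm_num) (by norm_num) h4 (by decide))).2
      (cm 7 6 (by norm_num) (by norm_num) h7 (by decide)) (cm 8 6 (by norm_num) (by norm_num) h8 (by decide))
      (fun hc => hv.noncomm ctx (i := 5) (j := 6) (by norm_num) (by norm_num) (by decide)
        ((key h5 (by norm_num) (by norm_num)).1 hc))
    exact mul_inv_eq_iff_eq_mul.1 e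
  interval_cases i <;> assumption

/-- The element forming an infinite pair with `b` in the Coxeter group has product of order three with it. -/
theorem far_cube (hv : Diag D v) : (v 1 * ev v farWord) ^ 3 = 1 := by
  set g := ev v farWord
  have hg : g ∈ D := ev_palindrome_mem (hv.rels ctx) ctx.hD.2.1 (s := 8) (hv.mem 8 (by norm_num)) farConj
  refine (ctx.hD.1.2 _ (hv.mem 1 (by norm_num)) g hg).resolve_left fun h2 => ?_
  have hb : Commute (v 1) g := (ThreeTransp.Basic.commute_iff (FischerTransitivity.sq ctx.hD (hv.mem 1 (by norm_num)))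
    (FischerTransitivity.sq ctx.hD hg)).2 h2
  have mv : ∀ {x : ℕ} {m₁ m₂}, sameWord ([x] ++ farWord) (farWord ++ [x]) m₁ m₂ = true → Commute (v x) g := by
    intro x m₁ m₂ h
    have := ev_eq (hv.rels ctx) h
    rw [ev_append, ev_append, ev_singleton] at this
    exact this
  have c0 := mv far_move0
  have c3 := mv far_move3
  have c4 := mv far_move4
  have c5 := mv far_move5
  have c7 := mv far_move7
  have c8 := mv far_move8
  have hg8 : g ≠ v 8 := fun e =>
    hv.noncomm ctx (i := 7) (j := 8) (by norm_num) (by norm_num) (by decide) (e ▸ c7)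
  exact (facts_from_i ctx hv hg hg8 c8 c7 c3 c4 c5).2 c0 hb

theorem ev_conj_rep_eq_one (hv : Diag D v) (u T : List ℕ) (hT : ev v T ^ 3 = 1) :
    ev v (u ++ rep 3 T ++ u.reverse) = 1 := by
  rw [ev_append, ev_append, ev_rep, hT, mul_one, ev_reverse_eq (hv.rels ctx), mul_inv_cancel]

theorem spider_seven (hv : Diag D v) :
    ∀ s ∈ [1, 2, 3, 4, 5, 7, 8], Commute (spiderElt v) (v s) := by
  have hT : ev v ([1] ++ farWord) ^ 3 = 1 := by
    rw [ev_append, ev_singleton]; exact far_cube ctx hv
  have hT' : ev v ([1] ++ farWord).reverse ^ 3 = 1 := by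
    rw [ev_reverse_eq (hv.rels ctx), inv_pow, hT, inv_one]
  have hZ : ev v (rep 10 spiderWord) = spiderElt v := ev_rep v 10 spiderWord
  have main : ∀ {s : ℕ} {P : List ℕ} {m₁ m₂}, ev v P = 1 →
      sameWord (rep 10 spiderWord ++ [s]) (P ++ ([s] ++ rep 10 spiderWord)) m₁ m₂ = true →
      Commute (spiderElt v) (v s) := by
    intro s P m₁ m₂ hP h
    have := ev_eq (hv.rels ctx) h
    rw [ev_append, ev_append, ev_append, ev_singleton, hP, one_mul, hZ] at this
    exact this
  intro s hs
  simp only [List.mem_cons, List.not_mem_nil, or_false] at hs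
  rcases hs with rfl | rfl | rfl | rfl | rfl | rfl | rfl
  · exact main (ev_conj_rep_eq_one ctx hv _ _ hT') spider_move1
  · exact main (ev_conj_rep_eq_one ctx hv _ _ hT) spider_move2
  · exact main (ev_conj_rep_eq_one ctx hv _ _ hT) spider_move3
  · exact main (P := []) rfl spider_move4
  · exact main (ev_conj_rep_eq_one ctx hv _ _ hT') spider_move5
  · exact main (ev_conj_rep_eq_one ctx hv _ _ hT') spider_move7
  · exact main (ev_conj_rep_eq_one ctx hv _ _ hT') spider_move8

theorem spider_commute (hv : Diag D v) {i : ℕ} (hi : i < 9) : Commute (spiderElt v) (v i) := by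
  set Z := spiderElt v
  have h7 := spider_seven ctx hv
  have c : ∀ j ∈ [1, 2, 3, 4, 5, 7, 8], ∀ k, k < 9 →
      (Commute (v j) (Z * v k * Z⁻¹) ↔ Commute (v j) (v k)) := fun j hj k _ => by
    have hf : Z * v j * Z⁻¹ = v j := by rw [(h7 j hj).eq, mul_inv_cancel_right]
    exact ⟨fun hc => (Commute.conj_iff Z).1 (hf.symm ▸ hc), fun hc => hf ▸ (Commute.conj_iff Z).2 hc⟩
  have p : ∀ j ∈ [1, 2, 3, 4, 5, 7, 8], j < 9 := by decide
  have h0 : Commute Z (v 0) := by
    have cm : ∀ j ∈ [1, 2, 3, 4, 5, 7, 8], joined j 0 = false → Commute (v j) (Z * v 0 * Z⁻¹) :=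
      fun j hj h => (c j hj 0 (by norm_num)).2 (hv.commute ctx (p j hj) (by norm_num) h)
    have hne : Z * v 0 * Z⁻¹ ≠ v 8 := fun e => by
      have := cm 7 (by decide) (by decide)
      rw [e] at this
      exact hv.noncomm ctx (i := 7) (j := 8) (by norm_num) (by norm_num) (by decide) this
    have e := (facts_from_i ctx hv (ctx.hD.2.1 Z _ (hv.mem 0 (by norm_num))) hne (cm 8 (by decide) (by decide))
      (cm 7 (by decide) (by decide)) (cm 3 (by decide) (by decide)) (cm 4 (by decide) (by decide))
      (cm 5 (by decide) (by decide))).1 (cm 2 (by decide) (by decide))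
      (fun hc => hv.noncomm ctx (i := 1) (j := 0) (by norm_num) (by norm_num) (by decide)
        ((c 1 (by decide) 0 (by norm_num)).1 hc))
    exact mul_inv_eq_iff_eq_mul.1 e
  have h6 : Commute Z (v 6) := by
    have cm : ∀ j ∈ [1, 2, 3, 4, 5, 7, 8], joined j 6 = false → Commute (v j) (Z * v 6 * Z⁻¹) :=
      fun j hj h => (c j hj 6 (by norm_num)).2 (hv.commute ctx (p j hj) (by norm_num) h)
    have hne : Z * v 6 * Z⁻¹ ≠ v 8 := fun e => by
      have := cm 7 (by decide) (by decide)
      rw [e] at this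
      exact hv.noncomm ctx (i := 7) (j := 8) (by norm_num) (by norm_num) (by decide) this
    have e := (facts_from_i ctx (hv.turned ctx) (y := Z * v 6 * Z⁻¹) (ctx.hD.2.1 Z _ (hv.mem 6 (by norm_num))) hne
      (cm 8 (by decide) (by decide)) (cm 7 (by decide) (by decide)) (cm 3 (by decide) (by decide))
      (cm 2 (by decide) (by decide)) (cm 1 (by decide) (by decide))).1 (cm 4 (by decide) (by decide))
      (fun hc => hv.noncomm ctx (i := 5) (j := 6) (by norm_num) (by norm_num) (by decide)
        ((c 5 (by decide) 6 (by norm_num)).1 hc))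
    exact mul_inv_eq_iff_eq_mul.1 e
  interval_cases i <;> first | assumption | exact h7 _ (by decide)

/-- The second E7 element. -/
theorem seven_commute' (hv : Diag D v) {i : ℕ} (hi : i < 9) :
    Commute (ev v [1, 2, 3, 4, 5, 6, 7] ^ 9) (v i) := by
  set X' := sevenElt (v ∘ turn)
  have hX' : X' = ev v [6, 5, 4, 3, 2, 1, 7] ^ 9 := by
    show ev (v ∘ turn) sevenWord ^ 9 = _
    simp [ev, sevenWord, turn]
  have hc : ∀ j < 9, Commute X' (v j) := fun j hj => by
    have h : turn (turn j) = j ∧ turn j < 9 := by revert j; decide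
    have := seven_commute ctx (hv.turned ctx) h.2
    rwa [Function.comp_apply, h.1] at this
  have h2 : ev v [1, 2, 3, 4, 5, 6, 7] ^ 9 = v 7 * X'⁻¹ * v 7 := by
    have e : ev v [1, 2, 3, 4, 5, 6, 7] = v 7 * (ev v [6, 5, 4, 3, 2, 1, 7])⁻¹ * (v 7)⁻¹ := by
      rw [← ev_reverse_eq (hv.rels ctx),
        inv_eq_of_mul_eq_one_right ((hv.rels ctx).sq 7)]
      simp only [List.reverse_cons, List.reverse_nil, List.nil_append, List.cons_append, ev_cons, ev_nil, mul_one,
        ← mul_assoc, (hv.rels ctx).sq 7, one_mul]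
    rw [e, conj_pow, inv_pow, ← hX', inv_eq_of_mul_eq_one_right ((hv.rels ctx).sq 7)]
  rw [h2, show v 7 * X'⁻¹ * v 7 = X'⁻¹ by
    rw [← ((hc 7 (by norm_num)).inv_left).eq, mul_assoc, (hv.rels ctx).sq 7, mul_one]]
  exact (hc i hi).inv_left

end CfsgLib.Sporadic.FiTransfer.Uniq
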